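import Cfsg.Agent.Lib.Char.Orth
import Mathlib.GroupTheory.GroupAction.Quotient

/-!
# Completeness of the irreducible characters and column orthogonality
-/

set_option autoImplicit false

open scoped ComplexConjugate
open Module

namespace CfsgLib.Char

universe u v

section Completeness

variable {G : Type u} [Group G] [Fintype G]

/-- The operator `∑ f g • ρ g` attached to a function on the group. -/
noncomputable def opOfFun {V : Type v} [AddCommGroup V] [Module ℂ V] (ρ : Representation ℂ G V)
    (f : G → ℂ) : Module.End ℂ V := ∑ g, f g • ρ g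

theorem trace_opOfFun {V : Type v} [AddCommGroup V] [Module ℂ V] (ρ : Representation ℂ G V)
    (f : G → ℂ) : LinearMap.trace ℂ V (opOfFun ρ f) = ∑ g, f g * ρ.character g := by
  simp [opOfFun, map_sum, Representation.character]

/-- For a class function the operator commutes with the group. -/
theorem opOfFun_commute {V : Type v} [AddCommGroup V] [Module ℂ V] (ρ : Representation ℂ G V)
    {f : G → ℂ} (hf : Cfsg.IsClassFunction G f) (h : G) :
    opOfFun ρ f ∘ₗ ρ h = ρ h ∘ₗ opOfFun ρ f := by
  change opOfFun ρ f * ρ h = ρ h * opOfFun ρ f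
  simp only [opOfFun, Finset.sum_mul, Finset.mul_sum, smul_mul_assoc, mul_smul_comm, ← map_mul]
  refine Fintype.sum_equiv (MulAut.conj h⁻¹).toEquiv _ _ fun g => ?_
  simp only [MulEquiv.toEquiv_eq_coe, EquivLike.coe_coe, MulAut.conj_apply]
  rw [hf g h⁻¹]
  congr 2
  group

/-- On an irreducible representation the operator of a class function is a scalar. -/
theorem opOfFun_irreducible {V : Type v} [AddCommGroup V] [Module ℂ V] [FiniteDimensional ℂ V]
    (ρ : Representation ℂ G V) [ρ.IsIrreducible] {f : G → ℂ} (hf : Cfsg.IsClassFunction G f) :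
    opOfFun ρ f = ((∑ g, f g * ρ.character g) / finrank ℂ V) • LinearMap.id := by
  let T : Representation.IntertwiningMap ρ ρ := ⟨opOfFun ρ f, opOfFun_commute ρ hf⟩
  obtain ⟨c, hc⟩ :=
    Representation.IsIrreducible.algebraMap_intertwiningMap_bijective_of_isAlgClosed.2 T
  have hc' : opOfFun ρ f = c • LinearMap.id := by
    have h2 := congrArg (fun F : Representation.IntertwiningMap ρ ρ => F.toLinearMap) hc
    simp only [Algebra.algebraMap_eq_smul_one] at h2
    exact h2.symm
  have hn : (finrank ℂ V : ℂ) ≠ 0 := by exact_mod_cast (finrank_pos_of_isIrreducible ρ).ne'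
  rw [← trace_opOfFun, hc', map_smul, LinearMap.trace_id, smul_eq_mul, mul_div_assoc,
    div_self hn, mul_one]

/-- If a class function is orthogonal to every irreducible character its operator is zero. -/
theorem opOfFun_eq_zero {f : G → ℂ} (hf : Cfsg.IsClassFunction G f)
    (h : ∀ χ, Cfsg.IsIrrCharacter G χ → ∑ g, f g * χ g = 0)
    {V : Type v} [AddCommGroup V] [Module ℂ V] [FiniteDimensional ℂ V]
    (ρ : Representation ℂ G V) : opOfFun ρ f = 0 := by
  induction hn : finrank ℂ V using Nat.strong_induction_on generalizing V with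
  | _ n ih =>
    rcases trichotomy ρ with hs | hirr | ⟨W, W', hc, hW, hW'⟩
    · exact Subsingleton.elim _ _
    · rw [opOfFun_irreducible ρ hf, h _ (isIrrCharacter_character ρ)]
      simp
    · have hsub : ∀ (U : Subrepresentation ρ) (x : U.toSubmodule),
          opOfFun U.toRepresentation f = 0 → opOfFun ρ f x = 0 := by
        intro U x hU
        have h2 := congrArg (fun T : Module.End ℂ U.toSubmodule => ((T x : U.toSubmodule) : V)) hU
        simpa [opOfFun, LinearMap.sum_apply, Submodule.coe_sum,
          Subrepresentation.toRepresentation] using h2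
      ext v
      obtain ⟨a, b, ha, hb, rfl⟩ :=
        Submodule.codisjoint_iff_exists_add_eq.mp hc.codisjoint v
      simp [map_add, hsub W ⟨a, ha⟩ (ih _ (hn ▸ hW) W.toRepresentation rfl),
        hsub W' ⟨b, hb⟩ (ih _ (hn ▸ hW') W'.toRepresentation rfl)]

/-- A class function orthogonal to all irreducible characters is zero. -/
theorem eq_zero_of_forall_classInner_eq_zero {θ : G → ℂ} (hθ : Cfsg.IsClassFunction G θ)
    (h : ∀ χ, Cfsg.IsIrrCharacter G χ → Cfsg.classInner θ χ = 0) : θ = 0 := by
  have : FiniteDimensional ℂ (MonoidAlgebra ℂ G) :=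
    Module.Finite.equiv (MonoidAlgebra.coeffLinearEquiv ℂ).symm
  let f : G → ℂ := fun g => θ g⁻¹
  have hf : Cfsg.IsClassFunction G f := fun g x => by
    change θ (x * g * x⁻¹)⁻¹ = θ g⁻¹
    rw [← hθ g⁻¹ x]
    congr 1
    group
  have hf0 : ∀ χ, Cfsg.IsIrrCharacter G χ → ∑ g, f g * χ g = 0 := by
    intro χ hχ
    have h2 := h χ hχ
    simp only [Cfsg.classInner, mul_eq_zero, inv_eq_zero, Nat.cast_eq_zero,
      Nat.card_pos.ne', false_or] at h2
    rw [← h2]
    refine Fintype.sum_equiv (Equiv.inv G) _ _ fun g => ?_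
    simp [f, IsIrrCharacter.apply_inv hχ]
  have hT := opOfFun_eq_zero hf hf0 (Representation.leftRegular ℂ G)
  funext g
  have h3 := congrArg (fun x : MonoidAlgebra ℂ G => x.coeff g⁻¹)
    (LinearMap.congr_fun hT (MonoidAlgebra.single 1 1))
  classical
  simpa [opOfFun, LinearMap.sum_apply, Finsupp.single_apply, f] using h3

/-- Expansion of a class function in irreducible characters. -/
theorem IsClassFunction.eq_sum_classInner {θ : G → ℂ} (hθ : Cfsg.IsClassFunction G θ) :
    θ = ∑ χ : Cfsg.IrrCharacter G, Cfsg.classInner θ χ • (χ : G → ℂ) := by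
  refine sub_eq_zero.mp (eq_zero_of_forall_classInner_eq_zero ?_ fun χ hχ => ?_)
  · intro g x
    simp only [Pi.sub_apply, Finset.sum_apply, Pi.smul_apply, hθ g x,
      fun ψ : Cfsg.IrrCharacter G => IsIrrCharacter.isClassFunction ψ.2 g x]
  · rw [classInner_sub_left, classInner_sum_smul_irr _ ⟨χ, hχ⟩, sub_self]

/-- Parseval's formula. -/
theorem classInner_eq_sum {θ η : G → ℂ} (hθ : Cfsg.IsClassFunction G θ)
    (hη : Cfsg.IsClassFunction G η) :
    Cfsg.classInner θ η = ∑ χ : Cfsg.IrrCharacter G,
      Cfsg.classInner θ χ * conj (Cfsg.classInner η χ) := by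
  conv_lhs => rw [IsClassFunction.eq_sum_classInner hθ, IsClassFunction.eq_sum_classInner hη]
  exact classInner_sum_smul_sum_smul _ _

end Completeness

section Columns

variable {G : Type u} [Group G]

theorem index_centralizer_eq_card_isConj (g : G) :
    (Subgroup.centralizer ({g} : Set G)).index = Nat.card {x : G // IsConj g x} := by
  rw [Subgroup.centralizer_eq_comap_stabilizer]
  change ((MulAction.stabilizer (ConjAct G) g).comap
    (ConjAct.toConjAct (G := G)).toMonoidHom).index = _
  rw [Subgroup.index_comap_of_surjective _ (ConjAct.toConjAct (G := G)).surjective,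
    MulAction.index_stabilizer, ← Nat.card_coe_set_eq]
  exact Nat.card_congr (Equiv.subtypeEquivRight fun x => by
    rw [ConjAct.mem_orbit_conjAct, isConj_comm])

theorem card_isConj_mul_card_centralizer (g : G) :
    Nat.card {x : G // IsConj g x} * Nat.card (Subgroup.centralizer ({g} : Set G)) = Nat.card G := by
  rw [← index_centralizer_eq_card_isConj, Subgroup.index_mul_card]

variable [Finite G]

/-- Column orthogonality. -/
theorem sum_mul_conj (g h : G) [Decidable (IsConj g h)] :
    ∑ χ : Cfsg.IrrCharacter G, (χ : G → ℂ) g * conj ((χ : G → ℂ) h) =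
      if IsConj g h then (Nat.card (Subgroup.centralizer ({g} : Set G)) : ℂ) else 0 := by
  classical
  cases nonempty_fintype G
  let δ : G → ℂ := fun x => if IsConj h x then 1 else 0
  have hδ : Cfsg.IsClassFunction G δ := fun a x => by
    have ha : IsConj a (x * a * x⁻¹) := isConj_iff.mpr ⟨x, rfl⟩
    have hiff : IsConj h (x * a * x⁻¹) ↔ IsConj h a :=
      ⟨fun e => e.trans ha.symm, fun e => e.trans ha⟩
    exact if_congr hiff rfl rfl
  have hval : ∀ χ : Cfsg.IrrCharacter G, Cfsg.classInner δ χ =
      (Nat.card G : ℂ)⁻¹ * Nat.card {x : G // IsConj h x} * conj ((χ : G → ℂ) h) := by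
    intro χ
    rw [Cfsg.classInner, mul_assoc]
    congr 1
    simp only [δ, ite_mul, one_mul, zero_mul, ← Finset.sum_filter]
    rw [Finset.sum_congr rfl (g := fun _ => conj ((χ : G → ℂ) h)) (fun x hx => by
      rw [IsClassFunction.eq_of_isConj (IsIrrCharacter.isClassFunction χ.2)
        (Finset.mem_filter.mp hx).2]), Finset.sum_const, nsmul_eq_mul]
    congr 1
    rw [Nat.card_eq_fintype_card, Fintype.card_subtype]
  have h2 := congrFun (IsClassFunction.eq_sum_classInner hδ) g
  simp only [hval, Finset.sum_apply, Pi.smul_apply, smul_eq_mul] at h2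
  have hG : (Nat.card G : ℂ) ≠ 0 := Nat.cast_ne_zero.mpr Nat.card_pos.ne'
  have hc : (Nat.card {x : G // IsConj h x} : ℂ) ≠ 0 := by
    have : Nonempty {x : G // IsConj h x} := ⟨⟨h, IsConj.refl h⟩⟩
    exact Nat.cast_ne_zero.mpr Nat.card_pos.ne'
  have h3 : ∑ χ : Cfsg.IrrCharacter G, (χ : G → ℂ) g * conj ((χ : G → ℂ) h) =
      (Nat.card G : ℂ) / Nat.card {x : G // IsConj h x} * δ g := by
    rw [h2, Finset.mul_sum]
    exact Finset.sum_congr rfl fun χ _ => by field_simp
  rw [h3]
  by_cases hgh : IsConj g h
  · simp only [δ, hgh.symm, hgh, if_true, mul_one]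
    rw [div_eq_iff hc]
    have he : Nat.card {x : G // IsConj h x} = Nat.card {x : G // IsConj g x} :=
      Nat.card_congr (Equiv.subtypeEquivRight fun x =>
        ⟨fun e => hgh.trans e, fun e => hgh.symm.trans e⟩)
    rw [he, mul_comm]
    exact_mod_cast (card_isConj_mul_card_centralizer g).symm
  · have hhg : ¬ IsConj h g := fun e => hgh e.symm
    simp only [δ, if_neg hhg, if_neg hgh, mul_zero]

/-- The squares of the degrees sum to the group order. -/
theorem sum_apply_one_sq :
    ∑ χ : Cfsg.IrrCharacter G, (χ : G → ℂ) 1 ^ 2 = (Nat.card G : ℂ) := by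
  classical
  have h := sum_mul_conj (1 : G) 1
  rw [if_pos (IsConj.refl 1)] at h
  have e : Subgroup.centralizer ({1} : Set G) = ⊤ := by
    ext x; simp [Subgroup.mem_centralizer_singleton_iff]
  rw [e, Subgroup.card_top] at h
  rw [← h]
  refine Finset.sum_congr rfl fun χ _ => ?_
  rw [← IsIrrCharacter.apply_inv χ.2, inv_one, sq]

theorem sum_degree_sq :
    ∑ χ : Cfsg.IrrCharacter G, degree (χ : G → ℂ) ^ 2 = Nat.card G := by
  have h := sum_apply_one_sq (G := G)
  simp only [← IsCharacter.degree_cast (IsIrrCharacter.isCharacter (Subtype.prop _))] at h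
  exact_mod_cast h

/-- Two elements not separated by any irreducible character are conjugate. -/
theorem isConj_of_forall_eq {g h : G}
    (he : ∀ χ, Cfsg.IsIrrCharacter G χ → χ g = χ h) : IsConj g h := by
  classical
  by_contra hn
  have h1 := sum_mul_conj g g
  have h2 := sum_mul_conj g h
  rw [if_pos (IsConj.refl g)] at h1
  rw [if_neg hn] at h2
  rw [Finset.sum_congr rfl (fun χ _ => by rw [← he χ χ.2] :
    ∀ χ ∈ (Finset.univ : Finset (Cfsg.IrrCharacter G)),
      (χ : G → ℂ) g * conj ((χ : G → ℂ) h) = (χ : G → ℂ) g * conj ((χ : G → ℂ) g)), h1] at h2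
  exact (Nat.card_pos (α := Subgroup.centralizer ({g} : Set G))).ne' (by exact_mod_cast h2)

/-- Functions on the conjugacy classes as class functions. -/
theorem isClassFunction_comp_mk (f : ConjClasses G → ℂ) :
    Cfsg.IsClassFunction G (fun g => f (ConjClasses.mk g)) := fun g x => by
  exact congrArg f (ConjClasses.mk_eq_mk_iff_isConj.mpr (isConj_iff.mpr ⟨x, rfl⟩).symm)

/-- The number of irreducible characters is the number of conjugacy classes. -/
theorem card_irrCharacter : Nat.card (Cfsg.IrrCharacter G) = Nat.card (ConjClasses G) := by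
  classical
  cases nonempty_fintype G
  have : Finite (ConjClasses G) := Finite.of_surjective ConjClasses.mk Quotient.mk_surjective
  have := Fintype.ofFinite (ConjClasses G)
  let ι : (ConjClasses G → ℂ) →ₗ[ℂ] (G → ℂ) := LinearMap.funLeft ℂ ℂ ConjClasses.mk
  have hι : Function.Injective ι :=
    LinearMap.funLeft_injective_of_surjective ℂ ℂ _ Quotient.mk_surjective
  have hlift : ∀ χ : Cfsg.IrrCharacter G, ∃ f : ConjClasses G → ℂ, ι f = (χ : G → ℂ) := fun χ =>
    ⟨Quotient.lift (χ : G → ℂ)
      (fun a b hab => IsClassFunction.eq_of_isConj (IsIrrCharacter.isClassFunction χ.2) hab), rfl⟩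
  choose F hF using hlift
  have hli : LinearIndependent ℂ F := by
    refine LinearIndependent.of_comp ι ?_
    convert linearIndependent_irrCharacter (G := G) using 1
    exact funext hF
  have hsp : ⊤ ≤ Submodule.span ℂ (Set.range F) := by
    intro f _
    have h2 := IsClassFunction.eq_sum_classInner (isClassFunction_comp_mk f)
    have h3 : f = ∑ χ : Cfsg.IrrCharacter G,
        Cfsg.classInner (fun g => f (ConjClasses.mk g)) χ • F χ := by
      apply hι
      simp only [map_sum, map_smul, hF]
      exact h2
    rw [h3]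
    exact Submodule.sum_mem _ fun χ _ => Submodule.smul_mem _ _ (Submodule.subset_span ⟨χ, rfl⟩)
  have h4 := finrank_eq_card_basis (Basis.mk hli hsp)
  rw [finrank_fintype_fun_eq_card] at h4
  rw [Nat.card_eq_fintype_card, Nat.card_eq_fintype_card, h4]

/-- The regular character is the sum of the irreducible characters times their degrees. -/
theorem sum_apply_one_mul (g : G) [Decidable (g = 1)] :
    ∑ χ : Cfsg.IrrCharacter G, (χ : G → ℂ) 1 * (χ : G → ℂ) g =
      if g = 1 then (Nat.card G : ℂ) else 0 := by
  classical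
  split_ifs with hg
  · subst hg
    simpa [sq] using sum_apply_one_sq (G := G)
  · have h := sum_mul_conj g 1
    rw [if_neg (fun e => hg ((isConj_one_left).mp e))] at h
    rw [← h]
    refine Finset.sum_congr rfl fun χ _ => ?_
    rw [← IsIrrCharacter.apply_inv χ.2, inv_one, mul_comm]

end Columns

end CfsgLib.Char
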