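import Mathlib.RepresentationTheory.Character
import Mathlib.LinearAlgebra.Eigenspace.Charpoly
import Mathlib.LinearAlgebra.Eigenspace.Minpoly
import Mathlib.LinearAlgebra.Charpoly.Basic
import Mathlib.Analysis.Complex.Polynomial.Basic
import Mathlib.Analysis.Complex.Norm
import Mathlib.FieldTheory.Separable
import Mathlib.FieldTheory.Extension
import Mathlib.FieldTheory.Minpoly.IsIntegrallyClosed
import Mathlib.RingTheory.IntegralClosure.IntegrallyClosed
import Mathlib.RingTheory.Polynomial.RationalRoot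
import Mathlib.GroupTheory.GroupAction.ConjAct
import Mathlib.GroupTheory.GroupAction.Quotient
import Mathlib.Algebra.Group.ConjFinite

/-!
# Integrality of character values and central characters
-/

namespace CfsgLib.Char

open Polynomial Module

universe u v

variable {G : Type u} [Group G] {V : Type v} [AddCommGroup V] [Module ℂ V]

/-- The eigenvalues, with multiplicity, of `ρ g`. -/
theorem exists_eigen_multiset [Finite G] [FiniteDimensional ℂ V] (ρ : Representation ℂ G V) (g : G) :
    ∃ s : Multiset ℂ, Multiset.card s = finrank ℂ V ∧ ρ.character g = s.sum ∧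
      (LinearMap.charpoly (ρ g)) = (s.map fun a => X - C a).prod ∧
      ∀ z ∈ s, z ^ orderOf g = 1 := by
  have hs : (LinearMap.charpoly (ρ g)).Splits := IsAlgClosed.splits _
  refine ⟨(LinearMap.charpoly (ρ g)).roots, ?_, Module.End.trace_eq_sum_roots_charpoly_of_splits hs,
    ?_, ?_⟩
  · rw [← hs.natDegree_eq_card_roots, LinearMap.charpoly_natDegree]
  · exact hs.eq_prod_roots_of_monic (LinearMap.charpoly_monic _)
  · intro z hz
    have hzev : Module.End.HasEigenvalue (ρ g) z := by
      rw [Module.End.hasEigenvalue_iff_isRoot_charpoly]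
      exact isRoot_of_mem_roots hz
    obtain ⟨v, hv⟩ := hzev.exists_hasEigenvector
    have h1 := hv.pow_apply (orderOf g)
    rw [← map_pow, pow_orderOf_eq_one, map_one, Module.End.one_apply] at h1
    exact (smul_left_injective ℂ hv.2 (by simpa using h1)).symm

/-- Character values are algebraic integers. -/
theorem isIntegral_character [Finite G] [FiniteDimensional ℂ V] (ρ : Representation ℂ G V) (g : G) :
    IsIntegral ℤ (ρ.character g) := by
  obtain ⟨s, -, hsum, -, hroot⟩ := exists_eigen_multiset ρ g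
  rw [hsum]
  refine IsIntegral.multiset_sum fun z hz => ?_
  refine ⟨X ^ orderOf g - 1, ?_, ?_⟩
  · exact monic_X_pow_sub_C 1 (orderOf_pos g).ne'
  · simp [hroot z hz]

/-- A rational number that is an algebraic integer is an integer. -/
theorem exists_int_of_isIntegral_ratCast {q : ℚ} (h : IsIntegral ℤ (q : ℂ)) :
    ∃ m : ℤ, (m : ℚ) = q := by
  have h' : IsIntegral ℤ (algebraMap ℚ ℂ q) := by simpa using h
  rw [isIntegral_algebraMap_iff (FaithfulSMul.algebraMap_injective ℚ ℂ)] at h'
  obtain ⟨m, hm⟩ := IsIntegrallyClosed.isIntegral_iff.mp h'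
  exact ⟨m, by simpa using hm⟩

/-- If `n / d` is an algebraic integer then `d ∣ n`. -/
theorem dvd_of_isIntegral_natCast_div {n d : ℕ} (hd : d ≠ 0) (h : IsIntegral ℤ ((n : ℂ) / d)) :
    d ∣ n := by
  have hcast : (((n : ℚ) / d : ℚ) : ℂ) = (n : ℂ) / d := by push_cast; rfl
  obtain ⟨m, hm⟩ := exists_int_of_isIntegral_ratCast (hcast ▸ h)
  rw [eq_div_iff (Nat.cast_ne_zero.mpr hd)] at hm
  have : (d : ℤ) ∣ (n : ℤ) := ⟨m, by rw [mul_comm]; exact_mod_cast hm.symm⟩
  exact_mod_cast this

/-- Schur: an endomorphism commuting with an irreducible representation is a scalar. -/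
theorem exists_scalar_of_commute [FiniteDimensional ℂ V] (ρ : Representation ℂ G V)
    [ρ.IsIrreducible] (T : V →ₗ[ℂ] V) (hT : ∀ g, T * ρ g = ρ g * T) :
    ∃ c : ℂ, T = c • (1 : V →ₗ[ℂ] V) := by
  let f : Representation.IntertwiningMap ρ ρ := ⟨T, hT⟩
  obtain ⟨c, hc⟩ :=
    (Representation.IsIrreducible.algebraMap_intertwiningMap_bijective_of_isAlgClosed (ρ := ρ)).2 f
  refine ⟨c, ?_⟩
  ext v
  have h := DFunLike.congr_fun hc v
  have hTv : T v = f v := rfl
  rw [hTv, ← h]
  simp [Algebra.algebraMap_eq_smul_one]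

/-- The dimension of an irreducible representation is positive. -/
theorem finrank_pos_of_irreducible [FiniteDimensional ℂ V] (ρ : Representation ℂ G V)
    [ρ.IsIrreducible] : 0 < finrank ℂ V := by
  rw [Module.finrank_pos_iff]
  by_contra h
  rw [not_nontrivial_iff_subsingleton] at h
  have hbt : (⊥ : Subrepresentation ρ) = ⊤ :=
    Subrepresentation.toSubmodule_injective (Subsingleton.elim _ _)
  exact bot_ne_top hbt

/-- `∑ f g • ρ g` for a class function `f`, as a scalar. -/
theorem exists_scalar_sum_smul [Fintype G] [FiniteDimensional ℂ V] (ρ : Representation ℂ G V)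
    [ρ.IsIrreducible] (f : G → ℂ) (hf : ∀ g h : G, f (h * g * h⁻¹) = f g) :
    ∃ c : ℂ, ∑ g, f g • ρ g = c • (1 : V →ₗ[ℂ] V) ∧
      c * (finrank ℂ V : ℂ) = ∑ g, f g * ρ.character g := by
  have hcomm : ∀ h, (∑ g, f g • ρ g) * ρ h = ρ h * ∑ g, f g • ρ g := by
    intro h
    rw [Finset.sum_mul, Finset.mul_sum]
    refine Fintype.sum_equiv (MulAut.conj h⁻¹).toEquiv _ _ fun g => ?_
    have he : (MulAut.conj h⁻¹).toEquiv g = h⁻¹ * g * h := by simp
    have hfg : f (h⁻¹ * g * h) = f g := by simpa using hf g h⁻¹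
    rw [he, hfg, smul_mul_assoc, mul_smul_comm, ← map_mul, ← map_mul,
      show h * (h⁻¹ * g * h) = g * h by group]
  obtain ⟨c, hc⟩ := exists_scalar_of_commute ρ _ hcomm
  refine ⟨c, hc, ?_⟩
  have := congrArg (LinearMap.trace ℂ V) hc
  simpa [Representation.character, map_sum, LinearMap.trace_one] using this.symm

/-- For a class function with algebraic integer values, the central character value
`(∑ f g * χ g) / χ 1` is an algebraic integer. -/
theorem isIntegral_central_sum [Fintype G] [FiniteDimensional ℂ V] (ρ : Representation ℂ G V)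
    [ρ.IsIrreducible] (f : G → ℂ) (hf : ∀ g h : G, f (h * g * h⁻¹) = f g)
    (hint : ∀ g, IsIntegral ℤ (f g)) :
    IsIntegral ℤ ((∑ g, f g * ρ.character g) / (finrank ℂ V : ℂ)) := by
  obtain ⟨c, hc, hc'⟩ := exists_scalar_sum_smul ρ f hf
  have hd : (finrank ℂ V : ℂ) ≠ 0 := Nat.cast_ne_zero.mpr (finrank_pos_of_irreducible ρ).ne'
  rw [← hc', mul_div_cancel_right₀ _ hd]
  let R := integralClosure ℤ ℂ
  let L : MonoidAlgebra R G →ₐ[R] Module.End ℂ V := MonoidAlgebra.lift R (Module.End ℂ V) G ρ
  let z : MonoidAlgebra R G := ∑ g, MonoidAlgebra.single g (⟨f g, hint g⟩ : R)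
  have hLz : L z = c • (1 : Module.End ℂ V) := by
    rw [← hc, map_sum]
    refine Finset.sum_congr rfl fun g _ => ?_
    simp only [L, MonoidAlgebra.lift_single]
    rfl
  have hzi : IsIntegral R (L z) := (IsIntegral.of_finite R z).map L
  rw [hLz, ← Algebra.algebraMap_eq_smul_one] at hzi
  have : Nontrivial V := Module.finrank_pos_iff.mp (finrank_pos_of_irreducible ρ)
  exact isIntegral_trans _
    ((isIntegral_algebraMap_iff (FaithfulSMul.algebraMap_injective ℂ (Module.End ℂ V))).mp hzi)

/-- The conjugacy class of `g` has `[G : C(g)]` elements. -/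
theorem card_conjClass [Fintype G] [DecidableEq G] (g : G) :
    (Finset.univ.filter fun x => IsConj g x).card =
      (Subgroup.centralizer ({g} : Set G)).index := by
  have h1 : (MulAction.stabilizer (ConjAct G) g).index =
      (MulAction.orbit (ConjAct G) g).ncard := MulAction.index_stabilizer _ _
  have h2 : (Subgroup.centralizer ({g} : Set G)).index =
      (MulAction.stabilizer (ConjAct G) g).index := by
    rw [Subgroup.centralizer_eq_comap_stabilizer]
    exact Subgroup.index_comap_of_surjective (MulAction.stabilizer (ConjAct G) g)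
      ConjAct.toConjAct.surjective
  rw [h2, h1, ← Set.ncard_coe_finset]
  congr 1
  ext x
  simp only [Finset.coe_filter, Finset.mem_univ, true_and, Set.mem_ofPred_eq,
    ConjAct.orbit_eq_carrier_conjClasses, ConjClasses.mem_carrier_iff_mk_eq,
    ConjClasses.mk_eq_mk_iff_isConj]
  exact isConj_comm

/-- The central character of a class sum is an algebraic integer. -/
theorem isIntegral_index_mul_char_div [Finite G] [FiniteDimensional ℂ V]
    (ρ : Representation ℂ G V) [ρ.IsIrreducible] (g : G) :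
    IsIntegral ℤ (((Subgroup.centralizer ({g} : Set G)).index : ℂ) * ρ.character g /
      (finrank ℂ V : ℂ)) := by
  classical
  have := Fintype.ofFinite G
  have hval : ∀ x, IsConj g x → ρ.character x = ρ.character g := by
    intro x hx
    obtain ⟨c, rfl⟩ := isConj_iff.mp hx
    exact ρ.char_conj g c
  have h := isIntegral_central_sum ρ (fun x => if IsConj g x then 1 else 0)
    (fun x c => by
      have h' : IsConj g (c * x * c⁻¹) ↔ IsConj g x :=
        ⟨fun h => h.trans (isConj_iff.mpr ⟨c⁻¹, by group⟩), fun h => h.trans (isConj_iff.mpr ⟨c, rfl⟩)⟩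
      simp only [h'])
    (fun x => by split_ifs <;> [exact isIntegral_one; exact isIntegral_zero])
  simp only [ite_mul, one_mul, zero_mul, ← Finset.sum_filter] at h
  rw [Finset.sum_congr rfl (fun x hx => hval x (Finset.mem_filter.mp hx).2), Finset.sum_const,
    nsmul_eq_mul, card_conjClass] at h
  exact h

/-- The sum of `χ g * χ g⁻¹` over the group, for an irreducible character. -/
theorem sum_char_mul_char_inv [Fintype G] [FiniteDimensional ℂ V] (ρ : Representation ℂ G V)
    [ρ.IsIrreducible] : ∑ g, ρ.character g⁻¹ * ρ.character g = (Nat.card G : ℂ) := by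
  have h0 : (Nat.card G : ℂ) ≠ 0 := Nat.cast_ne_zero.mpr Nat.card_pos.ne'
  have : Invertible (Nat.card G : ℂ) := invertibleOfNonzero h0
  have h := Representation.char_orthonormal ρ ρ
  rw [if_pos ⟨Representation.Equiv.refl ρ⟩, inv_mul_eq_one₀ h0] at h
  rw [h]
  exact Finset.sum_congr rfl fun g _ => mul_comm _ _

/-- The degree of an irreducible representation divides the order of the group. -/
theorem finrank_dvd_card [Finite G] [FiniteDimensional ℂ V] (ρ : Representation ℂ G V)
    [ρ.IsIrreducible] : finrank ℂ V ∣ Nat.card G := by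
  have := Fintype.ofFinite G
  refine dvd_of_isIntegral_natCast_div (finrank_pos_of_irreducible ρ).ne' ?_
  rw [← sum_char_mul_char_inv ρ]
  refine isIntegral_central_sum ρ (fun g => ρ.character g⁻¹) (fun g h => ?_)
    (fun g => isIntegral_character ρ g⁻¹)
  rw [show (h * g * h⁻¹)⁻¹ = h * g⁻¹ * h⁻¹ by group, ρ.char_conj]

/-- An algebraic integer all of whose conjugates have absolute value at most one is zero or
has absolute value one. -/
theorem eq_zero_or_norm_eq_one_of_forall_root {α : ℂ} (hα : IsIntegral ℤ α)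
    (hroots : ∀ β : ℂ, aeval β (minpoly ℚ α) = 0 → ‖β‖ ≤ 1) : α = 0 ∨ ‖α‖ = 1 := by
  rcases eq_or_ne α 0 with h0 | h0
  · exact Or.inl h0
  refine Or.inr (le_antisymm (hroots α (minpoly.aeval ℚ α)) ?_)
  have hαQ : IsIntegral ℚ α := hα.tower_top
  have hmap : minpoly ℚ α = (minpoly ℤ α).map (algebraMap ℤ ℚ) :=
    minpoly.isIntegrallyClosed_eq_field_fractions' ℚ hα
  set P : ℂ[X] := (minpoly ℚ α).map (algebraMap ℚ ℂ) with hP
  have hmonic : P.Monic := (minpoly.monic hαQ).map _
  have hsplit : P.Splits := IsAlgClosed.splits _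
  have hc0 : (1 : ℝ) ≤ ‖P.coeff 0‖ := by
    have hz : (minpoly ℤ α).coeff 0 ≠ 0 := by
      intro h
      have := minpoly.coeff_zero_ne_zero hαQ h0
      rw [hmap, coeff_map, h, map_zero] at this
      exact this rfl
    have he : P.coeff 0 = (((minpoly ℤ α).coeff 0 : ℤ) : ℂ) := by
      rw [hP, hmap, coeff_map, coeff_map]; simp
    rw [he, Complex.norm_intCast]
    exact_mod_cast Int.one_le_abs hz
  have hαroot : α ∈ P.roots := by
    rw [mem_roots hmonic.ne_zero, hP, IsRoot, eval_map_algebraMap]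
    exact minpoly.aeval ℚ α
  obtain ⟨t, ht⟩ := Multiset.exists_cons_of_mem hαroot
  have hprod : ‖P.roots.prod‖ = ‖P.coeff 0‖ := by
    rw [hsplit.coeff_zero_eq_prod_roots_of_monic hmonic, norm_mul, norm_pow, norm_neg, norm_one,
      one_pow, one_mul]
  have hle : ∀ u : Multiset ℂ, (∀ b ∈ u, ‖b‖ ≤ 1) → ‖u.prod‖ ≤ 1 := by
    intro u
    induction u using Multiset.induction with
    | empty => simp
    | cons a u ih =>
      intro hu
      rw [Multiset.prod_cons, norm_mul]
      exact mul_le_one₀ (hu a (Multiset.mem_cons_self _ _)) (norm_nonneg _)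
        (ih fun b hb => hu b (Multiset.mem_cons_of_mem hb))
  have ht1 : ‖t.prod‖ ≤ 1 := hle t fun b hb => hroots b (by
    have hb' : b ∈ P.roots := ht ▸ Multiset.mem_cons_of_mem hb
    rw [mem_roots hmonic.ne_zero, hP, IsRoot, eval_map_algebraMap] at hb'
    exact hb')
  calc (1 : ℝ) ≤ ‖P.roots.prod‖ := hprod ▸ hc0
    _ = ‖α‖ * ‖t.prod‖ := by rw [ht, Multiset.prod_cons, norm_mul]
    _ ≤ ‖α‖ * 1 := by gcongr
    _ = ‖α‖ := mul_one _

/-- If `(sum of roots of unity) / (their number)` is integral, it is zero or has norm one. -/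
theorem eq_zero_or_norm_eq_one_of_average {n : ℕ} (hn : n ≠ 0) (s : Multiset ℂ)
    (hs : ∀ z ∈ s, z ^ n = 1) (hint : IsIntegral ℤ (s.sum / Multiset.card s)) :
    s.sum / Multiset.card s = 0 ∨ ‖s.sum / (Multiset.card s : ℂ)‖ = 1 := by
  refine eq_zero_or_norm_eq_one_of_forall_root hint fun β hβ => ?_
  let S : Set ℂ := {z : ℂ | z ^ n = 1}
  let F := IntermediateField.adjoin ℚ S
  have hK : ∀ z ∈ S, IsIntegral ℚ z ∧ ((minpoly ℚ z).map (algebraMap ℚ ℂ)).Splits := fun z hz =>
    ⟨⟨X ^ n - 1, monic_X_pow_sub_C 1 hn, by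
      simp [show z ^ n = 1 from hz]⟩, IsAlgClosed.splits _⟩
  have hmem : ∀ z ∈ s, z ∈ F := fun z hz => IntermediateField.subset_adjoin ℚ S (hs z hz)
  have hx : s.sum / (Multiset.card s : ℂ) ∈ F :=
    div_mem (multiset_sum_mem _ hmem) (natCast_mem _ _)
  obtain ⟨φ, hφ⟩ := IntermediateField.exists_algHom_adjoin_of_splits_of_aeval hK hx hβ
  let s' : Multiset F := s.attach.map fun z => ⟨z.1, hmem z.1 z.2⟩
  have hs' : (⟨s.sum / (Multiset.card s : ℂ), hx⟩ : F) = s'.sum / (Multiset.card s : F) := by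
    apply Subtype.ext
    have h' : ((s'.sum : F) : ℂ) = s.sum := by
      rw [← IntermediateField.coe_val, map_multiset_sum, Multiset.map_map]
      simp [Function.comp_def]
    rw [← IntermediateField.coe_val, map_div₀, map_natCast, IntermediateField.coe_val, h']
  rw [hs', map_div₀, map_multiset_sum, map_natCast] at hφ
  rw [← hφ, norm_div, Complex.norm_natCast]
  rcases Nat.eq_zero_or_pos (Multiset.card s) with hc | hc
  · simp [hc]
  rw [div_le_one (by exact_mod_cast hc)]
  refine (norm_multiset_sum_le _).trans ?_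
  rw [Multiset.map_map]
  refine (Multiset.sum_le_card_nsmul _ 1 ?_).trans (by simp [s'])
  intro r hr
  obtain ⟨z, hz, rfl⟩ := Multiset.mem_map.mp hr
  obtain ⟨w, -, rfl⟩ := Multiset.mem_map.mp hz
  refine le_of_eq (Complex.norm_eq_one_of_pow_eq_one ?_ hn)
  rw [← map_pow, show (⟨w.1, hmem w.1 w.2⟩ : F) ^ n = 1 from Subtype.ext (hs w.1 w.2), map_one]

/-- Burnside's lemma on a character value with degree prime to the class size. -/
theorem char_eq_zero_or_norm_eq_finrank [Finite G] [FiniteDimensional ℂ V]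
    (ρ : Representation ℂ G V) [ρ.IsIrreducible] (g : G)
    (hcop : Nat.Coprime (finrank ℂ V) (Subgroup.centralizer ({g} : Set G)).index) :
    ρ.character g = 0 ∨ ‖ρ.character g‖ = (finrank ℂ V : ℝ) := by
  set d := finrank ℂ V with hd
  set k := (Subgroup.centralizer ({g} : Set G)).index
  have hd0 : (d : ℂ) ≠ 0 := Nat.cast_ne_zero.mpr (finrank_pos_of_irreducible ρ).ne'
  obtain ⟨a, b, hab⟩ : IsCoprime (d : ℤ) (k : ℤ) := by
    exact Nat.Coprime.isCoprime hcop
  have hab' : (a : ℂ) * d + b * k = 1 := by exact_mod_cast hab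
  have hint : IsIntegral ℤ (ρ.character g / (d : ℂ)) := by
    have h2 : ρ.character g / (d : ℂ) =
        (a : ℂ) * ρ.character g + b * ((k : ℂ) * ρ.character g / d) := by
      field_simp
      linear_combination -(ρ.character g) * hab'
    rw [h2]
    refine .add (.mul ?_ (isIntegral_character ρ g)) (.mul ?_ (isIntegral_index_mul_char_div ρ g))
    · exact isIntegral_algebraMap (R := ℤ) (x := a)
    · exact isIntegral_algebraMap (R := ℤ) (x := b)
  obtain ⟨s, hcard, hsum, -, hroot⟩ := exists_eigen_multiset ρ g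
  rw [hsum, hd, ← hcard] at hint
  rcases eq_zero_or_norm_eq_one_of_average (orderOf_pos g).ne' s hroot hint with h | h <;>
    rw [hcard, ← hsum, ← hd] at h
  · left
    simpa [hd0] using h
  · right
    rwa [norm_div, Complex.norm_natCast, div_eq_one_iff_eq] at h
    exact_mod_cast hd0

/-- Equality case of the triangle inequality for unit vectors of `ℂ`. -/
theorem eq_of_norm_sum_eq_card (s : Multiset ℂ) (hs : ∀ z ∈ s, ‖z‖ = 1)
    (h : ‖s.sum‖ = (Multiset.card s : ℝ)) :
    ∃ ω : ℂ, ∀ z ∈ s, z = ω := by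
  rcases s.empty_or_exists_mem with rfl | ⟨a, ha⟩
  · exact ⟨0, by simp⟩
  have hpos : 0 < ‖s.sum‖ := by
    rw [h]; exact_mod_cast Multiset.card_pos_iff_exists_mem.mpr ⟨a, ha⟩
  refine ⟨s.sum / ‖s.sum‖, fun z hz => ?_⟩
  set u : ℂ := s.sum / ‖s.sum‖ with hu
  have hun : ‖u‖ = 1 := by simp [hu, hpos.ne']
  let c : ℂ := starRingEnd ℂ u
  have hle : ∀ w ∈ s, (w * c).re ≤ 1 := fun w hw => by
    refine (Complex.re_le_norm _).trans ?_
    simp [c, hs w hw, hun]
  have hsum : (s.map fun w => (w * c).re).sum = Multiset.card s := by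
    rw [show (s.map fun w => (w * c).re).sum = (s.sum * c).re by
      rw [show s.sum * c = (s.map fun w => w * c).sum by rw [Multiset.sum_map_mul_right]; simp,
        ← Complex.coe_reAddGroupHom, map_multiset_sum, Multiset.map_map]
      simp [Function.comp_def]]
    rw [← h, show s.sum = u * ‖s.sum‖ by
      rw [hu, div_mul_cancel₀]; exact_mod_cast hpos.ne']
    rw [show u * (‖s.sum‖ : ℂ) * c = (u * c) * ‖s.sum‖ by ring, Complex.mul_conj',
      hun]
    simp [hun]
  have hre : (z * c).re = 1 := by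
    refine le_antisymm (hle z hz) ?_
    obtain ⟨t, rfl⟩ := Multiset.exists_cons_of_mem hz
    rw [Multiset.map_cons, Multiset.sum_cons, Multiset.card_cons] at hsum
    have ht := Multiset.sum_le_card_nsmul (t.map fun w => (w * c).re) 1 (fun r hr => by
      obtain ⟨w, hw, rfl⟩ := Multiset.mem_map.mp hr
      exact hle w (Multiset.mem_cons_of_mem hw))
    simp at ht hsum ⊢
    linarith
  have hzc : z * c = 1 := by
    have hn : ‖z * c‖ = 1 := by simp [c, hs z hz, hun]
    have hn2 := Complex.normSq_eq_norm_sq (z * c)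
    rw [hn, Complex.normSq_apply, hre] at hn2
    refine Complex.ext (by simpa using hre) ?_
    simp only [Complex.one_im]
    nlinarith
  calc z = z * (c * u) := by rw [Complex.conj_mul', hun]; simp
    _ = u := by rw [← mul_assoc, hzc, one_mul]

/-- If `|χ g| = χ 1` then `ρ g` is a scalar. -/
theorem eq_smul_one_of_norm_character_eq [Finite G] [FiniteDimensional ℂ V]
    (ρ : Representation ℂ G V) (g : G) (h : ‖ρ.character g‖ = (finrank ℂ V : ℝ)) :
    ∃ ω : ℂ, ρ g = ω • (1 : V →ₗ[ℂ] V) := by
  obtain ⟨s, hcard, hsum, hchar, hroot⟩ := exists_eigen_multiset ρ g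
  have hn := (orderOf_pos g).ne'
  obtain ⟨ω, hω⟩ := eq_of_norm_sum_eq_card s
    (fun z hz => Complex.norm_eq_one_of_pow_eq_one (hroot z hz) hn) (by rw [← hsum, h, hcard])
  refine ⟨ω, ?_⟩
  have hq : LinearMap.charpoly (ρ g) = (X - C ω) ^ finrank ℂ V := by
    rw [hchar, ← hcard, Multiset.map_congr rfl (g := fun _ => X - C ω) fun z hz => by rw [hω z hz],
      Multiset.map_const', Multiset.prod_replicate]
  have h1 : minpoly ℂ (ρ g) ∣ X ^ orderOf g - C (1 : ℂ) := by
    refine minpoly.dvd ℂ _ ?_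
    rw [map_sub, map_pow, aeval_X, aeval_C, map_one, ← map_pow, pow_orderOf_eq_one, map_one, sub_self]
  have hsq : Squarefree (minpoly ℂ (ρ g)) :=
    Squarefree.squarefree_of_dvd h1 (separable_X_pow_sub_C (1 : ℂ) (by exact_mod_cast hn)
      one_ne_zero).squarefree
  have h2 : minpoly ℂ (ρ g) ∣ (X - C ω) ^ finrank ℂ V := hq ▸ LinearMap.minpoly_dvd_charpoly _
  obtain ⟨q, hq'⟩ := hsq.isRadical _ _ h2
  have := congrArg (aeval (ρ g)) hq'
  rw [map_mul, minpoly.aeval, zero_mul, map_sub, aeval_X, aeval_C, sub_eq_zero,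
    Algebra.algebraMap_eq_smul_one] at this
  exact this

end CfsgLib.Char
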