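import Cfsg.Agent.Lib.Char.Complete

/-!
# Linear characters
-/

set_option autoImplicit false

open scoped ComplexConjugate
open Module

namespace CfsgLib.Char

universe u v

variable {G : Type u} [Group G]

/-- A homomorphism into `ℂˣ` as a representation on `ℂ`. -/
noncomputable def linearRep (f : G →* ℂˣ) : Representation ℂ G ℂ :=
  (algebraMap ℂ (Module.End ℂ ℂ)).toMonoidHom.comp ((Units.coeHom ℂ).comp f)

theorem linearRep_character (f : G →* ℂˣ) :
    (linearRep f).character = fun g => (f g : ℂ) := by
  funext g
  simp [Representation.character, linearRep, Algebra.algebraMap_eq_smul_one]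

/-- A one-dimensional representation is irreducible. -/
theorem isIrreducible_of_finrank_eq_one {V : Type v} [AddCommGroup V] [Module ℂ V]
    (ρ : Representation ℂ G V) (h : finrank ℂ V = 1) : ρ.IsIrreducible := by
  have : IsSimpleOrder (Submodule ℂ V) := is_simple_module_of_finrank_eq_one h
  have : Nontrivial (Subrepresentation ρ) :=
    ⟨⊥, ⊤, fun e => bot_ne_top (α := Submodule ℂ V) (congrArg Subrepresentation.toSubmodule e)⟩
  exact
    { eq_bot_or_eq_top := fun W =>
        (IsSimpleOrder.eq_bot_or_eq_top W.toSubmodule).imp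
          (fun e => Subrepresentation.toSubmodule_injective e)
          (fun e => Subrepresentation.toSubmodule_injective e) }

/-- A linear character is irreducible. -/
theorem isIrrCharacter_linear (f : G →* ℂˣ) : Cfsg.IsIrrCharacter G (fun g => (f g : ℂ)) := by
  rw [← linearRep_character]
  have := isIrreducible_of_finrank_eq_one (linearRep f) (Module.finrank_self ℂ)
  exact isIrrCharacter_character (linearRep f)

/-- The principal character is irreducible. -/
theorem isIrrCharacter_principal : Cfsg.IsIrrCharacter G (fun _ => (1 : ℂ)) := by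
  simpa using isIrrCharacter_linear (1 : G →* ℂˣ)

/-- The principal character as an element of the type of irreducible characters. -/
noncomputable def principalIrr : Cfsg.IrrCharacter G := ⟨_, isIrrCharacter_principal⟩

@[simp]
theorem principalIrr_apply (g : G) : (principalIrr : Cfsg.IrrCharacter G).1 g = 1 := rfl

/-- A character of degree one is a homomorphism into `ℂˣ`. -/
theorem IsCharacter.exists_linear {χ : G → ℂ} (h : Cfsg.IsCharacter G χ) (h1 : χ 1 = 1) :
    ∃ f : G →* ℂˣ, ∀ g, χ g = (f g : ℂ) := by
  obtain ⟨n, ρ, rfl⟩ := h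
  have hn : n = 1 := by simpa using h1
  subst hn
  have hmul : ∀ a b, ρ.character (a * b) = ρ.character a * ρ.character b := by
    intro a b
    simp only [Representation.character, map_mul,
      LinearMap.trace_eq_matrix_trace ℂ (Pi.basisFun ℂ (Fin 1)), LinearMap.toMatrix_mul]
    simp [Matrix.trace, Matrix.mul_apply]
  exact ⟨MonoidHom.toHomUnits ⟨⟨ρ.character, h1⟩, hmul⟩, fun g => rfl⟩

/-- Irreducible characters of degree one correspond to homomorphisms into `ℂˣ`. -/
theorem isIrrCharacter_degree_one_iff {χ : G → ℂ} :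
    (Cfsg.IsIrrCharacter G χ ∧ χ 1 = 1) ↔ ∃ f : G →* ℂˣ, χ = fun g => (f g : ℂ) := by
  refine ⟨fun ⟨h, h1⟩ => ?_, ?_⟩
  · obtain ⟨f, hf⟩ := IsCharacter.exists_linear (IsIrrCharacter.isCharacter h) h1
    exact ⟨f, funext hf⟩
  · rintro ⟨f, rfl⟩
    exact ⟨isIrrCharacter_linear f, by simp⟩

/-- The irreducible characters of degree one are the homomorphisms into `ℂˣ`. -/
noncomputable def linearCharEquiv :
    (G →* ℂˣ) ≃ {χ : Cfsg.IrrCharacter G // (χ : G → ℂ) 1 = 1} :=
  Equiv.ofBijective (fun f => ⟨⟨_, isIrrCharacter_linear f⟩, by simp⟩)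
    ⟨fun f f' e => MonoidHom.ext fun g => Units.ext
      (congrFun (congrArg (fun x => (x.1.1 : G → ℂ)) e) g),
    fun x => by
      obtain ⟨f, hf⟩ := IsCharacter.exists_linear (IsIrrCharacter.isCharacter x.1.2) x.2
      exact ⟨f, Subtype.ext (Subtype.ext (funext fun g => (hf g).symm))⟩⟩

/-- Multiplication by a linear character preserves irreducibility. -/
theorem IsIrrCharacter.linear_mul [Finite G] {χ : G → ℂ} (h : Cfsg.IsIrrCharacter G χ)
    (f : G →* ℂˣ) : Cfsg.IsIrrCharacter G (fun g => (f g : ℂ) * χ g) := by
  cases nonempty_fintype G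
  obtain ⟨n, ρ, hρ, rfl⟩ := h
  have hchar : Cfsg.IsCharacter G (fun g => (f g : ℂ) * ρ.character g) := by
    have h2 := isCharacter_character ((linearRep f).tprod ρ)
    rw [Representation.char_tensor, linearRep_character] at h2
    exact h2
  refine IsCharacter.isIrrCharacter_of_classInner_self hchar ?_
  rw [← classInner_irr_self (isIrrCharacter_character ρ)]
  simp only [Cfsg.classInner]
  congr 1
  refine Finset.sum_congr rfl fun g _ => ?_
  have hu : (f g : ℂ) * conj (f g : ℂ) = 1 := by
    have h3 : ‖(f g : ℂ)‖ = 1 := by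
      refine Complex.norm_eq_one_of_pow_eq_one (n := orderOf g) ?_ (orderOf_pos g).ne'
      rw [← Units.val_pow_eq_pow_val, ← map_pow, pow_orderOf_eq_one, map_one, Units.val_one]
    rw [Complex.mul_conj', h3]
    simp
  rw [map_mul]
  linear_combination (ρ.character g * conj (ρ.character g)) * hu

end CfsgLib.Char
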