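import Cfsg.Agent.Lib.Char.Virtual
import Mathlib.GroupTheory.GroupAction.Quotient
import Mathlib.Data.Fintype.BigOperators
import Mathlib.LinearAlgebra.Pi

/-!
# Induction of class functions and characters
-/

set_option autoImplicit false

open scoped ComplexConjugate

namespace CfsgLib.Char

universe u

variable {G : Type u} [Group G]

section Extend

variable (H : Subgroup G) (θ : H → ℂ)

/-- Extension by zero at an element of the subgroup. -/
theorem extendByZero_apply_mem {x : G} (hx : x ∈ H) : Cfsg.extendByZero H θ x = θ ⟨x, hx⟩ :=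
  Subtype.val_injective.extend_apply θ 0 ⟨x, hx⟩

/-- Extension by zero at a coerced element of the subgroup. -/
theorem extendByZero_coe (h : H) : Cfsg.extendByZero H θ h = θ h :=
  Subtype.val_injective.extend_apply θ 0 h

/-- Extension by zero outside the subgroup. -/
theorem extendByZero_of_notMem {x : G} (hx : x ∉ H) : Cfsg.extendByZero H θ x = 0 :=
  Function.extend_apply' θ (0 : G → ℂ) x (fun ⟨h, he⟩ => hx (he ▸ h.2))

/-- The extension of a class function of `H` is invariant under conjugation by `H`. -/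
theorem extendByZero_conj (hθ : Cfsg.IsClassFunction H θ) (h : H) (y : G) :
    Cfsg.extendByZero H θ ((h : G) * y * (h : G)⁻¹) = Cfsg.extendByZero H θ y := by
  by_cases hy : y ∈ H
  · rw [extendByZero_apply_mem H θ hy, show (h : G) * y * (h : G)⁻¹ =
      ((h * ⟨y, hy⟩ * h⁻¹ : H) : G) from rfl, extendByZero_coe]
    exact hθ _ h
  · rw [extendByZero_of_notMem H θ hy, extendByZero_of_notMem]
    intro hc
    apply hy
    have h' := H.mul_mem (H.mul_mem (H.inv_mem h.2) hc) h.2
    simpa [mul_assoc] using h'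

/-- Sum over `H` as a sum over `G` of the extension by zero. -/
theorem sum_extendByZero_mul [Fintype G] [Fintype H] (f : G → ℂ) :
    ∑ y : G, Cfsg.extendByZero H θ y * f y = ∑ h : H, θ h * f h := by
  classical
  symm
  have h1 : ∑ y ∈ Finset.univ.filter (· ∈ H), Cfsg.extendByZero H θ y * f y =
      ∑ y : G, Cfsg.extendByZero H θ y * f y := by
    refine Finset.sum_subset (Finset.filter_subset _ _) fun y _ hy => ?_
    rw [extendByZero_of_notMem H θ (by simpa using hy), zero_mul]
  rw [← h1, Finset.sum_subtype (Finset.univ.filter (· ∈ H)) (p := (· ∈ H)) (fun y => by simp)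
    (fun y => Cfsg.extendByZero H θ y * f y)]
  exact Finset.sum_congr rfl fun h _ => by rw [extendByZero_coe]

end Extend

section Ind

variable [Fintype G] (H : Subgroup G)

/-- The defining formula of `indFun`. -/
theorem indFun_apply (θ : H → ℂ) (g : G) :
    Cfsg.indFun H θ g =
      (Nat.card H : ℂ)⁻¹ * ∑ x : G, Cfsg.extendByZero H θ (x⁻¹ * g * x) := rfl

/-- An induced function is a class function. -/
theorem isClassFunction_indFun (θ : H → ℂ) : Cfsg.IsClassFunction G (Cfsg.indFun H θ) := by
  intro g c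
  rw [indFun_apply, indFun_apply]
  congr 1
  exact Fintype.sum_equiv (Equiv.mulLeft c⁻¹) _ _ fun x => by
    simp [mul_assoc]

/-- Additivity of induction. -/
theorem indFun_add (θ η : H → ℂ) :
    Cfsg.indFun H (θ + η) = Cfsg.indFun H θ + Cfsg.indFun H η := by
  funext g
  rw [Pi.add_apply, indFun_apply, indFun_apply, indFun_apply, ← mul_add, ← Finset.sum_add_distrib]
  congr 1
  refine Finset.sum_congr rfl fun x _ => ?_
  by_cases hx : x⁻¹ * g * x ∈ H
  · simp [extendByZero_apply_mem H _ hx]
  · simp [extendByZero_of_notMem H _ hx]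

/-- Homogeneity of induction. -/
theorem indFun_smul (c : ℂ) (θ : H → ℂ) : Cfsg.indFun H (c • θ) = c • Cfsg.indFun H θ := by
  funext g
  rw [Pi.smul_apply, indFun_apply, indFun_apply, smul_eq_mul, mul_left_comm]
  congr 1
  rw [Finset.mul_sum]
  refine Finset.sum_congr rfl fun x _ => ?_
  by_cases hx : x⁻¹ * g * x ∈ H
  · simp [extendByZero_apply_mem H _ hx]
  · simp [extendByZero_of_notMem H _ hx]

/-- Induction as a linear map. -/
noncomputable def indLin : (H → ℂ) →ₗ[ℂ] (G → ℂ) where
  toFun := Cfsg.indFun H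
  map_add' := indFun_add H
  map_smul' := indFun_smul H

@[simp]
theorem indLin_apply (θ : H → ℂ) : indLin H θ = Cfsg.indFun H θ := rfl

/-- Induction of zero. -/
theorem indFun_zero : Cfsg.indFun H (0 : H → ℂ) = 0 := (indLin H).map_zero

/-- Induction commutes with negation. -/
theorem indFun_neg (θ : H → ℂ) : Cfsg.indFun H (-θ) = -Cfsg.indFun H θ := (indLin H).map_neg θ

/-- Induction commutes with subtraction. -/
theorem indFun_sub (θ η : H → ℂ) :
    Cfsg.indFun H (θ - η) = Cfsg.indFun H θ - Cfsg.indFun H η := (indLin H).map_sub θ η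

/-- Induction commutes with finite sums. -/
theorem indFun_sum {ι : Type*} (s : Finset ι) (f : ι → H → ℂ) :
    Cfsg.indFun H (∑ i ∈ s, f i) = ∑ i ∈ s, Cfsg.indFun H (f i) := map_sum (indLin H) f s

/-- Push-pull formula. -/
theorem indFun_mul_res (θ : H → ℂ) (χ : G → ℂ) (hχ : Cfsg.IsClassFunction G χ) :
    Cfsg.indFun H (fun h => θ h * χ h) = Cfsg.indFun H θ * χ := by
  funext g
  rw [Pi.mul_apply, indFun_apply, indFun_apply, mul_assoc, Finset.sum_mul]
  congr 1
  refine Finset.sum_congr rfl fun x _ => ?_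
  have hχx : χ (x⁻¹ * g * x) = χ g := by simpa using hχ g x⁻¹
  by_cases hx : x⁻¹ * g * x ∈ H
  · rw [extendByZero_apply_mem H _ hx, extendByZero_apply_mem H _ hx]
    rw [hχx]
  · simp [extendByZero_of_notMem H _ hx]

/-- Push-pull formula, other order. -/
theorem indFun_res_mul (θ : H → ℂ) (χ : G → ℂ) (hχ : Cfsg.IsClassFunction G χ) :
    Cfsg.indFun H (fun h => χ h * θ h) = χ * Cfsg.indFun H θ := by
  rw [mul_comm χ, ← indFun_mul_res H θ χ hχ]
  simp only [mul_comm]

/-- The degree of an induced function. -/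
theorem indFun_apply_one (θ : H → ℂ) : Cfsg.indFun H θ 1 = (H.index : ℂ) * θ 1 := by
  rw [indFun_apply]
  simp only [mul_one, inv_mul_cancel, Finset.sum_const, Finset.card_univ, nsmul_eq_mul]
  rw [← Nat.card_eq_fintype_card, ← H.card_mul_index, extendByZero_apply_mem H θ H.one_mem]
  have : (Nat.card H : ℂ) ≠ 0 := Nat.cast_ne_zero.mpr Nat.card_pos.ne'
  push_cast
  field_simp
  rfl

/-- Induced functions vanish away from the conjugates of the subgroup. -/
theorem indFun_eq_zero_of_forall_notMem (θ : H → ℂ) (g : G) (h : ∀ x : G, x⁻¹ * g * x ∉ H) :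
    Cfsg.indFun H θ g = 0 := by
  rw [indFun_apply, Finset.sum_eq_zero (fun x _ => extendByZero_of_notMem H θ (h x)), mul_zero]

/-- For a normal subgroup the induced function is supported on it. -/
theorem indFun_eq_zero_of_normal [H.Normal] (θ : H → ℂ) {g : G} (hg : g ∉ H) :
    Cfsg.indFun H θ g = 0 :=
  indFun_eq_zero_of_forall_notMem H θ g fun x hx => hg (by
    have := ‹H.Normal›.conj_mem _ hx x
    simpa [mul_assoc] using this)

/-- Frobenius reciprocity, bilinear form. -/
theorem sum_indFun_mul [Fintype H] (θ : H → ℂ) (f : G → ℂ) (hf : Cfsg.IsClassFunction G f) :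
    ∑ g, Cfsg.indFun H θ g * f g =
      (Nat.card G : ℂ) * ((Nat.card H : ℂ)⁻¹ * ∑ h : H, θ h * f h) := by
  simp_rw [indFun_apply, mul_assoc, Finset.sum_mul]
  rw [← Finset.mul_sum, Finset.sum_comm, mul_left_comm]
  congr 1
  rw [Nat.card_eq_fintype_card, ← nsmul_eq_mul, ← Finset.card_univ, ← Finset.sum_const]
  refine Finset.sum_congr rfl fun x _ => ?_
  rw [← sum_extendByZero_mul]
  refine Fintype.sum_equiv (MulAut.conj x⁻¹).toEquiv _ _ fun g => ?_
  have he : (MulAut.conj x⁻¹).toEquiv g = x⁻¹ * g * x := by simp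
  have hfg : f (x⁻¹ * g * x) = f g := by simpa using hf g x⁻¹
  rw [he, hfg]
  simp only [mul_assoc]

/-- Frobenius reciprocity. -/
theorem classInner_indFun [Fintype H] (θ : H → ℂ) (χ : G → ℂ)
    (hχ : Cfsg.IsClassFunction G χ) :
    Cfsg.classInner (Cfsg.indFun H θ) χ = Cfsg.classInner θ (fun h : H => χ h) := by
  unfold Cfsg.classInner
  rw [sum_indFun_mul H θ (fun g => conj (χ g)) (fun g h => by simp only [hχ g h]),
    inv_mul_cancel_left₀]
  exact Nat.cast_ne_zero.mpr Nat.card_pos.ne'

/-- Transitivity of induction. -/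
theorem indFun_indFun (K : Subgroup G) [Fintype K] (hHK : H ≤ K) (θ : H → ℂ) :
    Cfsg.indFun K (Cfsg.indFun (H.subgroupOf K)
      (fun x => θ ⟨(x : K), Subgroup.mem_subgroupOf.mp x.2⟩)) = Cfsg.indFun H θ := by
  classical
  funext g
  have hcard : Nat.card (H.subgroupOf K) = Nat.card H :=
    Nat.card_congr (Subgroup.subgroupOfEquivOfLe hHK).toEquiv
  have hinner : ∀ y : G, Cfsg.extendByZero K (Cfsg.indFun (H.subgroupOf K)
      (fun x => θ ⟨(x : K), Subgroup.mem_subgroupOf.mp x.2⟩)) y =
      (Nat.card H : ℂ)⁻¹ * ∑ k : K, Cfsg.extendByZero H θ ((k : G)⁻¹ * y * k) := by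
    intro y
    by_cases hy : y ∈ K
    · rw [extendByZero_apply_mem K _ hy, indFun_apply, hcard]
      congr 1
      refine Finset.sum_congr rfl fun k _ => ?_
      by_cases hk : (k : G)⁻¹ * y * k ∈ H
      · rw [extendByZero_apply_mem H _ hk,
          extendByZero_apply_mem (H.subgroupOf K) _ (x := k⁻¹ * ⟨y, hy⟩ * k)
            (Subgroup.mem_subgroupOf.mpr hk)]
        rfl
      · rw [extendByZero_of_notMem H _ hk, extendByZero_of_notMem]
        rwa [Subgroup.mem_subgroupOf]
    · rw [extendByZero_of_notMem K _ hy, Finset.sum_eq_zero, mul_zero]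
      intro k _
      refine extendByZero_of_notMem H _ fun hc => hy ?_
      have := K.mul_mem (K.mul_mem k.2 (hHK hc)) (K.inv_mem k.2)
      simpa [mul_assoc] using this
  rw [indFun_apply, indFun_apply]
  simp_rw [hinner]
  rw [← Finset.mul_sum, Finset.sum_comm, ← mul_assoc, mul_comm (Nat.card K : ℂ)⁻¹, mul_assoc]
  congr 1
  have h1 : ∀ k : K, ∑ x : G, Cfsg.extendByZero H θ ((k : G)⁻¹ * (x⁻¹ * g * x) * k) =
      ∑ x : G, Cfsg.extendByZero H θ (x⁻¹ * g * x) := fun k =>
    Fintype.sum_equiv (Equiv.mulRight (k : G)) _ _ fun x => by simp [mul_assoc]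
  rw [Finset.sum_congr rfl (fun k _ => h1 k), Finset.sum_const, Finset.card_univ, nsmul_eq_mul,
    ← Nat.card_eq_fintype_card, inv_mul_cancel_left₀]
  exact Nat.cast_ne_zero.mpr Nat.card_pos.ne'

/-- Induction as a sum over a left transversal. -/
theorem indFun_eq_sum_transversal [Fintype (G ⧸ H)] (θ : H → ℂ) (hθ : Cfsg.IsClassFunction H θ)
    (g : G) :
    Cfsg.indFun H θ g =
      ∑ i : G ⧸ H, Cfsg.extendByZero H θ (i.out⁻¹ * g * i.out) := by
  classical
  rw [indFun_apply]
  have hterm : ∀ (i : G ⧸ H) (h : H),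
      Cfsg.extendByZero H θ ((i.out * h)⁻¹ * g * (i.out * h)) =
        Cfsg.extendByZero H θ (i.out⁻¹ * g * i.out) := by
    intro i h
    have := extendByZero_conj H θ hθ h⁻¹ (i.out⁻¹ * g * i.out)
    simpa [mul_assoc] using this
  let e : (G ⧸ H) × H ≃ G :=
    { toFun := fun p => p.1.out * (p.2 : G)
      invFun := fun x => (QuotientGroup.mk x, ⟨(QuotientGroup.mk x : G ⧸ H).out⁻¹ * x, by
        rw [← QuotientGroup.eq, QuotientGroup.out_eq']⟩)
      left_inv := fun p => by
        obtain ⟨i, h⟩ := p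
        have hi : (QuotientGroup.mk (i.out * (h : G)) : G ⧸ H) = i := by
          rw [QuotientGroup.mk_mul_of_mem _ h.2, QuotientGroup.out_eq']
        ext1
        · exact hi
        · exact Subtype.ext (by simp [hi])
      right_inv := fun x => by simp }
  have : ∑ x : G, Cfsg.extendByZero H θ (x⁻¹ * g * x) =
      ∑ p : (G ⧸ H) × H, Cfsg.extendByZero H θ (p.1.out⁻¹ * g * p.1.out) :=
    (e.sum_comp fun x => Cfsg.extendByZero H θ (x⁻¹ * g * x)).symm.trans
      (Finset.sum_congr rfl fun p _ => hterm p.1 p.2)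
  rw [this, Fintype.sum_prod_type]
  simp only [Finset.sum_const, Finset.card_univ, nsmul_eq_mul]
  rw [← Finset.mul_sum, ← Nat.card_eq_fintype_card, inv_mul_cancel_left₀]
  exact Nat.cast_ne_zero.mpr Nat.card_pos.ne'

end Ind

section Rep

variable (H : Subgroup G) {V : Type*} [AddCommGroup V] [Module ℂ V] (σ : Representation ℂ H V)

theorem transversal_mem (g : G) (i : G ⧸ H) : i.out⁻¹ * g * (g⁻¹ • i).out ∈ H := by
  rw [mul_assoc, ← QuotientGroup.eq, QuotientGroup.out_eq',
    show ((g * (g⁻¹ • i).out : G) : G ⧸ H) = g • (((g⁻¹ • i).out : G) : G ⧸ H) from rfl,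
    QuotientGroup.out_eq', smul_inv_smul]

/-- The monomial model of the induced representation. -/
noncomputable def indRep : Representation ℂ G (G ⧸ H → V) where
  toFun g :=
    { toFun := fun f i => σ ⟨_, transversal_mem H g i⟩ (f (g⁻¹ • i))
      map_add' := fun f f' => by funext i; simp
      map_smul' := fun c f => by funext i; simp }
  map_one' := by
    apply LinearMap.ext
    intro f
    funext i
    have h1 : (1 : G)⁻¹ • i = i := by simp
    have h2 : (⟨_, transversal_mem H 1 i⟩ : H) = 1 := Subtype.ext (by simp only [h1]; simp)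
    show σ ⟨_, transversal_mem H 1 i⟩ (f ((1 : G)⁻¹ • i)) = f i
    rw [h2, h1, map_one, Module.End.one_apply]
  map_mul' g g' := by
    apply LinearMap.ext
    intro f
    funext i
    have h1 : (g * g')⁻¹ • i = g'⁻¹ • g⁻¹ • i := by rw [mul_inv_rev, mul_smul]
    have h2 : (⟨_, transversal_mem H (g * g') i⟩ : H) =
        ⟨_, transversal_mem H g i⟩ * ⟨_, transversal_mem H g' (g⁻¹ • i)⟩ :=
      Subtype.ext (by rw [Subgroup.coe_mul]; simp only [h1]; simp [mul_assoc])
    show σ ⟨_, transversal_mem H (g * g') i⟩ (f ((g * g')⁻¹ • i)) =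
      σ ⟨_, transversal_mem H g i⟩ (σ ⟨_, transversal_mem H g' (g⁻¹ • i)⟩ (f (g'⁻¹ • g⁻¹ • i)))
    rw [h2, h1, map_mul, Module.End.mul_apply]

theorem indRep_apply (g : G) (f : G ⧸ H → V) (i : G ⧸ H) :
    indRep H σ g f i = σ ⟨_, transversal_mem H g i⟩ (f (g⁻¹ • i)) := rfl

/-- Trace of an endomorphism of a finite power. -/
theorem trace_pi {ι : Type*} [Fintype ι] [DecidableEq ι] {W : Type*} [AddCommGroup W]
    [Module ℂ W] [FiniteDimensional ℂ W] (f : (ι → W) →ₗ[ℂ] ι → W) :
    LinearMap.trace ℂ (ι → W) f =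
      ∑ i, LinearMap.trace ℂ W
        (LinearMap.proj i ∘ₗ f ∘ₗ LinearMap.single ℂ (fun _ => W) i) := by
  have h : f = ∑ i, LinearMap.single ℂ (fun _ => W) i ∘ₗ (LinearMap.proj i ∘ₗ f) := by
    apply LinearMap.ext
    intro x
    funext j
    simp [Finset.sum_apply, LinearMap.sum_apply, Finset.sum_pi_single]
  conv_lhs => rw [h]
  rw [map_sum]
  exact Finset.sum_congr rfl fun i _ => by rw [LinearMap.trace_comp_comm']; rfl

/-- The character of the induced representation is the induced character. -/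
theorem indRep_character [Fintype G] [FiniteDimensional ℂ V] :
    (indRep H σ).character = Cfsg.indFun H σ.character := by
  classical
  funext g
  rw [indFun_eq_sum_transversal H _ (fun a b => σ.char_conj a b), Representation.character,
    trace_pi]
  refine Finset.sum_congr rfl fun i _ => ?_
  by_cases hi : g⁻¹ • i = i
  · have hm : i.out⁻¹ * g * i.out ∈ H := by
      have := transversal_mem H g i
      rwa [hi] at this
    rw [extendByZero_apply_mem H _ hm, Representation.character]
    congr 1
    apply LinearMap.ext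
    intro v
    simp [indRep_apply, hi]
  · have hm : i.out⁻¹ * g * i.out ∉ H := by
      intro hc
      rw [mul_assoc, ← QuotientGroup.eq, QuotientGroup.out_eq',
        show ((g * i.out : G) : G ⧸ H) = g • ((i.out : G) : G ⧸ H) from rfl,
        QuotientGroup.out_eq'] at hc
      exact hi (inv_smul_eq_iff.mpr hc)
    rw [extendByZero_of_notMem H _ hm]
    convert map_zero (LinearMap.trace ℂ V)
    apply LinearMap.ext
    intro v
    simp [indRep_apply, hi]

variable [Fintype G]

/-- A function induced from a character is a character. -/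
theorem IsCharacter.indFun {θ : H → ℂ} (hθ : Cfsg.IsCharacter H θ) :
    Cfsg.IsCharacter G (Cfsg.indFun H θ) := by
  obtain ⟨n, σ, rfl⟩ := hθ
  have : FiniteDimensional ℂ (G ⧸ H → Fin n → ℂ) := inferInstance
  rw [← indRep_character H σ]
  exact isCharacter_character _

/-- A function induced from a generalized character is a generalized character. -/
theorem IsGeneralizedCharacter.indFun {θ : H → ℂ} (hθ : Cfsg.IsGeneralizedCharacter H θ) :
    Cfsg.IsGeneralizedCharacter G (Cfsg.indFun H θ) := by
  obtain ⟨a, b, ha, hb, rfl⟩ := hθ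
  exact ⟨_, _, IsCharacter.indFun H ha, IsCharacter.indFun H hb, indFun_sub H a b⟩

end Rep

end CfsgLib.Char
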