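import Cfsg.Agent.Lib.Char.Basic
import Cfsg.Agent.Lib.Char.Integral

/-!
# The semiring of characters and the ring of generalized characters
-/

set_option autoImplicit false

open scoped ComplexConjugate

namespace CfsgLib.Char

universe u v

variable {G : Type u} [Group G] {χ ψ : G → ℂ}

/-- The zero function is a character. -/
theorem isCharacter_zero : Cfsg.IsCharacter G (0 : G → ℂ) := by
  refine ⟨0, Representation.trivial ℂ G (Fin 0 → ℂ), ?_⟩
  funext g
  simp [Representation.character]

/-- The constant function one is a character. -/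
theorem isCharacter_one : Cfsg.IsCharacter G (1 : G → ℂ) := by
  refine ⟨1, Representation.trivial ℂ G (Fin 1 → ℂ), ?_⟩
  funext g
  simp [Representation.character]

/-- The sum of two characters is a character. -/
theorem IsCharacter.add (hχ : Cfsg.IsCharacter G χ) (hψ : Cfsg.IsCharacter G ψ) :
    Cfsg.IsCharacter G (χ + ψ) := by
  obtain ⟨n, ρ, rfl⟩ := hχ
  obtain ⟨m, σ, rfl⟩ := hψ
  have h : (ρ.prod σ).character = ρ.character + σ.character := by
    funext g
    exact LinearMap.trace_prodMap' (ρ g) (σ g)
  exact h ▸ isCharacter_character (ρ.prod σ)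

/-- The product of two characters is a character. -/
theorem IsCharacter.mul (hχ : Cfsg.IsCharacter G χ) (hψ : Cfsg.IsCharacter G ψ) :
    Cfsg.IsCharacter G (χ * ψ) := by
  obtain ⟨n, ρ, rfl⟩ := hχ
  obtain ⟨m, σ, rfl⟩ := hψ
  rw [← Representation.char_tensor]
  exact isCharacter_character _

/-- A natural number multiple of a character is a character. -/
theorem IsCharacter.nsmul (hχ : Cfsg.IsCharacter G χ) (n : ℕ) : Cfsg.IsCharacter G (n • χ) := by
  induction n with
  | zero => simpa using isCharacter_zero
  | succ n ih => rw [succ_nsmul]; exact IsCharacter.add ih hχ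

/-- A finite sum of characters is a character. -/
theorem IsCharacter.sum {ι : Type*} (s : Finset ι) (f : ι → G → ℂ)
    (h : ∀ i ∈ s, Cfsg.IsCharacter G (f i)) : Cfsg.IsCharacter G (∑ i ∈ s, f i) := by
  classical
  induction s using Finset.induction_on with
  | empty => simpa using isCharacter_zero
  | insert a s ha ih =>
    rw [Finset.sum_insert ha]
    exact IsCharacter.add (h a (Finset.mem_insert_self _ _))
      (ih fun i hi => h i (Finset.mem_insert_of_mem hi))

/-- A power of a character is a character. -/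
theorem IsCharacter.pow (hχ : Cfsg.IsCharacter G χ) (n : ℕ) : Cfsg.IsCharacter G (χ ^ n) := by
  induction n with
  | zero => simpa using isCharacter_one
  | succ n ih => rw [pow_succ]; exact IsCharacter.mul ih hχ

/-- Pullback of a character along a homomorphism. -/
theorem IsCharacter.comp {H : Type v} [Group H] (hχ : Cfsg.IsCharacter G χ) (φ : H →* G) :
    Cfsg.IsCharacter H (fun h => χ (φ h)) := by
  obtain ⟨n, ρ, rfl⟩ := hχ
  exact ⟨n, ρ.comp φ, rfl⟩

/-- Restriction of a character to a subgroup. -/
theorem IsCharacter.restrict (hχ : Cfsg.IsCharacter G χ) (H : Subgroup G) :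
    Cfsg.IsCharacter H (fun h : H => χ h) :=
  IsCharacter.comp hχ H.subtype

/-- A homomorphism to `ℂˣ` is an irreducible character. -/
theorem isIrrCharacter_monoidHom (lam : G →* ℂˣ) :
    Cfsg.IsIrrCharacter G (fun g => (lam g : ℂ)) := by
  let ρ : Representation ℂ G (Fin 1 → ℂ) :=
    (algebraMap ℂ (Module.End ℂ (Fin 1 → ℂ))).toMonoidHom.comp ((Units.coeHom ℂ).comp lam)
  refine ⟨1, ρ, ?_, ?_⟩
  · have : IsSimpleOrder (Submodule ℂ (Fin 1 → ℂ)) :=
      is_simple_module_of_finrank_eq_one (K := ℂ) (V := Fin 1 → ℂ) (by simp)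
    refine @IsSimpleOrder.mk _ _ _ ⟨⊥, ⊤, fun h => ?_⟩ fun p => ?_
    · exact bot_ne_top (congrArg Subrepresentation.toSubmodule h :
        (⊥ : Submodule ℂ (Fin 1 → ℂ)) = ⊤)
    · rcases eq_bot_or_eq_top p.toSubmodule with h | h
      · exact Or.inl (Subrepresentation.toSubmodule_injective h)
      · exact Or.inr (Subrepresentation.toSubmodule_injective h)
  · funext g
    simp [Representation.character, ρ, Algebra.algebraMap_eq_smul_one, LinearMap.trace_one]

/-- A character is a generalized character. -/
theorem IsCharacter.isGeneralizedCharacter (hχ : Cfsg.IsCharacter G χ) :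
    Cfsg.IsGeneralizedCharacter G χ :=
  ⟨χ, 0, hχ, isCharacter_zero, (sub_zero χ).symm⟩

/-- An irreducible character is a generalized character. -/
theorem IsIrrCharacter.isGeneralizedCharacter (hχ : Cfsg.IsIrrCharacter G χ) :
    Cfsg.IsGeneralizedCharacter G χ :=
  IsCharacter.isGeneralizedCharacter (IsIrrCharacter.isCharacter hχ)

namespace IsGeneralizedCharacter

variable {θ η : G → ℂ}

/-- Zero is a generalized character. -/
theorem zero : Cfsg.IsGeneralizedCharacter G (0 : G → ℂ) :=
  IsCharacter.isGeneralizedCharacter isCharacter_zero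

/-- One is a generalized character. -/
theorem one : Cfsg.IsGeneralizedCharacter G (1 : G → ℂ) :=
  IsCharacter.isGeneralizedCharacter isCharacter_one

/-- Sum of generalized characters. -/
theorem add (hθ : Cfsg.IsGeneralizedCharacter G θ) (hη : Cfsg.IsGeneralizedCharacter G η) :
    Cfsg.IsGeneralizedCharacter G (θ + η) := by
  obtain ⟨a, b, ha, hb, rfl⟩ := hθ
  obtain ⟨c, d, hc, hd, rfl⟩ := hη
  exact ⟨a + c, b + d, IsCharacter.add ha hc, IsCharacter.add hb hd, by abel⟩

/-- Negative of a generalized character. -/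
theorem neg (hθ : Cfsg.IsGeneralizedCharacter G θ) : Cfsg.IsGeneralizedCharacter G (-θ) := by
  obtain ⟨a, b, ha, hb, rfl⟩ := hθ
  exact ⟨b, a, hb, ha, neg_sub a b⟩

/-- Difference of generalized characters. -/
theorem sub (hθ : Cfsg.IsGeneralizedCharacter G θ) (hη : Cfsg.IsGeneralizedCharacter G η) :
    Cfsg.IsGeneralizedCharacter G (θ - η) := by
  rw [sub_eq_add_neg]; exact add hθ (neg hη)

/-- Product of generalized characters. -/
theorem mul (hθ : Cfsg.IsGeneralizedCharacter G θ) (hη : Cfsg.IsGeneralizedCharacter G η) :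
    Cfsg.IsGeneralizedCharacter G (θ * η) := by
  obtain ⟨a, b, ha, hb, rfl⟩ := hθ
  obtain ⟨c, d, hc, hd, rfl⟩ := hη
  exact ⟨a * c + b * d, a * d + b * c,
    IsCharacter.add (IsCharacter.mul ha hc) (IsCharacter.mul hb hd),
    IsCharacter.add (IsCharacter.mul ha hd) (IsCharacter.mul hb hc), by ring⟩

/-- Integer multiple of a generalized character. -/
theorem zsmul (hθ : Cfsg.IsGeneralizedCharacter G θ) (n : ℤ) :
    Cfsg.IsGeneralizedCharacter G (n • θ) := by
  obtain ⟨a, b, ha, hb, rfl⟩ := hθ
  obtain ⟨k, rfl | rfl⟩ := n.eq_nat_or_neg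
  · exact ⟨k • a, k • b, IsCharacter.nsmul ha k, IsCharacter.nsmul hb k, by
      rw [natCast_zsmul, nsmul_sub]⟩
  · exact ⟨k • b, k • a, IsCharacter.nsmul hb k, IsCharacter.nsmul ha k, by
      rw [neg_zsmul, natCast_zsmul, nsmul_sub, neg_sub]⟩

/-- Scalar multiple by an integer, written in `ℂ`. -/
theorem intCast_smul (hθ : Cfsg.IsGeneralizedCharacter G θ) (n : ℤ) :
    Cfsg.IsGeneralizedCharacter G ((n : ℂ) • θ) := by
  rw [Int.cast_smul_eq_zsmul ℂ]; exact zsmul hθ n

/-- Integer constants are generalized characters. -/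
theorem intCast (n : ℤ) : Cfsg.IsGeneralizedCharacter G (fun _ : G => (n : ℂ)) := by
  convert intCast_smul (G := G) one n using 1
  funext g; simp

/-- Finite sums of generalized characters. -/
theorem sum {ι : Type*} (s : Finset ι) (f : ι → G → ℂ)
    (h : ∀ i ∈ s, Cfsg.IsGeneralizedCharacter G (f i)) :
    Cfsg.IsGeneralizedCharacter G (∑ i ∈ s, f i) := by
  classical
  induction s using Finset.induction_on with
  | empty => simpa using zero
  | insert a s ha ih =>
    rw [Finset.sum_insert ha]
    exact add (h a (Finset.mem_insert_self _ _)) (ih fun i hi => h i (Finset.mem_insert_of_mem hi))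

/-- List sums of generalized characters. -/
theorem list_sum (l : List (G → ℂ)) (h : ∀ f ∈ l, Cfsg.IsGeneralizedCharacter G f) :
    Cfsg.IsGeneralizedCharacter G l.sum := by
  induction l with
  | nil => simpa using zero
  | cons a l ih =>
    rw [List.sum_cons]
    exact add (h a List.mem_cons_self) (ih fun f hf => h f (List.mem_cons_of_mem _ hf))

/-- Pullback of a generalized character along a homomorphism. -/
theorem comp {H : Type v} [Group H] (hθ : Cfsg.IsGeneralizedCharacter G θ) (φ : H →* G) :
    Cfsg.IsGeneralizedCharacter H (fun h => θ (φ h)) := by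
  obtain ⟨a, b, ha, hb, rfl⟩ := hθ
  exact ⟨_, _, IsCharacter.comp ha φ, IsCharacter.comp hb φ, rfl⟩

/-- Restriction of a generalized character to a subgroup. -/
theorem restrict (hθ : Cfsg.IsGeneralizedCharacter G θ) (H : Subgroup G) :
    Cfsg.IsGeneralizedCharacter H (fun h : H => θ h) :=
  comp hθ H.subtype

/-- Generalized characters are class functions. -/
theorem isClassFunction (hθ : Cfsg.IsGeneralizedCharacter G θ) : Cfsg.IsClassFunction G θ := by
  obtain ⟨a, b, ha, hb, rfl⟩ := hθ
  intro g h
  simp [IsCharacter.isClassFunction ha g h, IsCharacter.isClassFunction hb g h]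

/-- The degree of a generalized character is an integer. -/
theorem exists_int_apply_one (hθ : Cfsg.IsGeneralizedCharacter G θ) : ∃ z : ℤ, θ 1 = z := by
  obtain ⟨a, b, ha, hb, rfl⟩ := hθ
  obtain ⟨m, hm⟩ := IsCharacter.exists_degree ha
  obtain ⟨n, hn⟩ := IsCharacter.exists_degree hb
  exact ⟨(m : ℤ) - n, by simp [hm, hn]⟩

/-- Values of generalized characters are algebraic integers. -/
theorem isIntegral_apply [Finite G] (hθ : Cfsg.IsGeneralizedCharacter G θ) (g : G) :
    IsIntegral ℤ (θ g) := by
  obtain ⟨a, b, ⟨m, ρ, rfl⟩, ⟨n, σ, rfl⟩, rfl⟩ := hθ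
  exact (isIntegral_character ρ g).sub (isIntegral_character σ g)

end IsGeneralizedCharacter

end CfsgLib.Char
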