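import Cfsg.Agent.Lib.Char.Complete
import Cfsg.Agent.Lib.Char.Linear
import Cfsg.Agent.Lib.Char.Virtual

/-!
# Exceptional characters from a norm-two family
-/

set_option autoImplicit false

open scoped ComplexConjugate

namespace CfsgLib.CharExc

universe u

variable {G : Type u} [Group G] [Fintype G]

theorem exists_int_classInner {θ χ : G → ℂ} (hθ : Cfsg.IsGeneralizedCharacter G θ)
    (hχ : Cfsg.IsIrrCharacter G χ) : ∃ z : ℤ, Cfsg.classInner θ χ = z := by
  obtain ⟨a, b, ha, hb, rfl⟩ := hθ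
  obtain ⟨m, hm⟩ := Char.IsCharacter.exists_nat_classInner ha hχ
  obtain ⟨n, hn⟩ := Char.IsCharacter.exists_nat_classInner hb hχ
  exact ⟨(m : ℤ) - n, by rw [Char.classInner_sub_left, hm, hn]; simp⟩

/-- A degree-zero generalized character of norm two is a difference of two irreducibles. -/
theorem exists_sub_of_norm_two {θ : G → ℂ} (hθ : Cfsg.IsGeneralizedCharacter G θ) (h1 : θ 1 = 0)
    (h2 : Cfsg.classInner θ θ = 2) :
    ∃ a b : G → ℂ, Cfsg.IsIrrCharacter G a ∧ Cfsg.IsIrrCharacter G b ∧ a ≠ b ∧ θ = a - b := by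
  classical
  choose c hc using fun χ : Cfsg.IrrCharacter G => exists_int_classInner hθ χ.2
  have hcl : Cfsg.IsClassFunction G θ := by
    obtain ⟨a, b, ha, hb, rfl⟩ := hθ
    intro g h
    simp [Char.IsCharacter.isClassFunction ha g h, Char.IsCharacter.isClassFunction hb g h]
  have hexp := Char.IsClassFunction.eq_sum_classInner hcl
  simp only [hc] at hexp
  have hnorm : ∑ χ, c χ * c χ = 2 := by
    rw [hexp, Char.classInner_sum_smul_sum_smul] at h2
    simp only [map_intCast] at h2
    exact_mod_cast h2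
  set S := Finset.univ.filter fun χ : Cfsg.IrrCharacter G => c χ ≠ 0 with hS
  have hsumS : ∑ χ ∈ S, c χ * c χ = 2 := by
    rw [← hnorm]
    exact Finset.sum_filter_of_ne (p := fun χ => c χ ≠ 0) fun χ _ h (hc0 : c χ = 0) => h (by simp [hc0])
  have hle : ∀ χ ∈ S, 1 ≤ c χ * c χ := fun χ hχ => by
    have h0 := (Finset.mem_filter.mp hχ).2
    rcases lt_or_gt_of_ne h0 with h | h <;> nlinarith
  have hcard : S.card ≤ 2 := by
    have := Finset.card_nsmul_le_sum S _ 1 hle
    rw [hsumS] at this
    simp at this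
    exact_mod_cast this
  have hθS : θ = ∑ χ ∈ S, (c χ : ℂ) • (χ : G → ℂ) := by
    conv_lhs => rw [hexp]
    exact (Finset.sum_filter_of_ne (p := fun χ => c χ ≠ 0) fun χ _ h (hc0 : c χ = 0) => h (by simp [hc0])).symm
  interval_cases hk : S.card
  · simp [Finset.card_eq_zero.mp hk] at hsumS
  · obtain ⟨χ, hχ⟩ := Finset.card_eq_one.mp hk
    rw [hχ, Finset.sum_singleton] at hsumS
    exfalso
    have h0 : 0 < |c χ| := by
      rcases abs_nonneg (c χ) |>.eq_or_lt with h | h
      · exfalso
        rw [abs_eq_zero.mp h.symm] at hsumS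
        simp at hsumS
      · exact h
    have := abs_mul_abs_self (c χ)
    rcases le_or_gt |c χ| 1 with h | h <;> nlinarith
  · obtain ⟨χ, ψ, hne, hS'⟩ := Finset.card_eq_two.mp hk
    rw [hS', Finset.sum_pair hne] at hsumS
    rw [hS', Finset.sum_pair hne] at hθS
    have hχS : χ ∈ S := by simp [hS']
    have hψS : ψ ∈ S := by simp [hS']
    have e1 : c χ * c χ = 1 := by have := hle χ hχS; have := hle ψ hψS; linarith
    have e2 : c ψ * c ψ = 1 := by have := hle χ hχS; have := hle ψ hψS; linarith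
    obtain ⟨d, hd, hχd⟩ := Char.IsIrrCharacter.exists_degree χ.2
    obtain ⟨e, he, hψe⟩ := Char.IsIrrCharacter.exists_degree ψ.2
    have hdeg : c χ * d + c ψ * e = 0 := by
      have := congrFun hθS 1
      rw [h1] at this
      simp only [Pi.add_apply, Pi.smul_apply, smul_eq_mul, hχd, hψe] at this
      exact_mod_cast this.symm
    rcases mul_self_eq_one_iff.mp e1 with hx | hx <;>
      rcases mul_self_eq_one_iff.mp e2 with hy | hy
    · exfalso; rw [hx, hy] at hdeg; omega
    · refine ⟨χ, ψ, χ.2, ψ.2, fun h => hne (Subtype.ext h), ?_⟩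
      rw [hθS, hx, hy]
      funext g
      simp [sub_eq_add_neg]
    · refine ⟨ψ, χ, ψ.2, χ.2, fun h => hne (Subtype.ext h).symm, ?_⟩
      rw [hθS, hx, hy]
      funext g
      simp [sub_eq_add_neg]
      ring
    · exfalso; rw [hx, hy] at hdeg; omega

/-- A family of degree-zero generalized characters with Gram matrix `1 + δ` comes from a family
of irreducible characters: all members share the same base character. -/
theorem exists_base {ι : Type*} (i₀ : ι) (τ : ι → (G → ℂ)) (h0 : τ i₀ = 0)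
    (hgen : ∀ i, Cfsg.IsGeneralizedCharacter G (τ i)) (hone : ∀ i, τ i 1 = 0)
    (hnorm : ∀ i, i ≠ i₀ → Cfsg.classInner (τ i) (τ i) = 2)
    (hpair : ∀ i j, i ≠ i₀ → j ≠ i₀ → i ≠ j → Cfsg.classInner (τ i) (τ j) = 1) :
    ∃ ε : ℂ, (ε = 1 ∨ ε = -1) ∧ ∃ μ : ι → (G → ℂ), (∀ i, Cfsg.IsIrrCharacter G (μ i)) ∧
      Function.Injective μ ∧ ∀ i, τ i = ε • (μ i - μ i₀) := by
  classical
  have hne : ∀ i : {i // i ≠ i₀}, ∃ a b : G → ℂ, Cfsg.IsIrrCharacter G a ∧
      Cfsg.IsIrrCharacter G b ∧ a ≠ b ∧ τ i = a - b :=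
    fun i => exists_sub_of_norm_two (hgen i) (hone i) (hnorm i i.2)
  choose a b ha hb hab hτ using hne
  have hij : ∀ i j : {i // i ≠ i₀}, i ≠ j → (a i = a j ∧ b i ≠ b j) ∨ (a i ≠ a j ∧ b i = b j) := by
    intro i j h
    have h1 := hpair i j i.2 j.2 (fun e => h (Subtype.ext e))
    rw [hτ, hτ, Char.classInner_sub_left, Char.classInner_sub_right, Char.classInner_sub_right,
      Char.classInner_irr (ha i) (ha j), Char.classInner_irr (ha i) (hb j),
      Char.classInner_irr (hb i) (ha j), Char.classInner_irr (hb i) (hb j)] at h1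
    by_cases hA : a i = a j
    · refine Or.inl ⟨hA, fun hB => ?_⟩
      rw [if_pos hA, if_pos hB, if_neg (fun e => hab j (hA ▸ e)),
        if_neg (fun e => hab i (e.trans hA.symm).symm)] at h1
      norm_num at h1
    · refine Or.inr ⟨hA, ?_⟩
      by_contra hB
      rw [if_neg hA, if_neg hB] at h1
      split_ifs at h1 <;> norm_num at h1
  suffices h : ∃ (ε : ℂ) (base : G → ℂ) (f : {i // i ≠ i₀} → (G → ℂ)), (ε = 1 ∨ ε = -1) ∧
      Cfsg.IsIrrCharacter G base ∧ (∀ i, Cfsg.IsIrrCharacter G (f i)) ∧ (∀ i, f i ≠ base) ∧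
      Function.Injective f ∧ ∀ i : {i // i ≠ i₀}, τ i = ε • (f i - base) by
    obtain ⟨ε, base, f, hε, hbase, hf, hfb, hfi, hfτ⟩ := h
    refine ⟨ε, hε, fun i => if h : i = i₀ then base else f ⟨i, h⟩, fun i => ?_, ?_, fun i => ?_⟩
    · simp only; split_ifs
      · exact hbase
      · exact hf _
    · intro i j h
      simp only at h
      by_cases hi : i = i₀ <;> by_cases hj : j = i₀
      · rw [hi, hj]
      · rw [dif_pos hi, dif_neg hj] at h; exact absurd h.symm (hfb _)
      · rw [dif_neg hi, dif_pos hj] at h; exact absurd h (hfb _)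
      · rw [dif_neg hi, dif_neg hj] at h; exact congrArg Subtype.val (hfi h)
    · simp only [dite_true]
      by_cases hi : i = i₀
      · rw [dif_pos hi, sub_self, smul_zero, hi, h0]
      · rw [dif_neg hi]; exact hfτ ⟨i, hi⟩
  by_cases hA : ∀ i j : {i // i ≠ i₀}, i ≠ j → b i = b j
  · rcases isEmpty_or_nonempty {i // i ≠ i₀} with he | ⟨⟨i₁⟩⟩
    · exact ⟨1, _, isEmptyElim, Or.inl rfl, Char.isIrrCharacter_principal, isEmptyElim, isEmptyElim,
        fun i => isEmptyElim i, isEmptyElim⟩
    · have hball : ∀ i, b i = b i₁ := fun i => by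
        rcases eq_or_ne i i₁ with rfl | h
        · rfl
        · exact hA i i₁ h
      refine ⟨1, b i₁, a, Or.inl rfl, hb _, ha, fun i => ?_, fun i j h => ?_, fun i => ?_⟩
      · rw [← hball i]; exact hab i
      · by_contra hne
        rcases hij i j hne with h' | h'
        · exact h'.2 (hA i j hne)
        · exact h'.1 h
      · rw [one_smul, ← hball i]; exact hτ i
  · push Not at hA
    obtain ⟨i₁, j₁, hne₁, hb₁⟩ := hA
    have ha₁ : a i₁ = a j₁ := ((hij i₁ j₁ hne₁).resolve_right fun h => hb₁ h.2).1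
    have haall : ∀ k, a k = a i₁ := by
      intro k
      rcases eq_or_ne k i₁ with rfl | h1
      · rfl
      rcases hij k i₁ h1 with h | h
      · exact h.1
      · rcases eq_or_ne k j₁ with rfl | h2
        · exact ha₁.symm
        rcases hij k j₁ h2 with h' | h'
        · exact h'.1.trans ha₁.symm
        · exact absurd (h.2.symm.trans h'.2) hb₁
    refine ⟨-1, a i₁, b, Or.inr rfl, ha _, hb, fun i => ?_, fun i j h => ?_, fun i => ?_⟩
    · rw [← haall i]; exact (hab i).symm
    · by_contra hne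
      rcases hij i j hne with h' | h'
      · exact h'.2 h
      · exact h'.1 ((haall i).trans (haall j).symm)
    · rw [neg_one_smul, neg_sub, ← haall i]; exact hτ i

end CfsgLib.CharExc
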