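import Cfsg.Agent.Lib.Char.Conj
import Mathlib.LinearAlgebra.Matrix.ToLin
import Mathlib.LinearAlgebra.Matrix.Kronecker
import Mathlib.LinearAlgebra.Trace

/-!
# The Frobenius–Schur indicator
-/

set_option autoImplicit false

open scoped ComplexConjugate Kronecker
open Module Matrix

namespace CfsgLib.Char

universe u v

/-- The trace of an idempotent complex matrix is a natural number. -/
theorem exists_nat_trace_of_idempotent {ι : Type*} [Fintype ι] [DecidableEq ι]
    (M : Matrix ι ι ℂ) (h : M * M = M) : ∃ n : ℕ, M.trace = n := by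
  have hi : IsIdempotentElem (Matrix.toLin' M) := by
    change Matrix.toLin' M * Matrix.toLin' M = Matrix.toLin' M
    rw [Module.End.mul_eq_comp, ← Matrix.toLin'_mul, h]
  have hp := LinearMap.IsIdempotentElem.isProj_range _ hi
  refine ⟨finrank ℂ (LinearMap.range (Matrix.toLin' M)), ?_⟩
  rw [← hp.trace, Matrix.trace_toLin'_eq]

theorem idempotent_half {R : Type*} [Ring R] [Algebra ℂ R] {E F : R} (hEE : E * E = E)
    (hFF : F * F = 1) (hFE : F * E = E * F) (c : ℂ) (hc : c * c = 1) :
    ((2 : ℂ)⁻¹ • (E + c • (F * E))) * ((2 : ℂ)⁻¹ • (E + c • (F * E))) =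
      (2 : ℂ)⁻¹ • (E + c • (F * E)) := by
  have h1 : E * (F * E) = F * E := by rw [← mul_assoc, ← hFE, mul_assoc, hEE]
  have h2 : F * E * E = F * E := by rw [mul_assoc, hEE]
  have h3 : F * E * (F * E) = E := by rw [mul_assoc, h1, ← mul_assoc, hFF, one_mul]
  simp only [smul_mul_assoc, mul_smul_comm, add_mul, mul_add, hEE, h1, h2, h3, smul_add, smul_smul]
  match_scalars
  · linear_combination (1 / 4 : ℂ) * hc
  · ring

/-- The Frobenius–Schur indicator of a function on a finite group. -/
noncomputable def fsIndicator {G : Type u} [Group G] [Fintype G] (χ : G → ℂ) : ℂ :=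
  (Nat.card G : ℂ)⁻¹ * ∑ s : G, χ (s * s)

/-- The indicator is a difference of two natural numbers whose sum is `⟨χ ^ 2, 1⟩`. -/
theorem exists_fs_split {G : Type u} [Group G] [Fintype G] {n : ℕ}
    (ρ : Representation ℂ G (Fin n → ℂ)) :
    ∃ a b : ℕ, fsIndicator ρ.character = (a : ℂ) - b ∧
      (Nat.card G : ℂ)⁻¹ * ∑ s : G, ρ.character s * ρ.character s = (a : ℂ) + b := by
  classical
  let A : G → Matrix (Fin n) (Fin n) ℂ := fun x => LinearMap.toMatrix' (ρ x)
  have hA : ∀ x y, A (x * y) = A x * A y := fun x y => by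
    simp only [A, map_mul, Module.End.mul_eq_comp, LinearMap.toMatrix'_comp]
  have htr : ∀ x, ρ.character x = (A x).trace := fun x =>
    LinearMap.trace_eq_matrix_trace ℂ (Pi.basisFun ℂ (Fin n)) _
  let K : G → Matrix (Fin n × Fin n) (Fin n × Fin n) ℂ := fun x => A x ⊗ₖ A x
  have hK : ∀ x y, K (x * y) = K x * K y := fun x y => by
    simp only [K, hA, Matrix.mul_kronecker_mul]
  let F : Matrix (Fin n × Fin n) (Fin n × Fin n) ℂ :=
    Matrix.of fun p q => if p.swap = q then 1 else 0
  have hFmul : ∀ M : Matrix (Fin n × Fin n) (Fin n × Fin n) ℂ,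
      F * M = Matrix.of fun p q => M p.swap q := fun M => by
    ext p q
    simp [F, Matrix.mul_apply, ite_mul]
  have hmulF : ∀ M : Matrix (Fin n × Fin n) (Fin n × Fin n) ℂ,
      M * F = Matrix.of fun p q => M p q.swap := fun M => by
    ext p q
    rw [Matrix.mul_apply]
    refine (Finset.sum_eq_single q.swap ?_ ?_).trans ?_
    · intro r _ hr
      have : r.swap ≠ q := fun e => hr (by rw [← e, Prod.swap_swap])
      simp [F, this]
    · simp
    · simp [F]
  have hFF : F * F = 1 := by
    rw [hFmul]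
    ext p q
    simp [F, Matrix.one_apply]
  have hFK : ∀ x, F * K x = K x * F := fun x => by
    rw [hFmul, hmulF]
    ext p q
    simp [K, Matrix.kroneckerMap_apply, mul_comm]
  have hG : (Nat.card G : ℂ) ≠ 0 := Nat.cast_ne_zero.mpr Nat.card_pos.ne'
  let E : Matrix (Fin n × Fin n) (Fin n × Fin n) ℂ := (Nat.card G : ℂ)⁻¹ • ∑ x : G, K x
  have hKE : ∀ x, K x * E = E := fun x => by
    simp only [E, mul_smul_comm, Finset.mul_sum, ← hK]
    exact congrArg _ (Equiv.sum_comp (Equiv.mulLeft x) K)
  have hEE : E * E = E := by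
    conv_lhs => arg 1; simp only [E]
    rw [smul_mul_assoc, Finset.sum_mul, Finset.sum_congr rfl (fun x _ => hKE x),
      Finset.sum_const, Finset.card_univ, ← Nat.cast_smul_eq_nsmul ℂ, smul_smul,
      ← Nat.card_eq_fintype_card, inv_mul_cancel₀ hG, one_smul]
  have hFE : F * E = E * F := by
    simp only [E, mul_smul_comm, smul_mul_assoc, Finset.mul_sum, Finset.sum_mul, hFK]
  have hidem : ∀ c : ℂ, c * c = 1 → ((2 : ℂ)⁻¹ • (E + c • (F * E))) *
      ((2 : ℂ)⁻¹ • (E + c • (F * E))) = (2 : ℂ)⁻¹ • (E + c • (F * E)) :=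
    fun c hc => idempotent_half hEE hFF hFE c hc
  obtain ⟨a, ha⟩ := exists_nat_trace_of_idempotent _ (hidem 1 (by norm_num))
  obtain ⟨b, hb⟩ := exists_nat_trace_of_idempotent _ (hidem (-1) (by norm_num))
  simp only [Matrix.trace_smul, Matrix.trace_add, smul_eq_mul] at ha hb
  have hE : E.trace = (Nat.card G : ℂ)⁻¹ * ∑ s : G, ρ.character s * ρ.character s := by
    simp only [E, Matrix.trace_smul, Matrix.trace_sum, smul_eq_mul, K, Matrix.trace_kronecker, htr]
  have hFEt : (F * E).trace = fsIndicator ρ.character := by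
    simp only [E, mul_smul_comm, Finset.mul_sum, Matrix.trace_smul, Matrix.trace_sum, smul_eq_mul,
      fsIndicator]
    refine Finset.sum_congr rfl fun x _ => congrArg _ ?_
    rw [hFmul, htr, hA]
    simp [Matrix.trace, Matrix.diag, Matrix.mul_apply, Fintype.sum_prod_type, K,
      Matrix.kroneckerMap_apply, mul_comm]
  refine ⟨a, b, ?_, ?_⟩
  · rw [← hFEt]; linear_combination ha - hb
  · rw [← hE]; linear_combination ha + hb

/-- The indicator of an irreducible character is `0` or `±1`, and vanishes exactly for the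
non-real characters. -/
theorem fsIndicator_irr {G : Type u} [Group G] [Fintype G] {χ : G → ℂ}
    (hχ : Cfsg.IsIrrCharacter G χ) :
    (fsIndicator χ = 0 ∨ fsIndicator χ = 1 ∨ fsIndicator χ = -1) ∧
      (fsIndicator χ = 0 ↔ ∃ s : G, (χ s).im ≠ 0) := by
  classical
  have hi : (Nat.card G : ℂ)⁻¹ * ∑ s : G, χ s * χ s =
      Cfsg.classInner χ (fun s => conj (χ s)) := by
    simp [Cfsg.classInner]
  rw [classInner_irr hχ (IsIrrCharacter.conj_apply' hχ)] at hi
  obtain ⟨n, ρ, hρ, rfl⟩ := hχ
  obtain ⟨a, b, hν, hab⟩ := exists_fs_split ρ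
  rw [hi] at hab
  by_cases hreal : ∀ s, (ρ.character s).im = 0
  · rw [if_pos (funext fun s => (Complex.conj_eq_iff_im.mpr (hreal s)).symm)] at hab
    have h1 : a + b = 1 := by exact_mod_cast hab.symm
    rcases Nat.eq_zero_or_pos a with h0 | h0
    · have hb : b = 1 := by omega
      subst h0; subst hb
      simp only [Nat.cast_zero, Nat.cast_one, zero_sub] at hν
      simp [hν, hreal]
    · have ha : a = 1 := by omega
      have hb : b = 0 := by omega
      subst ha; subst hb
      simp only [Nat.cast_zero, Nat.cast_one, sub_zero] at hν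
      simp [hν, hreal]
  · have hne : ρ.character ≠ fun s => conj (ρ.character s) := fun e =>
      hreal fun s => Complex.conj_eq_iff_im.mp (congrFun e s).symm
    rw [if_neg hne] at hab
    have h1 : a + b = 0 := by exact_mod_cast hab.symm
    obtain ⟨rfl, rfl⟩ : a = 0 ∧ b = 0 := by omega
    simp only [Nat.cast_zero, sub_zero] at hν
    push Not at hreal
    simp [hν, hreal]

end CfsgLib.Char
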