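import Cfsg.Agent.Lib.Char.Basic
import Cfsg.Agent.Lib.Char.Integral
import Mathlib.RingTheory.Polynomial.Cyclotomic.Roots
import Mathlib.RingTheory.RootsOfUnity.Complex

/-!
# Character values at powers: the Galois action, elementary form

For `g` with `g ^ n = 1` and `ζ` a primitive `n`-th root of unity there is `P : ℤ[X]` with
`χ (g ^ k) = P (ζ ^ k)` for all `k`.
-/

set_option autoImplicit false

open Polynomial Module

namespace CfsgLib.CharPower

/-- Power sums of the primitive `n`-th roots of unity (Ramanujan sums) are integers. -/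
theorem sum_primitiveRoots_pow (n : ℕ) (j : ℕ) :
    ∃ z : ℤ, ∑ w ∈ primitiveRoots n ℂ, w ^ j = (z : ℂ) := by
  classical
  induction n using Nat.strong_induction_on with
  | _ n ih =>
    rcases Nat.eq_zero_or_pos n with rfl | hn
    · exact ⟨0, by simp [primitiveRoots]⟩
    have hne : n ≠ 0 := hn.ne'
    let ζ := Complex.exp (2 * Real.pi * Complex.I / n)
    have hζ : IsPrimitiveRoot ζ n := Complex.isPrimitiveRoot_exp n hne
    have hall : ∃ z : ℤ, ∑ w ∈ nthRootsFinset n (1 : ℂ), w ^ j = (z : ℂ) := by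
      have himg : nthRootsFinset n (1 : ℂ) = (Finset.range n).image (fun i => ζ ^ i) := by
        ext w
        rw [mem_nthRootsFinset hn, Finset.mem_image]
        constructor
        · intro hw
          have : NeZero n := ⟨hne⟩
          obtain ⟨i, hi, hiw⟩ := hζ.eq_pow_of_pow_eq_one hw
          exact ⟨i, Finset.mem_range.mpr hi, hiw⟩
        · rintro ⟨i, -, rfl⟩
          rw [← pow_mul, mul_comm, pow_mul, hζ.pow_eq_one, one_pow]
      rw [himg, Finset.sum_image (fun a ha b hb h => hζ.pow_inj (Finset.mem_range.mp ha)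
        (Finset.mem_range.mp hb) h), Finset.sum_congr rfl (fun i _ =>
        show (ζ ^ i) ^ j = (ζ ^ j) ^ i by rw [← pow_mul, mul_comm, pow_mul])]
      by_cases h1 : ζ ^ j = 1
      · exact ⟨n, by simp [h1]⟩
      · refine ⟨0, ?_⟩
        rw [geom_sum_eq h1, ← pow_mul, mul_comm, pow_mul, hζ.pow_eq_one, one_pow, sub_self,
          zero_div, Int.cast_zero]
    rw [IsPrimitiveRoot.nthRoots_one_eq_biUnion_primitiveRoots,
      Finset.sum_biUnion (fun a _ b _ hab => IsPrimitiveRoot.disjoint hab),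
      ← Nat.cons_self_properDivisors hne, Finset.sum_cons] at hall
    obtain ⟨z, hz⟩ := hall
    have hrest : ∑ d ∈ n.properDivisors, ∑ w ∈ primitiveRoots d ℂ, w ^ j ∈
        (Int.castRingHom ℂ).range := by
      refine Subring.sum_mem _ fun d hd => ?_
      obtain ⟨zd, hzd⟩ := ih d (Nat.mem_properDivisors.mp hd).2
      exact ⟨zd, hzd.symm⟩
    obtain ⟨z', hz'⟩ := hrest
    refine ⟨z - z', ?_⟩
    rw [Int.cast_sub, ← hz, ← hz']
    simp

/-- The sum of an integral polynomial over the primitive `n`-th roots of unity is an integer. -/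
theorem sum_primitiveRoots_aeval (n : ℕ) (P : ℤ[X]) :
    ∃ z : ℤ, ∑ w ∈ primitiveRoots n ℂ, aeval w P = (z : ℂ) := by
  induction P using Polynomial.induction_on' with
  | add P Q hP hQ =>
    obtain ⟨a, ha⟩ := hP
    obtain ⟨b, hb⟩ := hQ
    exact ⟨a + b, by simp [Finset.sum_add_distrib, ha, hb]⟩
  | monomial k a =>
    obtain ⟨z, hz⟩ := sum_primitiveRoots_pow n k
    exact ⟨a * z, by simp [aeval_monomial, ← Finset.mul_sum, hz]⟩

/-- An integral polynomial taking a rational value at one primitive root of unity takes it at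
all of them. -/
theorem aeval_eq_of_rat {n : ℕ} (hn : 0 < n) {ζ η : ℂ} (hζ : IsPrimitiveRoot ζ n)
    (hη : IsPrimitiveRoot η n) (P : ℤ[X]) (q : ℚ) (h : aeval ζ P = (q : ℂ)) :
    aeval η P = (q : ℂ) := by
  have key : ∀ w : ℂ, aeval w (P.map (Int.castRingHom ℚ) - C q) = aeval w P - (q : ℂ) := by
    intro w
    rw [map_sub, aeval_C, ← algebraMap_int_eq, aeval_map_algebraMap]
    simp
  have hdvd : minpoly ℚ ζ ∣ P.map (Int.castRingHom ℚ) - C q :=
    minpoly.dvd ℚ ζ (by rw [key, h, sub_self])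
  rw [← cyclotomic_eq_minpoly_rat hζ hn, cyclotomic_eq_minpoly_rat hη hn] at hdvd
  obtain ⟨R, hR⟩ := hdvd
  have := key η
  rw [hR, map_mul, minpoly.aeval, zero_mul] at this
  exact sub_eq_zero.mp this.symm

/-- An integral polynomial constant on the primitive roots of unity has rational value there. -/
theorem exists_rat_of_aeval_const {n : ℕ} (hn : 0 < n) {ζ : ℂ} (hζ : IsPrimitiveRoot ζ n)
    (P : ℤ[X]) (h : ∀ η : ℂ, IsPrimitiveRoot η n → aeval η P = aeval ζ P) :
    ∃ q : ℚ, aeval ζ P = (q : ℂ) := by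
  obtain ⟨z, hz⟩ := sum_primitiveRoots_aeval n P
  rw [Finset.sum_congr rfl (fun w hw => h w ((mem_primitiveRoots hn).mp hw)), Finset.sum_const,
    nsmul_eq_mul] at hz
  have hc : ((primitiveRoots n ℂ).card : ℂ) ≠ 0 :=
    Nat.cast_ne_zero.mpr (Finset.card_ne_zero.mpr ⟨ζ, (mem_primitiveRoots hn).mpr hζ⟩)
  refine ⟨(z : ℚ) / (primitiveRoots n ℂ).card, ?_⟩
  rw [Rat.cast_div, Rat.cast_intCast, Rat.cast_natCast, ← hz, mul_div_cancel_left₀ _ hc]

variable {G : Type*} [Group G] [Finite G]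

/-- Character values on the powers of `g` as values of one integral polynomial. -/
theorem exists_poly {V : Type*} [AddCommGroup V] [Module ℂ V] [FiniteDimensional ℂ V]
    (ρ : Representation ℂ G V) (g : G) {n : ℕ} (hn : 0 < n) (hg : g ^ n = 1) {ζ : ℂ}
    (hζ : IsPrimitiveRoot ζ n) :
    ∃ P : ℤ[X], ∀ k : ℕ, ρ.character (g ^ k) = aeval (ζ ^ k) P := by
  obtain ⟨μ, hμ, -, -, hpow⟩ := CfsgLib.Char.exists_eigenvalues ρ g
  have : NeZero n := ⟨hn.ne'⟩
  have hexp : ∀ i, ∃ e, ζ ^ e = μ i := fun i => by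
    obtain ⟨c, hc⟩ := orderOf_dvd_of_pow_eq_one hg
    obtain ⟨e, -, he⟩ := hζ.eq_pow_of_pow_eq_one (ξ := μ i) (by rw [hc, pow_mul, hμ, one_pow])
    exact ⟨e, he⟩
  choose e he using hexp
  refine ⟨∑ i, X ^ e i, fun k => ?_⟩
  rw [hpow, map_sum]
  refine Finset.sum_congr rfl fun i _ => ?_
  rw [map_pow, aeval_X, ← he, ← pow_mul, ← pow_mul, mul_comm]

/-- The same for a character in the sense of `Cfsg.IsCharacter`. -/
theorem exists_poly_of_isCharacter {χ : G → ℂ} (hχ : Cfsg.IsCharacter G χ) (g : G) {n : ℕ}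
    (hn : 0 < n) (hg : g ^ n = 1) {ζ : ℂ} (hζ : IsPrimitiveRoot ζ n) :
    ∃ P : ℤ[X], ∀ k : ℕ, χ (g ^ k) = aeval (ζ ^ k) P := by
  obtain ⟨m, ρ, rfl⟩ := hχ
  exact exists_poly ρ g hn hg hζ

/-- A character value at `g` is rational iff it is unchanged on the coprime powers of `g`. -/
theorem exists_rat_iff {χ : G → ℂ} (hχ : Cfsg.IsCharacter G χ) (g : G) {n : ℕ}
    (hn : 0 < n) (hg : g ^ n = 1) :
    (∃ q : ℚ, χ g = (q : ℂ)) ↔ ∀ m : ℕ, m.Coprime n → χ (g ^ m) = χ g := by
  let ζ := Complex.exp (2 * Real.pi * Complex.I / n)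
  have hζ : IsPrimitiveRoot ζ n := Complex.isPrimitiveRoot_exp n hn.ne'
  obtain ⟨P, hP⟩ := exists_poly_of_isCharacter hχ g hn hg hζ
  have h1 := hP 1
  simp only [pow_one] at h1
  constructor
  · rintro ⟨q, hq⟩ m hm
    rw [hP m, hq]
    exact aeval_eq_of_rat hn hζ (hζ.pow_of_coprime m hm) P q (by rw [← h1, hq])
  · intro h
    rw [h1]
    refine exists_rat_of_aeval_const hn hζ P fun η hη => ?_
    have : NeZero n := ⟨hn.ne'⟩
    obtain ⟨i, -, rfl⟩ := hζ.eq_pow_of_pow_eq_one hη.pow_eq_one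
    rw [← hP, ← h1, h i ((hζ.pow_iff_coprime hn i).mp hη)]

omit [Finite G] in
/-- `g ↦ g ^ m` is a bijection for `m` prime to the group order; it fixes exactly `1` to `1`. -/
theorem pow_eq_one_iff_of_coprime {m : ℕ} (hm : m.Coprime (Nat.card G)) (g : G) :
    g ^ m = 1 ↔ g = 1 := by
  refine ⟨fun h => ?_, fun h => by rw [h, one_pow]⟩
  have h1 : orderOf g ∣ Nat.gcd m (Nat.card G) :=
    Nat.dvd_gcd (orderOf_dvd_of_pow_eq_one h) (orderOf_dvd_natCard g)
  rw [hm.gcd_eq_one, Nat.dvd_one, orderOf_eq_one_iff] at h1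
  exact h1

end CfsgLib.CharPower
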