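import Cfsg.Agent.Lib.Char.Basic
import Mathlib.RepresentationTheory.Maschke
import Mathlib.RepresentationTheory.Semisimple

/-!
# Orthogonality of irreducible characters and decomposition of characters
-/

set_option autoImplicit false

open scoped ComplexConjugate
open Module

namespace CfsgLib.Char

universe u v

section Inner

variable {G : Type u} [Group G] [Fintype G]

theorem classInner_zero_left (ψ : G → ℂ) : Cfsg.classInner (0 : G → ℂ) ψ = 0 := by
  simp [Cfsg.classInner]

theorem classInner_zero_right (φ : G → ℂ) : Cfsg.classInner φ (0 : G → ℂ) = 0 := by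
  simp [Cfsg.classInner]

theorem classInner_add_left (a b ψ : G → ℂ) :
    Cfsg.classInner (a + b) ψ = Cfsg.classInner a ψ + Cfsg.classInner b ψ := by
  simp [Cfsg.classInner, add_mul, Finset.sum_add_distrib, mul_add]

theorem classInner_add_right (φ a b : G → ℂ) :
    Cfsg.classInner φ (a + b) = Cfsg.classInner φ a + Cfsg.classInner φ b := by
  simp [Cfsg.classInner, mul_add, Finset.sum_add_distrib]

theorem classInner_neg_left (a ψ : G → ℂ) :
    Cfsg.classInner (-a) ψ = -Cfsg.classInner a ψ := by
  simp [Cfsg.classInner]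

theorem classInner_neg_right (φ a : G → ℂ) :
    Cfsg.classInner φ (-a) = -Cfsg.classInner φ a := by
  simp [Cfsg.classInner]

theorem classInner_sub_left (a b ψ : G → ℂ) :
    Cfsg.classInner (a - b) ψ = Cfsg.classInner a ψ - Cfsg.classInner b ψ := by
  rw [sub_eq_add_neg, classInner_add_left, classInner_neg_left, sub_eq_add_neg]

theorem classInner_sub_right (φ a b : G → ℂ) :
    Cfsg.classInner φ (a - b) = Cfsg.classInner φ a - Cfsg.classInner φ b := by
  rw [sub_eq_add_neg, classInner_add_right, classInner_neg_right, sub_eq_add_neg]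

theorem classInner_smul_left (c : ℂ) (a ψ : G → ℂ) :
    Cfsg.classInner (c • a) ψ = c * Cfsg.classInner a ψ := by
  simp only [Cfsg.classInner, Pi.smul_apply, smul_eq_mul, Finset.mul_sum]
  exact Finset.sum_congr rfl fun g _ => by ring

theorem classInner_smul_right (c : ℂ) (φ a : G → ℂ) :
    Cfsg.classInner φ (c • a) = conj c * Cfsg.classInner φ a := by
  simp only [Cfsg.classInner, Pi.smul_apply, smul_eq_mul, Finset.mul_sum, map_mul]
  exact Finset.sum_congr rfl fun g _ => by ring

theorem classInner_sum_left {ι : Type*} (s : Finset ι) (a : ι → G → ℂ) (ψ : G → ℂ) :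
    Cfsg.classInner (∑ i ∈ s, a i) ψ = ∑ i ∈ s, Cfsg.classInner (a i) ψ := by
  classical
  induction s using Finset.induction with
  | empty => simp [classInner_zero_left]
  | insert i s hi ih => rw [Finset.sum_insert hi, Finset.sum_insert hi, classInner_add_left, ih]

theorem classInner_sum_right {ι : Type*} (s : Finset ι) (φ : G → ℂ) (a : ι → G → ℂ) :
    Cfsg.classInner φ (∑ i ∈ s, a i) = ∑ i ∈ s, Cfsg.classInner φ (a i) := by
  classical
  induction s using Finset.induction with
  | empty => simp [classInner_zero_right]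
  | insert i s hi ih => rw [Finset.sum_insert hi, Finset.sum_insert hi, classInner_add_right, ih]

theorem classInner_conj_symm (φ ψ : G → ℂ) :
    conj (Cfsg.classInner φ ψ) = Cfsg.classInner ψ φ := by
  simp [Cfsg.classInner, map_sum, mul_comm]

/-- The inner product of two characters is the dimension of the intertwining space. -/
theorem classInner_character {V : Type*} [AddCommGroup V] [Module ℂ V] [FiniteDimensional ℂ V]
    {W : Type*} [AddCommGroup W] [Module ℂ W] [FiniteDimensional ℂ W]
    (ρ : Representation ℂ G V) (σ : Representation ℂ G W) :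
    Cfsg.classInner ρ.character σ.character
      = finrank ℂ (Representation.IntertwiningMap σ ρ) := by
  have : Invertible (Nat.card G : ℂ) := invertibleOfNonzero (Nat.cast_ne_zero.mpr Nat.card_pos.ne')
  rw [← Representation.card_inv_mul_sum_char_mul_char_eq_finrank σ ρ]
  simp [Cfsg.classInner, character_inv]

/-- Row orthogonality. -/
theorem classInner_irr {χ ψ : G → ℂ} (hχ : Cfsg.IsIrrCharacter G χ)
    (hψ : Cfsg.IsIrrCharacter G ψ) [Decidable (χ = ψ)] :
    Cfsg.classInner χ ψ = if χ = ψ then 1 else 0 := by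
  obtain ⟨n, ρ, hρ, rfl⟩ := hχ
  obtain ⟨m, σ, hσ, rfl⟩ := hψ
  have h0 : ∀ {τ : Representation ℂ G (Fin n → ℂ)}, τ.IsIrreducible →
      Cfsg.classInner τ.character τ.character = 1 := fun {τ} _ => by
    rw [classInner_character]; simp
  split_ifs with h
  · rw [← h]; exact h0 hρ
  · have : IsEmpty (Representation.Equiv σ ρ) := ⟨fun e => h (Representation.char_iso e).symm⟩
    rw [classInner_character]
    simp [finrank_zero_of_subsingleton]

theorem classInner_irr_self {χ : G → ℂ} (hχ : Cfsg.IsIrrCharacter G χ) :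
    Cfsg.classInner χ χ = 1 := by
  classical
  rw [classInner_irr hχ hχ, if_pos rfl]

theorem classInner_irr_of_ne {χ ψ : G → ℂ} (hχ : Cfsg.IsIrrCharacter G χ)
    (hψ : Cfsg.IsIrrCharacter G ψ) (h : χ ≠ ψ) : Cfsg.classInner χ ψ = 0 := by
  classical
  rw [classInner_irr hχ hψ, if_neg h]

theorem classInner_irrCharacter [DecidableEq (Cfsg.IrrCharacter G)] (χ ψ : Cfsg.IrrCharacter G) :
    Cfsg.classInner (χ : G → ℂ) ψ = if χ = ψ then 1 else 0 := by
  split_ifs with h
  · rw [h]; exact classInner_irr_self ψ.2
  · exact classInner_irr_of_ne χ.2 ψ.2 fun e => h (Subtype.ext e)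

end Inner

section Finiteness

variable {G : Type u} [Group G] [Finite G]

theorem linearIndependent_irrCharacter :
    LinearIndependent ℂ (fun χ : Cfsg.IrrCharacter G => (χ : G → ℂ)) := by
  classical
  cases nonempty_fintype G
  refine linearIndependent_iff'.mpr fun s c h ψ hψ => ?_
  have h2 := congrArg (fun f => Cfsg.classInner f (ψ : G → ℂ)) h
  simp only [classInner_sum_left, classInner_smul_left, classInner_irrCharacter,
    classInner_zero_left, mul_ite, mul_one, mul_zero, Finset.sum_ite_eq', hψ, if_true] at h2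
  exact h2

instance instFiniteIrrCharacter : Finite (Cfsg.IrrCharacter G) :=
  linearIndependent_irrCharacter.finite

noncomputable instance instFintypeIrrCharacter : Fintype (Cfsg.IrrCharacter G) :=
  Fintype.ofFinite _

end Finiteness

section Decomposition

variable {G : Type u} [Group G] [Finite G]

/-- Maschke: a representation is zero, irreducible, or a sum of two smaller ones. -/
theorem trichotomy {V : Type v} [AddCommGroup V] [Module ℂ V] [FiniteDimensional ℂ V]
    (ρ : Representation ℂ G V) :
    Subsingleton V ∨ ρ.IsIrreducible ∨ ∃ W W' : Subrepresentation ρ,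
      IsCompl W.toSubmodule W'.toSubmodule ∧ finrank ℂ W.toSubmodule < finrank ℂ V ∧
        finrank ℂ W'.toSubmodule < finrank ℂ V := by
  rcases subsingleton_or_nontrivial V with h | h
  · exact .inl h
  · by_cases hirr : ρ.IsIrreducible
    · exact .inr (.inl hirr)
    · refine .inr (.inr ?_)
      have hnt : Nontrivial (Subrepresentation ρ) :=
        ⟨⊥, ⊤, fun e => bot_ne_top (α := Submodule ℂ V)
          (congrArg Subrepresentation.toSubmodule e)⟩
      obtain ⟨W, hW1, hW2⟩ : ∃ W : Subrepresentation ρ, W ≠ ⊥ ∧ W ≠ ⊤ := by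
        by_contra hcon
        push Not at hcon
        exact hirr { eq_bot_or_eq_top := fun W => or_iff_not_imp_left.mpr (hcon W) }
      obtain ⟨W', hc⟩ := exists_isCompl W
      refine ⟨W, W', ⟨disjoint_iff.mpr ?_, codisjoint_iff.mpr ?_⟩,
        Submodule.finrank_lt fun e => hW2 (Subrepresentation.toSubmodule_injective e),
        Submodule.finrank_lt fun e => hW1 ?_⟩
      · rw [← Subrepresentation.toSubmodule_inf, hc.inf_eq_bot]; rfl
      · rw [← Subrepresentation.toSubmodule_sup, hc.sup_eq_top]; rfl
      · have e' : W' = ⊤ := Subrepresentation.toSubmodule_injective e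
        have := hc.inf_eq_bot
        rwa [e', inf_top_eq] at this

omit [Finite G] in
/-- The character of a direct sum. -/
theorem character_eq_add {V : Type v} [AddCommGroup V] [Module ℂ V] [FiniteDimensional ℂ V]
    (ρ : Representation ℂ G V) (W W' : Subrepresentation ρ)
    (h : IsCompl W.toSubmodule W'.toSubmodule) :
    ρ.character = W.toRepresentation.character + W'.toRepresentation.character := by
  funext g
  let e := Submodule.prodEquivOfIsCompl W.toSubmodule W'.toSubmodule h
  have he : ρ g = e.conj ((W.toRepresentation g).prodMap (W'.toRepresentation g)) := by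
    ext v
    obtain ⟨⟨a, b⟩, rfl⟩ := e.surjective v
    simp [LinearEquiv.conj_apply, e, Submodule.coe_prodEquivOfIsCompl',
      Subrepresentation.toRepresentation]
  rw [Representation.character, he, LinearMap.trace_conj', LinearMap.trace_prodMap']
  rfl

/-- Induction principle for characters: reduce to irreducible characters. -/
theorem character_induction {P : (G → ℂ) → Prop} (h0 : P 0)
    (hirr : ∀ χ, Cfsg.IsIrrCharacter G χ → P χ) (hadd : ∀ a b, P a → P b → P (a + b))
    {V : Type v} [AddCommGroup V] [Module ℂ V] [FiniteDimensional ℂ V]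
    (ρ : Representation ℂ G V) : P ρ.character := by
  induction hn : finrank ℂ V using Nat.strong_induction_on generalizing V with
  | _ n ih =>
    rcases trichotomy ρ with h | h | ⟨W, W', hc, hW, hW'⟩
    · convert h0
      funext g
      simp [Representation.character, Subsingleton.elim (ρ g) 0]
    · exact hirr _ (isIrrCharacter_character ρ)
    · rw [character_eq_add ρ W W' hc]
      exact hadd _ _ (ih _ (hn ▸ hW) W.toRepresentation rfl)
        (ih _ (hn ▸ hW') W'.toRepresentation rfl)

theorem IsCharacter.induction {P : (G → ℂ) → Prop} {χ : G → ℂ} (h : Cfsg.IsCharacter G χ)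
    (h0 : P 0) (hirr : ∀ ψ, Cfsg.IsIrrCharacter G ψ → P ψ)
    (hadd : ∀ a b, P a → P b → P (a + b)) : P χ := by
  obtain ⟨n, ρ, rfl⟩ := h
  exact character_induction h0 hirr hadd ρ

/-- Every character is a sum of irreducible characters with natural multiplicities. -/
theorem IsCharacter.exists_nat_combination {χ : G → ℂ} (h : Cfsg.IsCharacter G χ) :
    ∃ m : Cfsg.IrrCharacter G → ℕ, χ = ∑ ψ, (m ψ : ℂ) • (ψ : G → ℂ) := by
  classical
  refine IsCharacter.induction (P := fun a => ∃ m : Cfsg.IrrCharacter G → ℕ,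
    a = ∑ ψ, (m ψ : ℂ) • (ψ : G → ℂ)) h ⟨0, by simp⟩ (fun ψ hψ => ⟨Pi.single ⟨ψ, hψ⟩ 1, ?_⟩) ?_
  · rw [Finset.sum_eq_single (⟨ψ, hψ⟩ : Cfsg.IrrCharacter G)] <;> simp_all [Pi.single_apply]
  · rintro _ _ ⟨m, rfl⟩ ⟨m', rfl⟩
    exact ⟨m + m', by simp [add_smul, Finset.sum_add_distrib]⟩

end Decomposition

section Multiplicity

variable {G : Type u} [Group G] [Fintype G]

theorem classInner_sum_smul_irr (c : Cfsg.IrrCharacter G → ℂ) (ψ : Cfsg.IrrCharacter G) :
    Cfsg.classInner (∑ χ, c χ • (χ : G → ℂ)) ψ = c ψ := by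
  classical
  simp [classInner_sum_left, classInner_smul_left, classInner_irrCharacter]

theorem classInner_sum_smul_sum_smul (c d : Cfsg.IrrCharacter G → ℂ) :
    Cfsg.classInner (∑ χ, c χ • (χ : G → ℂ)) (∑ χ, d χ • (χ : G → ℂ))
      = ∑ χ, c χ * conj (d χ) := by
  simp only [classInner_sum_right, classInner_smul_right, classInner_sum_smul_irr, mul_comm]

/-- A character is the sum over the irreducible characters of its inner products. -/
theorem IsCharacter.eq_sum_classInner {χ : G → ℂ} (h : Cfsg.IsCharacter G χ) :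
    χ = ∑ ψ : Cfsg.IrrCharacter G, Cfsg.classInner χ ψ • (ψ : G → ℂ) := by
  obtain ⟨m, rfl⟩ := IsCharacter.exists_nat_combination h
  simp only [classInner_sum_smul_irr]

theorem IsCharacter.exists_nat_classInner {χ ψ : G → ℂ} (h : Cfsg.IsCharacter G χ)
    (hψ : Cfsg.IsIrrCharacter G ψ) : ∃ n : ℕ, Cfsg.classInner χ ψ = n := by
  obtain ⟨m, rfl⟩ := IsCharacter.exists_nat_combination h
  exact ⟨m ⟨ψ, hψ⟩, classInner_sum_smul_irr (fun φ => (m φ : ℂ)) ⟨ψ, hψ⟩⟩

theorem IsCharacter.exists_nat_classInner' {χ ψ : G → ℂ} (h : Cfsg.IsCharacter G χ)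
    (h' : Cfsg.IsCharacter G ψ) : ∃ n : ℕ, Cfsg.classInner χ ψ = n := by
  obtain ⟨n, ρ, rfl⟩ := h
  obtain ⟨m, σ, rfl⟩ := h'
  exact ⟨_, classInner_character ρ σ⟩

/-- A character of norm one is irreducible. -/
theorem IsCharacter.isIrrCharacter_of_classInner_self {χ : G → ℂ} (h : Cfsg.IsCharacter G χ)
    (h1 : Cfsg.classInner χ χ = 1) : Cfsg.IsIrrCharacter G χ := by
  obtain ⟨m, rfl⟩ := IsCharacter.exists_nat_combination h
  have h2 : ∑ φ, m φ * m φ = 1 := by
    have h3 := classInner_sum_smul_sum_smul (G := G) (fun φ => (m φ : ℂ)) (fun φ => (m φ : ℂ))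
    rw [h1] at h3
    simp only [map_natCast] at h3
    exact_mod_cast h3.symm
  obtain ⟨φ, hφ⟩ : ∃ φ, m φ ≠ 0 := by
    by_contra hcon
    push Not at hcon
    simp [hcon] at h2
  have hle := Finset.single_le_sum (f := fun φ => m φ * m φ) (fun _ _ => Nat.zero_le _)
    (Finset.mem_univ φ)
  have hφ1 : m φ = 1 := by
    simp only [h2] at hle
    nlinarith [Nat.pos_of_ne_zero hφ]
  have hothers : ∀ ψ, ψ ≠ φ → m ψ = 0 := by
    intro ψ hψ
    classical
    have h3 := Finset.add_sum_erase (Finset.univ) (fun φ => m φ * m φ) (Finset.mem_univ φ)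
    rw [h2] at h3
    simp only [hφ1, mul_one] at h3
    have h4 : ∑ x ∈ Finset.univ.erase φ, m x * m x = 0 := by omega
    simpa using (Finset.sum_eq_zero_iff.mp h4) ψ (by simp [hψ])
  rw [Finset.sum_eq_single φ (fun ψ _ hψ => by simp [hothers ψ hψ]) (by simp), hφ1]
  simpa using φ.2

/-- Two irreducible characters with nonzero inner product are equal. -/
theorem eq_of_classInner_ne_zero {χ ψ : G → ℂ} (hχ : Cfsg.IsIrrCharacter G χ)
    (hψ : Cfsg.IsIrrCharacter G ψ) (h : Cfsg.classInner χ ψ ≠ 0) : χ = ψ := by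
  by_contra hne
  exact h (classInner_irr_of_ne hχ hψ hne)

end Multiplicity

end CfsgLib.Char
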