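import Cfsg.Agent.Lib.Char.Complete

/-!
# Complex conjugation of characters, automorphisms and the permutation lemma
-/

set_option autoImplicit false

open scoped ComplexConjugate
open Module

namespace CfsgLib.Char

universe u v

variable {G : Type u} [Group G] [Finite G]

/-- The complex conjugate of a character is a character. -/
theorem IsCharacter.conj_apply' {χ : G → ℂ} (h : Cfsg.IsCharacter G χ) :
    Cfsg.IsCharacter G (fun g => conj (χ g)) := by
  have he : (fun g => conj (χ g)) = fun g => χ g⁻¹ :=
    funext fun g => (IsCharacter.apply_inv h g).symm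
  rw [he]
  obtain ⟨n, ρ, rfl⟩ := h
  have h2 : ρ.dual.character = fun g => ρ.character g⁻¹ := funext fun g => ρ.char_dual g
  rw [← h2]
  exact isCharacter_character ρ.dual

/-- The complex conjugate of an irreducible character is irreducible. -/
theorem IsIrrCharacter.conj_apply' {χ : G → ℂ} (h : Cfsg.IsIrrCharacter G χ) :
    Cfsg.IsIrrCharacter G (fun g => conj (χ g)) := by
  cases nonempty_fintype G
  refine IsCharacter.isIrrCharacter_of_classInner_self
    (IsCharacter.conj_apply' (IsIrrCharacter.isCharacter h)) ?_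
  rw [← classInner_irr_self h]
  simp only [Cfsg.classInner, RingHomCompTriple.comp_apply, RingHom.id_apply, mul_comm]

theorem IsIrrCharacter.comp_mulEquiv {χ : G → ℂ} (h : Cfsg.IsIrrCharacter G χ) (α : G ≃* G) :
    Cfsg.IsIrrCharacter G (χ ∘ α) := by
  cases nonempty_fintype G
  obtain ⟨n, ρ, hρ, rfl⟩ := h
  refine IsCharacter.isIrrCharacter_of_classInner_self ⟨n, ρ.comp α.toMonoidHom, rfl⟩ ?_
  rw [← classInner_irr_self (isIrrCharacter_character ρ)]
  simp only [Cfsg.classInner, Function.comp_apply]
  congr 1
  exact Fintype.sum_equiv α.toEquiv _ _ fun g => rfl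

/-- Sum over the group of a centralizer-weighted class-function. -/
theorem sum_centralizer_mul [Fintype G] [Fintype (ConjClasses G)] (f : ConjClasses G → ℂ) :
    ∑ g : G, (Nat.card (Subgroup.centralizer ({g} : Set G)) : ℂ) * f (ConjClasses.mk g) =
      (Nat.card G : ℂ) * ∑ C, f C := by
  classical
  rw [Finset.mul_sum]
  have hfib := Finset.sum_fiberwise (Finset.univ : Finset G) ConjClasses.mk
    (fun g => (Nat.card (Subgroup.centralizer ({g} : Set G)) : ℂ) * f (ConjClasses.mk g))
  rw [← hfib]
  refine Finset.sum_congr rfl fun C _ => ?_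
  obtain ⟨c, rfl⟩ := Quotient.mk_surjective C
  change ∑ i ∈ Finset.univ.filter (fun i : G => ConjClasses.mk i = ConjClasses.mk c),
    (Nat.card (Subgroup.centralizer ({i} : Set G)) : ℂ) * f (ConjClasses.mk i) =
      (Nat.card G : ℂ) * f (ConjClasses.mk c)
  have hk : ∀ i ∈ Finset.univ.filter (fun i : G => ConjClasses.mk i = ConjClasses.mk c),
      (Nat.card (Subgroup.centralizer ({i} : Set G)) : ℂ) * f (ConjClasses.mk i) =
        (Nat.card (Subgroup.centralizer ({c} : Set G)) : ℂ) * f (ConjClasses.mk c) := by
    intro i hi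
    have he : ConjClasses.mk i = ConjClasses.mk c := (Finset.mem_filter.mp hi).2
    have hic : IsConj i c := ConjClasses.mk_eq_mk_iff_isConj.mp he
    have h1 := card_isConj_mul_card_centralizer i
    have h2 := card_isConj_mul_card_centralizer c
    have h3 : Nat.card {x : G // IsConj i x} = Nat.card {x : G // IsConj c x} :=
      Nat.card_congr (Equiv.subtypeEquivRight fun x =>
        ⟨fun e => hic.symm.trans e, fun e => hic.trans e⟩)
    have hpos : 0 < Nat.card {x : G // IsConj c x} :=
      Nat.card_pos_iff.mpr ⟨⟨⟨c, IsConj.refl c⟩⟩, inferInstance⟩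
    rw [h3, ← h2] at h1
    rw [he, Nat.eq_of_mul_eq_mul_left hpos h1]
  rw [Finset.sum_congr rfl hk, Finset.sum_const, nsmul_eq_mul]
  have hcard : (Finset.univ.filter (fun i : G => ConjClasses.mk i = ConjClasses.mk c)).card =
      Nat.card {x : G // IsConj c x} := by
    rw [Nat.card_eq_fintype_card, Fintype.card_subtype]
    congr 1
    ext i
    simp only [Finset.mem_filter, Finset.mem_univ, true_and, ConjClasses.mk_eq_mk_iff_isConj]
    exact isConj_comm
  rw [hcard, ← mul_assoc, ← Nat.cast_mul, card_isConj_mul_card_centralizer]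

/-- Brauer's permutation lemma: if composition with `s` maps irreducible characters to
irreducible characters, the fixed irreducible characters are as many as the classes `C` with
`s g` conjugate to `g` on `C`. -/
theorem card_fixed_irr_eq_card_fixed_classes (s : G → G)
    (hs : ∀ χ : G → ℂ, Cfsg.IsIrrCharacter G χ → Cfsg.IsIrrCharacter G (χ ∘ s)) :
    Nat.card {χ : Cfsg.IrrCharacter G // (χ : G → ℂ) ∘ s = (χ : G → ℂ)} =
      Nat.card {C : ConjClasses G // ∀ g : G, ConjClasses.mk g = C → IsConj (s g) g} := by
  classical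
  cases nonempty_fintype G
  have : Finite (ConjClasses G) := Finite.of_surjective ConjClasses.mk Quotient.mk_surjective
  have := Fintype.ofFinite (ConjClasses G)
  have hmap : ∀ {a b : G}, IsConj a b → IsConj (s a) (s b) := by
    intro a b hab
    refine isConj_of_forall_eq fun χ hχ => ?_
    exact IsClassFunction.eq_of_isConj (IsIrrCharacter.isClassFunction (hs χ hχ)) hab
  have hcls : ∀ g : G, IsConj (s g) g ↔
      ∀ x : G, ConjClasses.mk x = ConjClasses.mk g → IsConj (s x) x := by
    refine fun g => ⟨fun hg x hx => ?_, fun h => h g rfl⟩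
    have hxg : IsConj x g := ConjClasses.mk_eq_mk_iff_isConj.mp hx
    exact (hmap hxg).trans (hg.trans hxg.symm)
  have hG : (Nat.card G : ℂ) ≠ 0 := Nat.cast_ne_zero.mpr Nat.card_pos.ne'
  have h1 : ∑ χ : Cfsg.IrrCharacter G, ∑ g : G, (χ : G → ℂ) (s g) * conj ((χ : G → ℂ) g) =
      (Nat.card G : ℂ) *
        Nat.card {χ : Cfsg.IrrCharacter G // (χ : G → ℂ) ∘ s = (χ : G → ℂ)} := by
    have hi : ∀ χ : Cfsg.IrrCharacter G, ∑ g : G, (χ : G → ℂ) (s g) * conj ((χ : G → ℂ) g) =
        (Nat.card G : ℂ) * if (χ : G → ℂ) ∘ s = (χ : G → ℂ) then 1 else 0 := by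
      intro χ
      rw [← classInner_irr (hs χ χ.2) χ.2, Cfsg.classInner, ← mul_assoc, mul_inv_cancel₀ hG,
        one_mul]
      rfl
    simp only [hi, ← Finset.mul_sum, Finset.sum_boole, Nat.card_eq_fintype_card,
      Fintype.card_subtype]
  have h2 : ∑ g : G, ∑ χ : Cfsg.IrrCharacter G, (χ : G → ℂ) (s g) * conj ((χ : G → ℂ) g) =
      (Nat.card G : ℂ) *
        Nat.card {C : ConjClasses G // ∀ g : G, ConjClasses.mk g = C → IsConj (s g) g} := by
    have hi : ∀ g : G, ∑ χ : Cfsg.IrrCharacter G, (χ : G → ℂ) (s g) * conj ((χ : G → ℂ) g) =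
        (Nat.card (Subgroup.centralizer ({g} : Set G)) : ℂ) *
          if (∀ x : G, ConjClasses.mk x = ConjClasses.mk g → IsConj (s x) x) then 1 else 0 := by
      intro g
      by_cases hg : IsConj (s g) g
      · rw [if_pos ((hcls g).mp hg), mul_one]
        have hgg := sum_mul_conj g g
        rw [if_pos (IsConj.refl g)] at hgg
        rw [← hgg]
        exact Finset.sum_congr rfl fun χ _ => by
          rw [IsClassFunction.eq_of_isConj (IsIrrCharacter.isClassFunction χ.2) hg]
      · rw [sum_mul_conj, if_neg hg, if_neg (fun e => hg ((hcls g).mpr e)), mul_zero]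
    simp only [hi]
    rw [sum_centralizer_mul (fun C =>
      if (∀ x : G, ConjClasses.mk x = C → IsConj (s x) x) then (1 : ℂ) else 0)]
    simp only [Finset.sum_boole, Nat.card_eq_fintype_card, Fintype.card_subtype]
  rw [Finset.sum_comm] at h1
  rw [h2] at h1
  exact_mod_cast (mul_left_cancel₀ hG h1).symm

/-- There are as many real irreducible characters as real classes. -/
theorem card_real_irr_eq_card_real_classes :
    Nat.card {χ : Cfsg.IrrCharacter G // ∀ g : G, ((χ : G → ℂ) g).im = 0} =
      Nat.card {C : ConjClasses G // ∀ g : G, ConjClasses.mk g = C → IsConj g g⁻¹} := by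
  have h := card_fixed_irr_eq_card_fixed_classes (G := G) (fun g => g⁻¹) fun χ hχ => by
    have he : χ ∘ (fun g => g⁻¹) = fun g => conj (χ g) :=
      funext fun g => IsIrrCharacter.apply_inv hχ g
    rw [he]
    exact IsIrrCharacter.conj_apply' hχ
  refine (Nat.card_congr (Equiv.subtypeEquivRight fun χ => ?_)).trans
    (h.trans (Nat.card_congr (Equiv.subtypeEquivRight fun C => ?_)))
  · rw [funext_iff]
    refine forall_congr' fun g => ?_
    simp only [Function.comp_apply, IsIrrCharacter.apply_inv χ.2]
    exact Complex.conj_eq_iff_im.symm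
  · exact forall_congr' fun g => imp_congr_right fun _ => isConj_comm

end CfsgLib.Char
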