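import Cfsg.Agent.Lib.Char.PowerMap
import Cfsg.Agent.Lib.Char.Orth
import Mathlib.FieldTheory.IsAlgClosed.Classification
import Mathlib.Algebra.MvPolynomial.Equiv
import Mathlib.FieldTheory.IntermediateField.Adjoin.Basic
import Mathlib.RingTheory.AlgebraicIndependent.TranscendenceBasis

/-!
The Galois action on characters: `χ ∘ (· ^ k)` for `k` prime to the group order.
-/

set_option autoImplicit false

open Polynomial
open scoped ComplexConjugate IntermediateField

namespace CfsgLib.CharGalois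

/-- An automorphism of a subfield extends to `ℂ`. -/
theorem exists_ringEquiv_extends {K : IntermediateField ℚ ℂ} (σ : K ≃+* K) :
    ∃ τ : ℂ ≃+* ℂ, ∀ x : K, τ (x : ℂ) = (σ x : ℂ) := by
  obtain ⟨s, hs⟩ := exists_isTranscendenceBasis K ℂ
  have halg : IsAlgClosure (Algebra.adjoin K (Set.range ((↑) : s → ℂ))) ℂ :=
    IsAlgClosed.isAlgClosure_of_transcendence_basis _ hs
  let e : Algebra.adjoin K (Set.range ((↑) : s → ℂ)) ≃+*
      Algebra.adjoin K (Set.range ((↑) : s → ℂ)) :=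
    (hs.1.aevalEquiv.symm.toRingEquiv.trans (MvPolynomial.mapEquiv s σ)).trans
      hs.1.aevalEquiv.toRingEquiv
  refine ⟨IsAlgClosure.equivOfEquiv ℂ ℂ e, fun x => ?_⟩
  have h := IsAlgClosure.equivOfEquiv_algebraMap ℂ ℂ e
    (algebraMap K (Algebra.adjoin K (Set.range ((↑) : s → ℂ))) x)
  rw [← IsScalarTower.algebraMap_apply] at h
  have he : e (algebraMap K _ x) = algebraMap K _ (σ x) := by
    simp [e, ← MvPolynomial.algebraMap_eq]
    exact hs.1.aevalEquiv.commutes (σ x)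
  rw [he, ← IsScalarTower.algebraMap_apply] at h
  exact h

/-- An automorphism of `ℂ` raising the `n`-th roots of unity to the `k`-th power. -/
theorem exists_ringEquiv_pow {n : ℕ} (hn : 0 < n) {k : ℕ} (hk : k.Coprime n) :
    ∃ τ : ℂ ≃+* ℂ, ∀ z : ℂ, z ^ n = 1 → τ z = z ^ k := by
  have : NeZero n := ⟨hn.ne'⟩
  let ζ := Complex.exp (2 * Real.pi * Complex.I / n)
  have hζ : IsPrimitiveRoot ζ n := Complex.isPrimitiveRoot_exp n hn.ne'
  have hint : IsIntegral ℚ ζ := hζ.isIntegral hn |>.tower_top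
  let pb := IntermediateField.adjoin.powerBasis hint
  set g : ℚ⟮ζ⟯ := IntermediateField.AdjoinSimple.gen ℚ ζ with hg
  have hgen : pb.gen = g := IntermediateField.adjoin.powerBasis_gen hint
  have hroot : aeval (g ^ k) (minpoly ℚ pb.gen) = 0 := by
    apply (algebraMap ℚ⟮ζ⟯ ℂ).injective
    rw [← aeval_algebraMap_apply, map_pow, map_zero, hgen, hg,
      ← minpoly.algebraMap_eq (B := ℚ⟮ζ⟯) (B' := ℂ) (algebraMap ℚ⟮ζ⟯ ℂ).injective,
      IntermediateField.AdjoinSimple.algebraMap_gen,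
      ← cyclotomic_eq_minpoly_rat hζ hn, cyclotomic_eq_minpoly_rat (hζ.pow_of_coprime k hk) hn]
    exact minpoly.aeval _ _
  let f : ℚ⟮ζ⟯ →ₐ[ℚ] ℚ⟮ζ⟯ := pb.lift (g ^ k) hroot
  have : FiniteDimensional ℚ ℚ⟮ζ⟯ := IntermediateField.adjoin.finiteDimensional hint
  have hf : Function.Bijective f :=
    ⟨f.injective, LinearMap.surjective_of_injective (f := f.toLinearMap) f.injective⟩
  obtain ⟨τ, hτ⟩ := exists_ringEquiv_extends (RingEquiv.ofBijective f hf)
  refine ⟨τ, fun z hz => ?_⟩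
  obtain ⟨i, -, rfl⟩ := hζ.eq_pow_of_pow_eq_one hz
  have h1 : τ ζ = ζ ^ k := by
    have h := hτ g
    rw [RingEquiv.coe_ofBijective] at h
    rw [show f g = g ^ k by rw [← hgen]; exact PowerBasis.lift_gen pb _ hroot] at h
    simpa [hg] using h
  rw [map_pow, h1, ← pow_mul, ← pow_mul, mul_comm]

variable {G : Type*} [Group G] [Finite G]

/-- Apply a ring automorphism to a character: again a character. -/
theorem isCharacter_map (τ : ℂ ≃+* ℂ) {χ : G → ℂ} (hχ : Cfsg.IsCharacter G χ) :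
    Cfsg.IsCharacter G (fun g => τ (χ g)) := by
  obtain ⟨n, ρ, rfl⟩ := hχ
  let m : G →* Matrix (Fin n) (Fin n) ℂ :=
    (τ.toRingHom.mapMatrix (m := Fin n)).toMonoidHom.comp
      ((LinearMap.toMatrixAlgEquiv' (R := ℂ) (n := Fin n)).toMonoidHom.comp ρ)
  let ρ' : Representation ℂ G (Fin n → ℂ) :=
    (Matrix.toLinAlgEquiv' (R := ℂ) (n := Fin n)).toMonoidHom.comp m
  refine ⟨n, ρ', funext fun g => ?_⟩
  simp only [Representation.character, LinearMap.trace_eq_matrix_trace ℂ (Pi.basisFun ℂ (Fin n))]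
  rw [Matrix.trace, Matrix.trace, map_sum]
  simp [ρ', m, Matrix.toLinAlgEquiv'_apply, LinearMap.toMatrixAlgEquiv'_apply,
    LinearMap.toMatrix_apply]

/-- `χ ∘ (· ^ k)` is a character for `k` prime to the group order. -/
theorem isCharacter_powMap {k : ℕ} (hk : k.Coprime (Nat.card G)) {χ : G → ℂ}
    (hχ : Cfsg.IsCharacter G χ) : Cfsg.IsCharacter G (fun g => χ (g ^ k)) := by
  obtain ⟨τ, hτ⟩ := exists_ringEquiv_pow Nat.card_pos hk
  have h : (fun g => χ (g ^ k)) = fun g => τ (χ g) := by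
    funext g
    obtain ⟨n, ρ, rfl⟩ := hχ
    obtain ⟨μ, hμ, -, -, hpow⟩ := CfsgLib.Char.exists_eigenvalues ρ g
    have h1 := hpow 1
    simp only [pow_one] at h1
    rw [hpow k, h1, map_sum]
    refine Finset.sum_congr rfl fun i _ => (hτ _ ?_).symm
    obtain ⟨c, hc⟩ := orderOf_dvd_natCard g
    rw [hc, pow_mul, hμ, one_pow]
  rw [h]
  exact isCharacter_map τ hχ

theorem pow_bijective {k : ℕ} (hk : k.Coprime (Nat.card G)) :
    Function.Bijective fun g : G => g ^ k :=
  (powCoprime (G := G) hk.symm).bijective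

/-- `χ ∘ (· ^ k)` is irreducible for `k` prime to the group order. -/
theorem isIrrCharacter_powMap {k : ℕ} (hk : k.Coprime (Nat.card G)) {χ : G → ℂ}
    (hχ : Cfsg.IsIrrCharacter G χ) : Cfsg.IsIrrCharacter G (fun g => χ (g ^ k)) := by
  let _ := Fintype.ofFinite G
  refine CfsgLib.Char.IsCharacter.isIrrCharacter_of_classInner_self
    (isCharacter_powMap hk (CfsgLib.Char.IsIrrCharacter.isCharacter hχ)) ?_
  rw [← CfsgLib.Char.classInner_irr_self hχ, Cfsg.classInner, Cfsg.classInner]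
  congr 1
  exact Fintype.sum_equiv (powCoprime (G := G) hk.symm) _ _ fun g => rfl

/-- The Galois conjugate of an irreducible character. -/
def powIrr {k : ℕ} (hk : k.Coprime (Nat.card G)) (χ : Cfsg.IrrCharacter G) :
    Cfsg.IrrCharacter G :=
  ⟨fun g => (χ : G → ℂ) (g ^ k), isIrrCharacter_powMap hk χ.2⟩

theorem powIrr_apply {k : ℕ} (hk : k.Coprime (Nat.card G)) (χ : Cfsg.IrrCharacter G) (g : G) :
    (powIrr hk χ : G → ℂ) g = (χ : G → ℂ) (g ^ k) := rfl

theorem powIrr_bijective {k : ℕ} (hk : k.Coprime (Nat.card G)) :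
    Function.Bijective (powIrr (G := G) hk) :=
  Finite.injective_iff_bijective.1 fun a b h => Subtype.ext <| funext fun g => by
    obtain ⟨g', rfl⟩ := (pow_bijective hk).2 g
    exact congrFun (congrArg Subtype.val h) g'

end CfsgLib.CharGalois
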