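import Cfsg.Agent.Lib.Char.Conj
import Cfsg.Agent.Lib.Char.Linear

/-!
# Real characters of groups of odd order
-/

set_option autoImplicit false

namespace CfsgLib.Char

universe u

variable {G : Type u} [Group G] [Finite G]

/-- In a group of odd order only the identity is conjugate to its inverse. -/
theorem eq_one_of_isConj_inv_of_odd (hodd : Odd (Nat.card G)) {g : G} (h : IsConj g g⁻¹) :
    g = 1 := by
  obtain ⟨x, hx⟩ := isConj_iff.mp h
  have hx2 : Commute (x ^ 2) g := by
    have hy : x * g⁻¹ * x⁻¹ = g := by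
      have := congrArg (·⁻¹) hx
      simpa [mul_assoc] using this
    change x ^ 2 * g = g * x ^ 2
    calc x ^ 2 * g = x * (x * g * x⁻¹) * x := by simp [sq, mul_assoc]
      _ = x * g⁻¹ * x⁻¹ * x ^ 2 := by rw [hx]; simp [sq, mul_assoc]
      _ = g * x ^ 2 := by rw [hy]
  obtain ⟨k, hk⟩ := hodd.of_dvd_nat (orderOf_dvd_natCard x)
  have hxg : Commute x g := by
    have hp : (x ^ 2) ^ (k + 1) = x := by
      rw [← pow_mul, show 2 * (k + 1) = orderOf x + 1 by omega, pow_succ, pow_orderOf_eq_one,
        one_mul]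
    have := hx2.pow_left (k + 1)
    rwa [hp] at this
  have h2 : g = g⁻¹ := by
    rw [← hx, hxg.eq, mul_inv_cancel_right]
  have h3 : g ^ 2 = 1 := by
    rw [sq]
    nth_rewrite 2 [h2]
    exact mul_inv_cancel g
  obtain ⟨m, hm⟩ := hodd.of_dvd_nat (orderOf_dvd_natCard g)
  have h4 := pow_orderOf_eq_one g
  rw [hm, pow_succ, pow_mul, h3, one_pow, one_mul] at h4
  exact h4

/-- The only real irreducible character of a group of odd order is the principal one. -/
theorem eq_one_of_real_of_odd (hodd : Odd (Nat.card G)) (χ : Cfsg.IrrCharacter G)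
    (hreal : ∀ g : G, ((χ : G → ℂ) g).im = 0) : (χ : G → ℂ) = fun _ => 1 := by
  have h := card_real_irr_eq_card_real_classes (G := G)
  have : Subsingleton {C : ConjClasses G // ∀ g : G, ConjClasses.mk g = C → IsConj g g⁻¹} := by
    refine ⟨fun C D => Subtype.ext ?_⟩
    obtain ⟨a, ha⟩ := Quotient.mk_surjective C.1
    obtain ⟨b, hb⟩ := Quotient.mk_surjective D.1
    rw [← ha, ← hb, eq_one_of_isConj_inv_of_odd hodd (C.2 a ha),
      eq_one_of_isConj_inv_of_odd hodd (D.2 b hb)]
  have hs : Subsingleton {χ : Cfsg.IrrCharacter G // ∀ g : G, ((χ : G → ℂ) g).im = 0} := by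
    rw [← Finite.card_le_one_iff_subsingleton, h, Finite.card_le_one_iff_subsingleton]
    infer_instance
  have he := @Subsingleton.elim _ hs ⟨χ, hreal⟩
    ⟨(principalIrr : Cfsg.IrrCharacter G), fun g => by simp⟩
  exact congrArg (fun x => (x.1.1 : G → ℂ)) he

end CfsgLib.Char
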