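import Cfsg.Agent.Lib.Char.PowerMap
import Cfsg.Agent.Lib.Char.GaloisConj
import Cfsg.Agent.Lib.Char.Virtual
import Cfsg.Agent.Lib.Char.Exceptional
import Mathlib.NumberTheory.Padics.PadicVal.Basic
import Mathlib.RingTheory.Polynomial.Cyclotomic.Eval

/-!
# Schur's bound on the Sylow subgroup of a group with a faithful `p`-rational character
-/

set_option autoImplicit false

open Polynomial Module

namespace CfsgLib.Char

universe u

variable {G : Type u} [Group G] [Finite G] {p : ℕ}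

omit [Finite G] in
/-- The real part of a character value is at most the degree. -/
theorem exists_eigenvalues_char {χ : G → ℂ} (hχ : Cfsg.IsCharacter G χ) [Finite G] (g : G) :
    ∃ (m : ℕ) (μ : Fin m → ℂ), (∀ i, μ i ^ orderOf g = 1) ∧ (∀ i, ‖μ i‖ = 1) ∧
      χ 1 = (m : ℂ) ∧ ∀ k : ℕ, χ (g ^ k) = ∑ i, μ i ^ k := by
  obtain ⟨d, ρ, rfl⟩ := hχ
  obtain ⟨μ, h1, h2, -, h3⟩ := exists_eigenvalues ρ g
  refine ⟨_, μ, h1, h2, ?_, h3⟩
  have h := h3 0
  simpa using h

/-- The values at `p`-elements of a `p`-rational character. -/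
theorem schur_value [Fact p.Prime] {χ : G → ℂ} (hχ : Cfsg.IsCharacter G χ)
    {r : ℕ} (hr : 0 < r) (hpr : ¬ p ∣ r)
    (hval : ∀ g : G, χ g ∈ IntermediateField.adjoin ℚ
      ({Complex.exp (2 * Real.pi * Complex.I / r)} : Set ℂ))
    {n : ℕ} (hn : χ 1 = (n : ℂ)) {g : G} {k : ℕ} (hg : orderOf g = p ^ (k + 1))
    (hne : χ g ≠ χ 1) :
    ∃ j ∈ Finset.Icc 1 (n / (p - 1)), χ g = (n : ℂ) - (j : ℂ) * (p : ℂ) := by
  classical
  have hp : p.Prime := Fact.out
  obtain ⟨m, μ, hμ, hμn, hm, hpow⟩ := exists_eigenvalues_char hχ g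
  obtain rfl : m = n := by rw [hn] at hm; exact_mod_cast hm.symm
  have hpk : 0 < p ^ (k + 1) := pow_pos hp.pos _
  have hgp : g ^ p ^ (k + 1) = 1 := hg ▸ pow_orderOf_eq_one g
  rw [hg] at hμ
  -- rationality
  have hfix : ∀ c : ℕ, c.Coprime (p ^ (k + 1)) → χ (g ^ c) = χ g := by
    intro c hc
    have hcop : (p ^ (k + 1)).Coprime r := Nat.Coprime.pow_left _ (hp.coprime_iff_not_dvd.2 hpr)
    obtain ⟨c', hc1, hc2⟩ := Nat.chineseRemainder hcop c 1
    have hc' : c'.Coprime (p ^ (k + 1) * r) :=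
      Nat.Coprime.mul_right (by rw [Nat.Coprime, hc1.gcd_eq]; exact hc)
        (by rw [Nat.Coprime, hc2.gcd_eq]; exact Nat.gcd_one_left r)
    obtain ⟨τ, hτ⟩ := CfsgLib.CharGalois.exists_ringEquiv_pow (mul_pos hpk hr) hc'
    have hζ : τ (Complex.exp (2 * Real.pi * Complex.I / r)) =
        Complex.exp (2 * Real.pi * Complex.I / r) := by
      have hz := (Complex.isPrimitiveRoot_exp r hr.ne').pow_eq_one
      rw [hτ _ (by rw [pow_mul', hz, one_pow]),
        pow_eq_pow_of_modEq hc2 hz, pow_one]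
    have hfx : τ (χ g) = χ g := by
      refine IntermediateField.adjoin_induction ℚ (p := fun x _ => τ x = x) ?_ ?_ ?_ ?_ ?_ (hval g)
      · intro x hx
        rw [Set.mem_singleton_iff.1 hx, hζ]
      · intro x
        exact map_ratCast τ x
      · intro x y _ _ hx hy
        rw [map_add, hx, hy]
      · intro x _ hx
        rw [map_inv₀, hx]
      · intro x y _ _ hx hy
        rw [map_mul, hx, hy]
    have hgc : g ^ c = g ^ c' := pow_eq_pow_iff_modEq.2 (hg ▸ hc1.symm)
    have h1 := hpow 1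
    simp only [pow_one] at h1
    rw [hgc, hpow, ← hfx, h1, map_sum]
    exact Finset.sum_congr rfl fun i _ => (hτ _ (by rw [pow_mul, hμ, one_pow])).symm
  obtain ⟨q, hq⟩ := (CfsgLib.CharPower.exists_rat_iff hχ g hpk hgp).2 hfix
  -- integrality
  have hint : IsIntegral ℤ (q : ℂ) := by
    rw [← hq, ← pow_one g, hpow]
    exact IsIntegral.sum _ fun i _ => (IsIntegral.of_pow hpk (by
      rw [hμ]; exact isIntegral_one)).pow 1
  obtain ⟨z, hz⟩ := IsIntegrallyClosed.isIntegral_iff.1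
    ((isIntegral_algebraMap_iff (algebraMap ℚ ℂ).injective).1
      (show IsIntegral ℤ (algebraMap ℚ ℂ q) by simpa using hint))
  have hχz : χ g = (z : ℂ) := by rw [hq, ← hz]; simp
  -- the congruence
  let ζ := Complex.exp (2 * Real.pi * Complex.I / (p ^ (k + 1) : ℕ))
  have hζ : IsPrimitiveRoot ζ (p ^ (k + 1)) := Complex.isPrimitiveRoot_exp _ hpk.ne'
  obtain ⟨F, hF⟩ := CfsgLib.CharPower.exists_poly_of_isCharacter hχ g hpk hgp hζ
  have hdvd : cyclotomic (p ^ (k + 1)) ℤ ∣ F - C z := by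
    rw [cyclotomic_eq_minpoly hζ hpk]
    refine minpoly.isIntegrallyClosed_dvd (hζ.isIntegral hpk) ?_
    have h1 := hF 1
    rw [pow_one, pow_one, hχz] at h1
    rw [map_sub, aeval_C, ← h1]
    simp
  have hF1 : (F.eval 1 : ℤ) = (m : ℤ) := by
    have h0 := hF 0
    rw [pow_zero, pow_zero, hn, show (1 : ℂ) = algebraMap ℤ ℂ 1 by simp,
      aeval_algebraMap_apply_eq_algebraMap_eval] at h0
    exact_mod_cast (show ((F.eval 1 : ℤ) : ℂ) = ((m : ℤ) : ℂ) by simpa using h0.symm)
  obtain ⟨w, hw⟩ := Polynomial.eval_dvd (x := 1) hdvd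
  rw [eval_sub, eval_C, hF1, eval_one_cyclotomic_prime_pow] at hw
  -- the upper bound
  have hre : ∀ c : ℕ, (χ (g ^ c)).re ≤ (m : ℝ) := fun c => by
    rw [hpow, Complex.re_sum]
    refine (Finset.sum_le_card_nsmul _ _ 1 fun i _ => ?_).trans (by simp)
    exact (Complex.re_le_norm _).trans (by rw [norm_pow, hμn, one_pow])
  have hzm : z ≤ m := by
    have h := hre 1
    rw [pow_one, hχz] at h
    simp only [Complex.intCast_re] at h
    exact_mod_cast h
  have hzlt : z < m := lt_of_le_of_ne hzm fun h => hne (by rw [hχz, hn, h]; simp)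
  -- the lower bound
  have hlow : (0 : ℝ) ≤ ((p - 1) * p ^ k : ℕ) * (z : ℝ) + (p ^ k : ℕ) * (m : ℝ) := by
    have hS : 0 ≤ (∑ i ∈ Finset.range (p ^ (k + 1)), χ (g ^ i)).re := by
      simp only [hpow]
      rw [Finset.sum_comm, Complex.re_sum]
      refine Finset.sum_nonneg fun i _ => ?_
      by_cases h1 : μ i = 1
      · rw [h1]
        simp only [one_pow, Finset.sum_const, Finset.card_range, nsmul_one, Complex.natCast_re]
        positivity
      · rw [geom_sum_eq h1, hμ]; simp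
    rw [← Finset.sum_filter_add_sum_filter_not _ (fun i => i.Coprime (p ^ (k + 1))),
      Complex.add_re, Complex.re_sum, Complex.re_sum] at hS
    refine hS.trans (add_le_add (le_of_eq ?_) ?_)
    · rw [Finset.sum_congr rfl fun i hi => by
        rw [hfix i (Finset.mem_filter.1 hi).2, hχz, Complex.intCast_re],
        Finset.sum_const, nsmul_eq_mul]
      congr 2
      rw [mul_comm, ← Nat.totient_prime_pow_succ hp, Nat.totient_eq_card_coprime]
      congr 1
      ext i
      simp [Nat.coprime_comm]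
    · refine (Finset.sum_le_card_nsmul _ _ (m : ℝ) fun i _ => hre i).trans (le_of_eq ?_)
      rw [nsmul_eq_mul]
      congr 2
      have h := Finset.card_filter_add_card_filter_not
        (s := Finset.range (p ^ (k + 1))) (fun i => i.Coprime (p ^ (k + 1)))
      have h2 : ((Finset.range (p ^ (k + 1))).filter fun i => i.Coprime (p ^ (k + 1))).card =
          p ^ k * (p - 1) := by
        rw [← Nat.totient_prime_pow_succ hp, Nat.totient_eq_card_coprime]
        congr 1
        ext i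
        simp [Nat.coprime_comm]
      rw [h2, Finset.card_range] at h
      have h3 : p ^ k * p = p ^ k * (p - 1) + p ^ k := by
        rw [← Nat.mul_succ, Nat.succ_eq_add_one, Nat.sub_add_cancel hp.one_le]
      exact Nat.add_left_cancel ((h.trans (pow_succ p k)).trans h3)
  have hlow' : (0 : ℤ) ≤ ((p : ℤ) - 1) * z + m := by
    have h1 : (0 : ℤ) ≤ ((p - 1) * p ^ k : ℕ) * z + (p ^ k : ℕ) * (m : ℤ) := by
      exact_mod_cast hlow
    push_cast [Nat.cast_sub hp.one_le] at h1
    refine nonneg_of_mul_nonneg_right (a := (p : ℤ) ^ k) ?_ (pow_pos (by exact_mod_cast hp.pos) _)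
    linarith [h1]
  have hp1 : (1 : ℤ) ≤ (p : ℤ) := by exact_mod_cast hp.one_le
  have hw1 : 1 ≤ w := by
    by_contra hcon
    nlinarith
  obtain ⟨j, rfl⟩ : ∃ j : ℕ, w = (j : ℤ) := ⟨w.toNat, (Int.toNat_of_nonneg (by linarith)).symm⟩
  refine ⟨j, Finset.mem_Icc.2 ⟨by exact_mod_cast hw1,
    (Nat.le_div_iff_mul_le (Nat.sub_pos_of_lt hp.one_lt)).2 ?_⟩, ?_⟩
  · zify [hp.one_le]
    by_contra hcon
    nlinarith
  · rw [hχz, show z = (m : ℤ) - (j : ℤ) * (p : ℤ) by linarith]
    push_cast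
    ring

/-- **Schur's bound.** -/
theorem schur_bound [Fact p.Prime] {χ : G → ℂ} (hχ : Cfsg.IsCharacter G χ)
    (hfaith : ∀ g : G, χ g = χ 1 → g = 1) {r : ℕ} (hr : 0 < r) (hpr : ¬ p ∣ r)
    (hval : ∀ g : G, χ g ∈ IntermediateField.adjoin ℚ
      ({Complex.exp (2 * Real.pi * Complex.I / r)} : Set ℂ))
    {n : ℕ} (hn : χ 1 = (n : ℂ)) :
    (Nat.card G).factorization p ≤ ∑ i ∈ Finset.range (n + 1), n / ((p - 1) * p ^ i) := by
  classical
  have hp : p.Prime := Fact.out
  set J := n / (p - 1) with hJ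
  let P : Sylow p G := default
  haveI := Fintype.ofFinite (P : Subgroup G)
  let f : ↥(P : Subgroup G) → ℂ :=
    ∏ j ∈ Finset.Icc 1 J, fun x => χ (x : G) - ((((n : ℤ) - (j : ℤ) * (p : ℤ) : ℤ)) : ℂ)
  have hfgen : Cfsg.IsGeneralizedCharacter ↥(P : Subgroup G) f :=
    Finset.prod_induction _ (Cfsg.IsGeneralizedCharacter (P : Subgroup G))
      (fun a b ha hb => IsGeneralizedCharacter.mul ha hb) IsGeneralizedCharacter.one
      fun j _ => IsGeneralizedCharacter.sub
        (IsCharacter.isGeneralizedCharacter (IsCharacter.restrict hχ _))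
        (IsGeneralizedCharacter.intCast _)
  obtain ⟨z, hz⟩ := CfsgLib.CharExc.exists_int_classInner hfgen
    (isIrrCharacter_monoidHom (1 : (P : Subgroup G) →* ℂˣ))
  have hf1 : f 1 = ((p ^ J * J.factorial : ℕ) : ℂ) := by
    simp only [f, Finset.prod_apply, OneMemClass.coe_one, hn]
    rw [Finset.prod_congr rfl (g := fun j : ℕ => (p : ℂ) * (j : ℂ)) fun j _ => by push_cast; ring,
      Finset.prod_mul_distrib, Finset.prod_const, Nat.card_Icc, Nat.add_sub_cancel,
      ← Nat.cast_prod, ← Finset.Ico_add_one_right_eq_Icc, Finset.prod_Ico_id_eq_factorial]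
    push_cast
    ring
  rw [Cfsg.classInner, Finset.sum_eq_single 1] at hz
  · have hzi : ((p ^ J * J.factorial : ℕ) : ℤ) = (Nat.card (P : Subgroup G) : ℤ) * z := by
      have h : ((p ^ J * J.factorial : ℕ) : ℂ) = (Nat.card (P : Subgroup G) : ℂ) * (z : ℂ) := by
        rw [← hz, ← hf1, ← mul_assoc, mul_inv_cancel₀ (Nat.cast_ne_zero.2 Nat.card_pos.ne')]
        simp
      exact_mod_cast h
    have hdvd : Nat.card (P : Subgroup G) ∣ p ^ J * J.factorial :=
      Int.natCast_dvd_natCast.1 ⟨z, hzi⟩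
    rw [P.card_eq_multiplicity, hp.pow_dvd_iff_le_factorization
      (mul_ne_zero (pow_ne_zero _ hp.ne_zero) J.factorial_ne_zero),
      Nat.factorization_mul (pow_ne_zero _ hp.ne_zero) J.factorial_ne_zero, Finsupp.add_apply,
      hp.factorization_pow, Finsupp.single_eq_same] at hdvd
    refine hdvd.trans (le_of_eq ?_)
    have hb : Nat.log p J < n + 1 :=
      Nat.lt_succ_of_le ((Nat.log_le_self _ _).trans (Nat.div_le_self _ _))
    rw [Nat.factorization_def _ hp, padicValNat_factorial hb,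
      Finset.range_eq_Ico, Finset.sum_eq_sum_Ico_succ_bot (Nat.succ_pos n)]
    simp [hJ, Nat.div_div_eq_div_mul]
  · intro x _ hx
    obtain ⟨k, hk⟩ := IsPGroup.iff_orderOf.1 P.2 x
    have hx1 : (x : G) ≠ 1 := fun h => hx (Subtype.ext h)
    obtain ⟨k, rfl⟩ : ∃ i, k = i + 1 := ⟨k - 1, by
      have : k ≠ 0 := fun h => hx (orderOf_eq_one_iff.1 (by rw [hk, h, pow_zero]))
      omega⟩
    obtain ⟨j, hj, hjx⟩ := schur_value hχ hr hpr hval hn (g := (x : G))
      (by rw [Subgroup.orderOf_coe, hk]) fun h => hx1 (hfaith _ h)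
    have hf0 : f x = 0 := by
      simp only [f, Finset.prod_apply]
      exact Finset.prod_eq_zero hj (by rw [hjx]; push_cast; ring)
    rw [hf0, zero_mul]
  · simp

end CfsgLib.Char
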