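import Cfsg.Agent.Lib.Char.Induced

/-!
# Induction from the normalizer of a trivial-intersection set
-/

set_option autoImplicit false

open scoped ComplexConjugate

namespace CfsgLib.Char

universe u

variable {G : Type u} [Group G] [Fintype G]

/-- On a trivial-intersection set, inducing from its normalizer does not change the value. -/
theorem indFun_ti_apply (T : Set G)
    (hTI : ∀ g : G, g ∉ Subgroup.normalizer T → ∀ t ∈ T, g * t * g⁻¹ ∈ T → t = 1)
    (ψ : Subgroup.normalizer T → ℂ) (hψ : Cfsg.IsClassFunction (Subgroup.normalizer T) ψ)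
    (hψT : ∀ x : Subgroup.normalizer T, (x : G) ∉ T → ψ x = 0) (t : Subgroup.normalizer T)
    (htT : (t : G) ∈ T) (ht1 : t ≠ 1) :
    Cfsg.indFun (Subgroup.normalizer T) ψ t = ψ t := by
  classical
  rw [indFun_apply, ← Finset.sum_subset (s₁ := Finset.univ.filter (· ∈ (Subgroup.normalizer T))) (Finset.subset_univ _)
    ?_]
  · rw [Finset.sum_congr rfl (g := fun _ => ψ t) ?_, Finset.sum_const, nsmul_eq_mul]
    · rw [← Fintype.card_subtype, ← Nat.card_eq_fintype_card, ← mul_assoc, inv_mul_cancel₀, one_mul]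
      exact Nat.cast_ne_zero.mpr (Nat.card_pos (α := Subgroup.normalizer T)).ne'
    · intro x hx
      have hxN : x ∈ (Subgroup.normalizer T) := (Finset.mem_filter.mp hx).2
      have h := extendByZero_conj (Subgroup.normalizer T) ψ hψ (⟨x, hxN⟩⁻¹) (t : G)
      simp only [Subgroup.coe_inv, inv_inv] at h
      rw [h, extendByZero_coe]
  · intro x _ hx
    have hxN : x⁻¹ ∉ (Subgroup.normalizer T) := fun h => hx (Finset.mem_filter.mpr
      ⟨Finset.mem_univ _, by simpa using (Subgroup.normalizer T).inv_mem h⟩)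
    by_cases hm : x⁻¹ * (t : G) * x ∈ (Subgroup.normalizer T)
    · rw [extendByZero_apply_mem (Subgroup.normalizer T) ψ hm]
      refine hψT _ fun hc => ht1 ?_
      exact Subtype.ext (hTI x⁻¹ hxN (t : G) htT (by simpa using hc))
    · exact extendByZero_of_notMem (Subgroup.normalizer T) ψ hm

/-- Induction from the normalizer of a trivial-intersection set is an isometry on class functions
supported on the set and vanishing at the identity. -/
theorem classInner_indFun_ti (T : Set G)
    (hTI : ∀ g : G, g ∉ Subgroup.normalizer T → ∀ t ∈ T, g * t * g⁻¹ ∈ T → t = 1)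
    [Fintype (Subgroup.normalizer T)] (ψ θ : Subgroup.normalizer T → ℂ)
    (hθ : Cfsg.IsClassFunction (Subgroup.normalizer T) θ)
    (hψT : ∀ x : Subgroup.normalizer T, (x : G) ∉ T → ψ x = 0)
    (hθT : ∀ x : Subgroup.normalizer T, (x : G) ∉ T → θ x = 0) (hψ1 : ψ 1 = 0) :
    Cfsg.classInner (Cfsg.indFun (Subgroup.normalizer T) ψ)
      (Cfsg.indFun (Subgroup.normalizer T) θ) = Cfsg.classInner ψ θ := by
  rw [classInner_indFun _ ψ _ (isClassFunction_indFun _ θ)]
  unfold Cfsg.classInner
  congr 1
  refine Finset.sum_congr rfl fun n _ => ?_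
  by_cases hn : (n : G) ∈ T
  · rcases eq_or_ne n 1 with rfl | h1
    · simp [hψ1]
    · simp only [indFun_ti_apply T hTI θ hθ hθT n hn h1]
  · simp [hψT n hn]

end CfsgLib.Char
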