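import Cfsg.Agent.Lib.Char.InertiaNorm
import Cfsg.Agent.Lib.Char.Virtual

/-!
# Clifford theory for a normal subgroup, on the level of characters

Restriction of an irreducible character to a normal subgroup, and the Clifford correspondence.
Restrictions are written `fun n : N => χ n`.
-/

set_option autoImplicit false

open scoped ComplexConjugate

namespace CfsgLib.Clifford

open CharTwist

universe u

variable {G : Type u} [Group G]

/-- The inner product is invariant under group isomorphisms. -/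
theorem classInner_comp_equiv {K : Type*} {L : Type*} [Group K] [Group L] [Fintype K] [Fintype L]
    (e : K ≃* L) (φ ψ : L → ℂ) :
    Cfsg.classInner (φ ∘ e) (ψ ∘ e) = Cfsg.classInner φ ψ := by
  simp only [Cfsg.classInner, Function.comp]
  rw [Nat.card_congr e.toEquiv]
  congr 1
  exact Fintype.sum_equiv e.toEquiv _ _ fun x => rfl

/-- Restriction of a character is a character. -/
theorem isCharacter_res {χ : G → ℂ} (hχ : Cfsg.IsCharacter G χ) (N : Subgroup G) :
    Cfsg.IsCharacter N (fun n : N => χ n) :=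
  isCharacter_comp hχ N.subtype

/-- A character of nonzero degree has an irreducible constituent. -/
theorem exists_constituent [Fintype G] {χ : G → ℂ} (hχ : Cfsg.IsCharacter G χ) (h1 : χ 1 ≠ 0) :
    ∃ ψ, Cfsg.IsIrrCharacter G ψ ∧ Cfsg.classInner χ ψ ≠ 0 := by
  by_contra h
  push Not at h
  refine h1 ?_
  rw [Char.eq_zero_of_forall_classInner_eq_zero (Char.IsCharacter.isClassFunction hχ) h,
    Pi.zero_apply]

section Normal

variable [Fintype G] (N : Subgroup G) [N.Normal] [Fintype N]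

omit [Fintype G] in
/-- Conjugate constituents occur with the same multiplicity. -/
theorem classInner_res_conjFun {χ : G → ℂ} (hχ : Cfsg.IsClassFunction G χ) (θ : N → ℂ) (g : G) :
    Cfsg.classInner (fun n : N => χ n) (conjFun N θ g) =
      Cfsg.classInner (fun n : N => χ n) θ := by
  rw [conjFun_eq_comp]
  rw [← classInner_comp_equiv (MulAut.conjNormal (H := N) g) (fun n : N => χ n) θ]
  congr 1
  funext n
  exact (hχ n g).symm

/-- The orbit of a function on `N` under conjugation. -/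
noncomputable def orbit (θ : N → ℂ) : Finset (N → ℂ) :=
  open Classical in Finset.univ.image fun g : G => conjFun N θ g

theorem mem_orbit {θ ψ : N → ℂ} : ψ ∈ orbit N θ ↔ ∃ g, conjFun N θ g = ψ := by
  classical
  simp [orbit]

theorem self_mem_orbit (θ : N → ℂ) : θ ∈ orbit N θ := (mem_orbit N).mpr ⟨1, conjFun_one N θ⟩

/-- The orbit has as many members as the index of the inertia group. -/
theorem card_orbit (θ : N → ℂ) : (orbit N θ).card = (inertia N θ).index := by
  classical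
  have hwd : ∀ a b : G, QuotientGroup.leftRel (inertia N θ) a b →
      conjFun N θ a⁻¹ = conjFun N θ b⁻¹ := by
    intro a b h
    rw [QuotientGroup.leftRel_apply, mem_inertia] at h
    conv_rhs => rw [← h]
    rw [← conjFun_mul, mul_assoc, mul_inv_cancel, mul_one]
  let f : G ⧸ inertia N θ → orbit N θ :=
    Quotient.lift (fun g => ⟨conjFun N θ g⁻¹, (mem_orbit N).mpr ⟨_, rfl⟩⟩)
      (fun a b h => Subtype.ext (hwd a b h))
  have hb : Function.Bijective f := by
    constructor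
    · rintro ⟨a⟩ ⟨b⟩ h
      have h' : conjFun N θ a⁻¹ = conjFun N θ b⁻¹ := congrArg Subtype.val h
      refine QuotientGroup.eq.mpr ?_
      rw [mem_inertia, conjFun_mul, h', ← conjFun_mul, inv_mul_cancel, conjFun_one]
    · rintro ⟨ψ, hψ⟩
      obtain ⟨g, rfl⟩ := (mem_orbit N).mp hψ
      exact ⟨QuotientGroup.mk g⁻¹, Subtype.ext (by simp [f])⟩
  rw [Subgroup.index, Nat.card_congr (Equiv.ofBijective f hb), Nat.card_eq_fintype_card,
    Fintype.card_coe]

/-- All constituents of the restriction of an irreducible character are conjugate. -/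
theorem exists_conjFun_eq {χ : G → ℂ} (hχ : Cfsg.IsIrrCharacter G χ) {θ ψ : N → ℂ}
    (hθ : Cfsg.IsIrrCharacter N θ) (hψ : Cfsg.IsIrrCharacter N ψ)
    (hθc : Cfsg.classInner (fun n : N => χ n) θ ≠ 0)
    (hψc : Cfsg.classInner (fun n : N => χ n) ψ ≠ 0) : ∃ g, conjFun N θ g = ψ := by
  classical
  by_contra hne
  push Not at hne
  have hInd : Cfsg.IsCharacter G (Cfsg.indFun N θ) :=
    Char.IsCharacter.indFun N (Char.IsIrrCharacter.isCharacter hθ)
  have hres : Cfsg.classInner (fun n : N => Cfsg.indFun N θ n) ψ = 0 := by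
    have e : (fun n : N => Cfsg.indFun N θ n) =
        ((Nat.card N : ℂ)⁻¹) • ∑ x : G, conjFun N θ x := by
      funext n
      rw [indFun_normal_apply, Pi.smul_apply, Finset.sum_apply, smul_eq_mul]
    rw [e, Char.classInner_smul_left, Char.classInner_sum_left, Finset.sum_eq_zero (fun x _ =>
      Char.classInner_irr_of_ne (isIrrCharacter_conjFun N hθ x) hψ (hne x)), mul_zero]
  obtain ⟨m, hm⟩ := Char.IsCharacter.exists_nat_combination hInd
  have hmχ : (m ⟨χ, hχ⟩ : ℂ) ≠ 0 := by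
    rw [← Char.classInner_sum_smul_irr (fun φ => (m φ : ℂ)) ⟨χ, hχ⟩, ← hm,
      Char.classInner_indFun N θ χ (Char.IsIrrCharacter.isClassFunction hχ),
      ← Char.classInner_conj_symm]
    exact fun h => hθc (by simpa using h)
  choose k hk using fun φ : Cfsg.IrrCharacter G =>
    Char.IsCharacter.exists_nat_classInner (isCharacter_res (Char.IsIrrCharacter.isCharacter φ.2) N) hψ
  have hsum : ∑ φ : Cfsg.IrrCharacter G, m φ * k φ = 0 := by
    have e : (fun n : N => Cfsg.indFun N θ n) =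
        ∑ φ : Cfsg.IrrCharacter G, (m φ : ℂ) • (fun n : N => (φ : G → ℂ) n) := by
      funext n
      rw [hm]
      simp [Finset.sum_apply]
    rw [e, Char.classInner_sum_left] at hres
    simp only [Char.classInner_smul_left, hk] at hres
    exact_mod_cast hres
  have h0 := (Finset.sum_eq_zero_iff.mp hsum) ⟨χ, hχ⟩ (Finset.mem_univ _)
  rcases mul_eq_zero.mp h0 with h | h
  · exact hmχ (by rw [h, Nat.cast_zero])
  · exact hψc (by rw [hk ⟨χ, hχ⟩, h, Nat.cast_zero])

/-- Clifford: the restriction is a multiple of the sum of an orbit. -/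
theorem res_eq {χ : G → ℂ} (hχ : Cfsg.IsIrrCharacter G χ) {θ : N → ℂ}
    (hθ : Cfsg.IsIrrCharacter N θ) (hθc : Cfsg.classInner (fun n : N => χ n) θ ≠ 0) :
    (fun n : N => χ n) =
      Cfsg.classInner (fun n : N => χ n) θ • ∑ ψ ∈ orbit N θ, ψ := by
  classical
  conv_lhs => rw [Char.IsCharacter.eq_sum_classInner
    (isCharacter_res (Char.IsIrrCharacter.isCharacter hχ) N)]
  rw [Finset.smul_sum]
  have hsub : ∀ ψ : Cfsg.IrrCharacter N, (ψ : N → ℂ) ∉ orbit N θ →
      Cfsg.classInner (fun n : N => χ n) ψ = 0 := by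
    intro ψ hψ
    by_contra h
    exact hψ ((mem_orbit N).mpr (exists_conjFun_eq N hχ hθ ψ.2 hθc h))
  symm
  refine Finset.sum_bij_ne_zero (fun ψ hψ _ => ⟨ψ, ?_⟩) (fun _ _ _ => Finset.mem_univ _) ?_ ?_ ?_
  · obtain ⟨g, rfl⟩ := (mem_orbit N).mp hψ
    exact isIrrCharacter_conjFun N hθ g
  · intro a _ _ b _ _ h
    exact congrArg Subtype.val h
  · intro ψ _ hne
    have hmem : (ψ : N → ℂ) ∈ orbit N θ := by
      by_contra h
      exact hne (by rw [hsub ψ h, zero_smul])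
    obtain ⟨g, hg⟩ := (mem_orbit N).mp hmem
    refine ⟨ψ, hmem, ?_, rfl⟩
    have e := classInner_res_conjFun N (Char.IsIrrCharacter.isClassFunction hχ) θ g
    rw [hg] at e
    rwa [e] at hne
  · intro ψ hψ _
    obtain ⟨g, rfl⟩ := (mem_orbit N).mp hψ
    rw [classInner_res_conjFun N (Char.IsIrrCharacter.isClassFunction hχ) θ g]

/-- Degree formula. -/
theorem apply_one_eq {χ : G → ℂ} (hχ : Cfsg.IsIrrCharacter G χ) {θ : N → ℂ}
    (hθ : Cfsg.IsIrrCharacter N θ) (hθc : Cfsg.classInner (fun n : N => χ n) θ ≠ 0) :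
    χ 1 = Cfsg.classInner (fun n : N => χ n) θ * ((inertia N θ).index : ℂ) * θ 1 := by
  classical
  have h := congrFun (res_eq N hχ hθ hθc) 1
  simp only [OneMemClass.coe_one, Pi.smul_apply, Finset.sum_apply, smul_eq_mul] at h
  rw [h, mul_assoc, Finset.sum_congr rfl (fun ψ hψ => ?_), Finset.sum_const, nsmul_eq_mul,
    card_orbit]
  obtain ⟨g, rfl⟩ := (mem_orbit N).mp hψ
  exact congrArg θ (Subtype.ext (by simp))

/-- A constituent exists. -/
theorem exists_constituent_res {χ : G → ℂ} (hχ : Cfsg.IsIrrCharacter G χ) :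
    ∃ θ, Cfsg.IsIrrCharacter N θ ∧ Cfsg.classInner (fun n : N => χ n) θ ≠ 0 :=
  exists_constituent (isCharacter_res (Char.IsIrrCharacter.isCharacter hχ) N)
    (Char.IsIrrCharacter.apply_one_ne_zero hχ)

end Normal

section Correspondence

variable [Fintype G] (N T : Subgroup G) [hN : N.Normal] [Fintype N] [Fintype T] (hNT : N ≤ T)

/-- Inside a group fixing `θ`, a character over `θ` restricts to a multiple of `θ`. -/
theorem res_eq_smul_of_fixed {θ : N → ℂ} (hθ : Cfsg.IsIrrCharacter N θ)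
    (hfix : ∀ t ∈ T, conjFun N θ t = θ) {ψ : T → ℂ} (hψ : Cfsg.IsIrrCharacter T ψ)
    (hc : Cfsg.classInner (fun n : N => ψ ⟨n, hNT n.2⟩) θ ≠ 0) :
    (fun n : N => ψ ⟨n, hNT n.2⟩) =
      Cfsg.classInner (fun n : N => ψ ⟨n, hNT n.2⟩) θ • θ := by
  classical
  let N' := N.subgroupOf T
  let e : N' ≃* N := Subgroup.subgroupOfEquivOfLe hNT
  have hres : (fun n : N' => ψ n) = (fun n : N => ψ ⟨n, hNT n.2⟩) ∘ e := by
    funext n
    exact congrArg ψ (Subtype.ext rfl)
  have hθ' : Cfsg.IsIrrCharacter N' (θ ∘ e) := isIrrCharacter_comp_equiv hθ e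
  have hc' : Cfsg.classInner (fun n : N' => ψ n) (θ ∘ e) ≠ 0 := by
    rw [hres, classInner_comp_equiv]; exact hc
  have horb : orbit N' (θ ∘ e) = {θ ∘ e} := by
    ext f
    rw [mem_orbit, Finset.mem_singleton]
    constructor
    · rintro ⟨t, rfl⟩
      funext n
      exact congrFun (hfix t t.2) (e n)
    · rintro rfl
      exact ⟨1, conjFun_one _ _⟩
  have h := res_eq N' hψ hθ' hc'
  rw [horb, Finset.sum_singleton, hres, classInner_comp_equiv] at h
  funext n
  have := congrFun h (e.symm n)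
  simpa using this

variable {θ : N → ℂ} (hθ : Cfsg.IsIrrCharacter N θ)
  (hT : ∀ g : G, g ∈ T ↔ conjFun N θ g = θ)

include hθ hT

/-- Key count: an irreducible constituent of the induced character is all of it. -/
theorem indFun_eq_of_constituent {ψ : T → ℂ} (hψ : Cfsg.IsIrrCharacter T ψ)
    (hc : Cfsg.classInner (fun n : N => ψ ⟨n, hNT n.2⟩) θ ≠ 0) {χ : G → ℂ}
    (hχ : Cfsg.IsIrrCharacter G χ) (hψχ : Cfsg.classInner (fun t : T => χ t) ψ ≠ 0) :
    Cfsg.indFun T ψ = χ ∧ Cfsg.classInner (fun n : N => ψ ⟨n, hNT n.2⟩) θ =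
        Cfsg.classInner (fun n : N => χ n) θ ∧
      ∀ ψ' : T → ℂ, Cfsg.IsIrrCharacter T ψ' →
        Cfsg.classInner (fun n : N => ψ' ⟨n, hNT n.2⟩) θ ≠ 0 →
        Cfsg.classInner (fun t : T => χ t) ψ' ≠ 0 → ψ' = ψ := by
  classical
  have hresT := isCharacter_res (Char.IsIrrCharacter.isCharacter hχ) T
  obtain ⟨a, ha⟩ := Char.IsCharacter.exists_nat_combination hresT
  choose b hb using fun φ : Cfsg.IrrCharacter T => Char.IsCharacter.exists_nat_classInner
    (isCharacter_comp (Char.IsIrrCharacter.isCharacter φ.2) (Subgroup.inclusion hNT)) hθ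
  have hb' : ∀ φ : Cfsg.IrrCharacter T,
      Cfsg.classInner (fun n : N => (φ : T → ℂ) ⟨n, hNT n.2⟩) θ = (b φ : ℂ) := fun φ => hb φ
  obtain ⟨E, hE⟩ := Char.IsCharacter.exists_nat_classInner
    (isCharacter_res (Char.IsIrrCharacter.isCharacter hχ) N) hθ
  have hEsum : E = ∑ φ, a φ * b φ := by
    have e : (fun n : N => χ n) = ∑ φ : Cfsg.IrrCharacter T,
        (a φ : ℂ) • (fun n : N => (φ : T → ℂ) ⟨n, hNT n.2⟩) := by
      funext n
      have := congrFun ha ⟨n, hNT n.2⟩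
      simpa [Finset.sum_apply] using this
    have h := hE
    rw [e, Char.classInner_sum_left] at h
    simp only [Char.classInner_smul_left, hb'] at h
    exact_mod_cast h.symm
  have haval : ∀ φ : Cfsg.IrrCharacter T,
      Cfsg.classInner (fun t : T => χ t) φ = (a φ : ℂ) := by
    intro φ
    rw [ha, Char.classInner_sum_smul_irr]
  have ha0 : a ⟨ψ, hψ⟩ ≠ 0 := fun h => hψχ (by
    rw [haval ⟨ψ, hψ⟩, h, Nat.cast_zero])
  have hb0 : b ⟨ψ, hψ⟩ ≠ 0 := fun h => hc (by rw [hb' ⟨ψ, hψ⟩, h, Nat.cast_zero])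
  have hle : a ⟨ψ, hψ⟩ * b ⟨ψ, hψ⟩ ≤ E := hEsum ▸ Finset.single_le_sum
    (f := fun φ => a φ * b φ) (fun _ _ => Nat.zero_le _) (Finset.mem_univ _)
  -- degrees
  have hEne : Cfsg.classInner (fun n : N => χ n) θ ≠ 0 := by
    rw [hE]
    refine Nat.cast_ne_zero.mpr fun h => ?_
    have := Nat.mul_pos (Nat.pos_of_ne_zero ha0) (Nat.pos_of_ne_zero hb0)
    omega
  have hinertia : inertia N θ = T := Subgroup.ext fun g => (hT g).symm
  obtain ⟨d, hd0, hd⟩ := Char.IsIrrCharacter.exists_degree hθ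
  have hχ1 : χ 1 = ((E * T.index * d : ℕ) : ℂ) := by
    rw [apply_one_eq N hχ hθ hEne, hinertia, hE, hd]; push_cast; rfl
  have hψ1 : ψ 1 = ((b ⟨ψ, hψ⟩ * d : ℕ) : ℂ) := by
    have h := congrFun (res_eq_smul_of_fixed N T hNT hθ (fun t ht => (hT t).mp ht) hψ hc) 1
    simp only [Pi.smul_apply, smul_eq_mul, hd] at h
    have hb'' := hb' ⟨ψ, hψ⟩
    simp only at hb''
    rw [hb''] at h
    rw [show ψ 1 = ψ ⟨((1 : N) : G), hNT (1 : N).2⟩ from congrArg ψ (Subtype.ext rfl), h]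
    push_cast
    rfl
  have hInd : Cfsg.IsCharacter G (Cfsg.indFun T ψ) :=
    Char.IsCharacter.indFun T (Char.IsIrrCharacter.isCharacter hψ)
  obtain ⟨m, hm⟩ := Char.IsCharacter.exists_nat_combination hInd
  have hmχ : (m ⟨χ, hχ⟩ : ℂ) = (a ⟨ψ, hψ⟩ : ℂ) := by
    rw [← Char.classInner_sum_smul_irr (fun φ => (m φ : ℂ)) ⟨χ, hχ⟩, ← hm,
      Char.classInner_indFun T ψ χ (Char.IsIrrCharacter.isClassFunction hχ),
      ← Char.classInner_conj_symm, haval ⟨ψ, hψ⟩, map_natCast]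
  have hmχ' : m ⟨χ, hχ⟩ = a ⟨ψ, hψ⟩ := by exact_mod_cast hmχ
  choose deg hdeg0 hdeg using fun φ : Cfsg.IrrCharacter G => Char.IsIrrCharacter.exists_degree φ.2
  have hdχ : deg ⟨χ, hχ⟩ = E * T.index * d := by
    have := (hdeg ⟨χ, hχ⟩).symm.trans hχ1
    exact_mod_cast this
  have htot : b ⟨ψ, hψ⟩ * d * T.index = ∑ φ, m φ * deg φ := by
    have h := congrFun hm 1
    rw [Char.indFun_apply_one, hψ1] at h
    simp only [Finset.sum_apply, Pi.smul_apply, smul_eq_mul, hdeg] at h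
    have h' : T.index * (b ⟨ψ, hψ⟩ * d) = ∑ φ, m φ * deg φ := by exact_mod_cast h
    rw [← h', mul_comm]
  rw [← Finset.add_sum_erase _ _ (Finset.mem_univ (⟨χ, hχ⟩ : Cfsg.IrrCharacter G)), hmχ', hdχ]
    at htot
  have hidx : 0 < T.index * d := Nat.mul_pos (Nat.pos_of_ne_zero Subgroup.index_ne_zero_of_finite) hd0
  have h1 : a ⟨ψ, hψ⟩ * E ≤ b ⟨ψ, hψ⟩ := by
    refine Nat.le_of_mul_le_mul_right (c := T.index * d) ?_ hidx
    calc a ⟨ψ, hψ⟩ * E * (T.index * d) = a ⟨ψ, hψ⟩ * (E * T.index * d) := by ring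
      _ ≤ b ⟨ψ, hψ⟩ * d * T.index := htot ▸ Nat.le_add_right _ _
      _ = b ⟨ψ, hψ⟩ * (T.index * d) := by ring
  have hapos := Nat.pos_of_ne_zero ha0
  have hEb : E = b ⟨ψ, hψ⟩ := by
    refine le_antisymm ((Nat.le_mul_of_pos_left E hapos).trans h1) ?_
    exact (Nat.le_mul_of_pos_left _ hapos).trans hle
  have ha1 : a ⟨ψ, hψ⟩ = 1 := by
    have h2 : a ⟨ψ, hψ⟩ * E ≤ 1 * E := by rw [one_mul]; exact hEb ▸ h1
    have := Nat.le_of_mul_le_mul_right h2 (hEb ▸ Nat.pos_of_ne_zero hb0)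
    omega
  have hrest : ∑ φ ∈ Finset.univ.erase (⟨χ, hχ⟩ : Cfsg.IrrCharacter G), m φ * deg φ = 0 := by
    rw [ha1, hEb] at htot
    have hring : 1 * (b ⟨ψ, hψ⟩ * T.index * d) = b ⟨ψ, hψ⟩ * d * T.index := by ring
    omega
  refine ⟨?_, ?_, ?_⟩
  · rw [hm, Finset.sum_eq_single (⟨χ, hχ⟩ : Cfsg.IrrCharacter G)]
    · rw [hmχ, ha1, Nat.cast_one, one_smul]
    · intro φ _ hne
      have := Finset.sum_eq_zero_iff.mp hrest φ (Finset.mem_erase.mpr ⟨hne, Finset.mem_univ _⟩)
      rcases mul_eq_zero.mp this with h | h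
      · rw [h, Nat.cast_zero, zero_smul]
      · exact absurd h (hdeg0 φ).ne'
    · simp
  · rw [hb' ⟨ψ, hψ⟩, hE, hEb]
  · intro ψ' hψ' hc' hχ'
    by_contra hne
    have hpair : a ⟨ψ, hψ⟩ * b ⟨ψ, hψ⟩ + a ⟨ψ', hψ'⟩ * b ⟨ψ', hψ'⟩ ≤ E := by
      rw [hEsum]
      have hne' : (⟨ψ, hψ⟩ : Cfsg.IrrCharacter T) ≠ ⟨ψ', hψ'⟩ :=
        fun h => hne (congrArg Subtype.val h).symm
      rw [← Finset.sum_pair (f := fun φ => a φ * b φ) hne']
      exact Finset.sum_le_sum_of_subset (Finset.subset_univ _)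
    have hp1 : 0 < a ⟨ψ', hψ'⟩ := Nat.pos_of_ne_zero fun h => hχ' (by
      rw [haval ⟨ψ', hψ'⟩, h, Nat.cast_zero])
    have hp2 : 0 < b ⟨ψ', hψ'⟩ := Nat.pos_of_ne_zero fun h => hc' (by
      rw [hb' ⟨ψ', hψ'⟩, h, Nat.cast_zero])
    rw [ha1, one_mul, hEb] at hpair
    have := Nat.mul_pos hp1 hp2
    omega

/-- Induction from the inertia group preserves irreducibility. -/
theorem isIrrCharacter_indFun {ψ : T → ℂ} (hψ : Cfsg.IsIrrCharacter T ψ)
    (hc : Cfsg.classInner (fun n : N => ψ ⟨n, hNT n.2⟩) θ ≠ 0) :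
    Cfsg.IsIrrCharacter G (Cfsg.indFun T ψ) := by
  classical
  have hInd : Cfsg.IsCharacter G (Cfsg.indFun T ψ) :=
    Char.IsCharacter.indFun T (Char.IsIrrCharacter.isCharacter hψ)
  have h1 : Cfsg.indFun T ψ 1 ≠ 0 := by
    rw [Char.indFun_apply_one]
    exact mul_ne_zero (Nat.cast_ne_zero.mpr Subgroup.index_ne_zero_of_finite)
      (Char.IsIrrCharacter.apply_one_ne_zero hψ)
  obtain ⟨χ, hχ, hχc⟩ := exists_constituent hInd h1
  rw [Char.classInner_indFun T ψ χ (Char.IsIrrCharacter.isClassFunction hχ),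
    ← Char.classInner_conj_symm] at hχc
  rw [(indFun_eq_of_constituent N T hNT hθ hT hψ hc hχ (fun h => hχc (by rw [h, map_zero]))).1]
  exact hχ

/-- Induction from the inertia group is injective on characters over `θ`. -/
theorem indFun_injective {ψ ψ' : T → ℂ} (hψ : Cfsg.IsIrrCharacter T ψ)
    (hψ' : Cfsg.IsIrrCharacter T ψ') (hc : Cfsg.classInner (fun n : N => ψ ⟨n, hNT n.2⟩) θ ≠ 0)
    (hc' : Cfsg.classInner (fun n : N => ψ' ⟨n, hNT n.2⟩) θ ≠ 0)
    (h : Cfsg.indFun T ψ = Cfsg.indFun T ψ') : ψ = ψ' := by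
  classical
  have hχ := isIrrCharacter_indFun N T hNT hθ hT hψ hc
  have key : ∀ η : T → ℂ, Cfsg.indFun T η = Cfsg.indFun T ψ →
      Cfsg.classInner (fun t : T => Cfsg.indFun T ψ t) η ≠ 0 := by
    intro η hη h0
    rw [← Char.classInner_conj_symm, ← Char.classInner_indFun T η _
      (Char.isClassFunction_indFun T ψ), hη, Char.classInner_irr_self hχ, map_one] at h0
    exact one_ne_zero h0
  exact ((indFun_eq_of_constituent N T hNT hθ hT hψ hc hχ (key ψ rfl)).2.2 ψ' hψ' hc'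
    (key ψ' h.symm)).symm

/-- Every character over `θ` is induced from one of the inertia group over `θ`. -/
theorem exists_indFun_eq {χ : G → ℂ} (hχ : Cfsg.IsIrrCharacter G χ)
    (hcon : Cfsg.classInner (fun n : N => χ n) θ ≠ 0) :
    ∃ ψ : T → ℂ, Cfsg.IsIrrCharacter T ψ ∧ Cfsg.indFun T ψ = χ ∧
      Cfsg.classInner (fun n : N => ψ ⟨n, hNT n.2⟩) θ =
        Cfsg.classInner (fun n : N => χ n) θ := by
  classical
  obtain ⟨a, ha⟩ := Char.IsCharacter.exists_nat_combination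
    (isCharacter_res (Char.IsIrrCharacter.isCharacter hχ) T)
  obtain ⟨φ, hφ⟩ : ∃ φ : Cfsg.IrrCharacter T, a φ ≠ 0 ∧
      Cfsg.classInner (fun n : N => (φ : T → ℂ) ⟨n, hNT n.2⟩) θ ≠ 0 := by
    by_contra h
    push Not at h
    refine hcon ?_
    have e : (fun n : N => χ n) = ∑ φ : Cfsg.IrrCharacter T,
        (a φ : ℂ) • (fun n : N => (φ : T → ℂ) ⟨n, hNT n.2⟩) := by
      funext n
      have := congrFun ha ⟨n, hNT n.2⟩
      simpa [Finset.sum_apply] using this
    rw [e, Char.classInner_sum_left]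
    refine Finset.sum_eq_zero fun φ _ => ?_
    rw [Char.classInner_smul_left]
    by_cases ha0 : a φ = 0
    · rw [ha0, Nat.cast_zero, zero_mul]
    · rw [h φ ha0, mul_zero]
  have hne : Cfsg.classInner (fun t : T => χ t) φ ≠ 0 := by
    rw [ha, Char.classInner_sum_smul_irr]
    exact Nat.cast_ne_zero.mpr hφ.1
  obtain ⟨h1, h2, -⟩ := indFun_eq_of_constituent N T hNT hθ hT φ.2 hφ.2 hχ hne
  exact ⟨φ, φ.2, h1, h2⟩

end Correspondence

end CfsgLib.Clifford
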