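import Cfsg.Agent.Lib.Char.Twist
import Cfsg.Agent.Lib.Char.Induced

/-!
# Inner products of characters induced from a normal subgroup
-/

set_option autoImplicit false

open scoped ComplexConjugate

namespace CfsgLib.CharTwist

universe u

variable {G : Type u} [Group G] [Fintype G] (N : Subgroup G) [N.Normal]

/-- Restriction of a function induced from a normal subgroup: the average of conjugates. -/
theorem indFun_normal_apply (θ : N → ℂ) (n : N) :
    Cfsg.indFun N θ n = (Nat.card N : ℂ)⁻¹ * ∑ x : G, conjFun N θ x n := by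
  rw [Char.indFun_apply]
  congr 1
  refine Fintype.sum_equiv (Equiv.inv G) _ _ fun x => ?_
  have hx : x⁻¹ * (n : G) * x ∈ N := by
    simpa using (inferInstance : N.Normal).conj_mem _ n.2 x⁻¹
  rw [Char.extendByZero_apply_mem N θ hx]
  exact congrArg θ (Subtype.ext (by simp))

/-- `|N| ⟨θ^G, η^G⟩` counts the elements conjugating `η` to `θ`. -/
theorem card_mul_classInner_indFun {θ η : N → ℂ} (hθ : Cfsg.IsIrrCharacter N θ)
    (hη : Cfsg.IsIrrCharacter N η) [Fintype N] :
    (Nat.card N : ℂ) * Cfsg.classInner (Cfsg.indFun N θ) (Cfsg.indFun N η) =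
      (Nat.card {g : G // conjFun N η g = θ} : ℂ) := by
  classical
  rw [Char.classInner_indFun N θ _ (Char.isClassFunction_indFun N η)]
  have hres : (fun n : N => Cfsg.indFun N η n) =
      ((Nat.card N : ℂ)⁻¹) • ∑ x : G, conjFun N η x := by
    funext n
    rw [indFun_normal_apply, Pi.smul_apply, Finset.sum_apply, smul_eq_mul]
  rw [hres, Char.classInner_smul_right, Char.classInner_sum_right, map_inv₀, map_natCast,
    ← mul_assoc, mul_inv_cancel₀ (Nat.cast_ne_zero.mpr Nat.card_pos.ne'), one_mul,
    Finset.sum_congr rfl (fun x _ => Char.classInner_irr hθ (isIrrCharacter_conjFun N hη x)),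
    Finset.sum_boole, Nat.card_eq_fintype_card, Fintype.card_subtype]
  congr 2
  ext x
  simp [eq_comm]

end CfsgLib.CharTwist
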