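import Cfsg.Agent.Lib.Char.Normal
import Cfsg.Agent.Lib.Char.Conj
import Cfsg.Agent.Lib.Char.Linear

/-!
# Induction from the kernel of a Frobenius group
-/

set_option autoImplicit false

namespace CfsgLib.Char

universe u

variable {G : Type u} [Group G] [Fintype G] (K : Subgroup G) [K.Normal]

/-- If conjugation by `g` has only trivial fixed points on `K`, only the trivial class of `K` is
fixed, so only the trivial irreducible character. -/
theorem eq_one_of_conjFun_eq (g : G) (hfix : ∀ k ∈ K, g * k = k * g → k = 1) (τ : K → ℂ)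
    (hτ : Cfsg.IsIrrCharacter K τ) (hg : CharTwist.conjFun K τ g = τ) : τ = fun _ => 1 := by
  classical
  let s : K → K := fun k => MulAut.conjNormal (H := K) g k
  have hs : ∀ χ : K → ℂ, Cfsg.IsIrrCharacter K χ → Cfsg.IsIrrCharacter K (χ ∘ s) := fun χ hχ =>
    IsIrrCharacter.comp_mulEquiv hχ _
  have hsval : ∀ k : K, ((s k : K) : G) = g * k * g⁻¹ := fun k => rfl
  -- the coset of `g` is a single orbit under conjugation by `K`
  have horb : ∀ a : K, ∃ b : K, (a : G) * g = (b : G) * g * (b : G)⁻¹ := by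
    intro a
    let f : K → K := fun b => b * (MulAut.conjNormal (H := K) g b)⁻¹
    have hinj : Function.Injective f := by
      intro b b' h
      have h' : (b : G) * (g * (b : G) * g⁻¹)⁻¹ = (b' : G) * (g * (b' : G) * g⁻¹)⁻¹ :=
        congrArg Subtype.val h
      have key : g * ((b' : G)⁻¹ * b) = ((b' : G)⁻¹ * b) * g := by
        have h2 : (b' : G)⁻¹ * b = g * ((b' : G)⁻¹ * b) * g⁻¹ := by
          calc (b' : G)⁻¹ * b = (b' : G)⁻¹ * ((b : G) * (g * (b : G) * g⁻¹)⁻¹) *
              (g * (b : G) * g⁻¹) := by group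
            _ = g * ((b' : G)⁻¹ * b) * g⁻¹ := by rw [h']; group
        conv_rhs => rw [h2]
        group
      have h3 := hfix _ (K.mul_mem (K.inv_mem b'.2) b.2) key
      exact Subtype.ext (inv_mul_eq_one.mp h3).symm
    obtain ⟨b, hb⟩ := Finite.injective_iff_surjective.mp hinj a
    refine ⟨b, ?_⟩
    have hb' : (b : G) * (g * (b : G) * g⁻¹)⁻¹ = (a : G) := congrArg Subtype.val hb
    rw [← hb']
    group
  have hcls : ∀ k : K, IsConj (s k) k → k = 1 := by
    intro k hk
    obtain ⟨c, hc⟩ := isConj_iff.mp hk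
    have hc' : (c : G) * (g * k * g⁻¹) * (c : G)⁻¹ = k := by
      have := congrArg Subtype.val hc
      simpa [hsval] using this
    obtain ⟨b, hb⟩ := horb c
    have hcomm : ((c : G) * g) * k = k * ((c : G) * g) := by
      conv_rhs => rw [← hc']
      group
    rw [hb] at hcomm
    have h2 : g * ((b : G)⁻¹ * k * b) = ((b : G)⁻¹ * k * b) * g := by
      calc g * ((b : G)⁻¹ * k * b) = (b : G)⁻¹ * (((b : G) * g * (b : G)⁻¹) * k) * b := by group
        _ = (b : G)⁻¹ * ((k : G) * ((b : G) * g * (b : G)⁻¹)) * b := by rw [hcomm]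
        _ = ((b : G)⁻¹ * k * b) * g := by group
    have h3 := hfix _ (K.mul_mem (K.mul_mem (K.inv_mem b.2) k.2) b.2) h2
    have h4 : (k : G) = 1 := by
      calc (k : G) = (b : G) * ((b : G)⁻¹ * k * b) * (b : G)⁻¹ := by group
        _ = 1 := by rw [h3]; group
    exact Subtype.ext h4
  have hcard := card_fixed_irr_eq_card_fixed_classes (G := K) s hs
  have hone : Nat.card {C : ConjClasses K //
      ∀ k : K, ConjClasses.mk k = C → IsConj (s k) k} ≤ 1 := by
    rw [Finite.card_le_one_iff_subsingleton]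
    constructor
    rintro ⟨C, hC⟩ ⟨D, hD⟩
    obtain ⟨c, rfl⟩ := Quotient.mk_surjective C
    obtain ⟨d, rfl⟩ := Quotient.mk_surjective D
    have hc := hcls c (hC c rfl)
    have hd := hcls d (hD d rfl)
    exact Subtype.ext (show ConjClasses.mk c = ConjClasses.mk d by rw [hc, hd])
  rw [← hcard, Finite.card_le_one_iff_subsingleton] at hone
  have h1 : ((principalIrr : Cfsg.IrrCharacter K) : K → ℂ) ∘ s =
      ((principalIrr : Cfsg.IrrCharacter K) : K → ℂ) := by
    funext k; simp [principalIrr_apply]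
  have h := hone.elim (⟨⟨τ, hτ⟩, hg⟩ : {χ : Cfsg.IrrCharacter K //
    (χ : K → ℂ) ∘ s = (χ : K → ℂ)}) ⟨principalIrr, h1⟩
  funext k
  exact (congrArg (fun x => (x.1.1 : K → ℂ) k) h).trans (principalIrr_apply k)

/-- An irreducible character of a normal subgroup with inertia group the subgroup itself induces
to an irreducible character. -/
theorem isIrrCharacter_indFun_of_inertia (τ : K → ℂ) (hτ : Cfsg.IsIrrCharacter K τ)
    (hin : ∀ g : G, CharTwist.conjFun K τ g = τ → g ∈ K) :
    Cfsg.IsIrrCharacter G (Cfsg.indFun K τ) := by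
  classical
  refine IsCharacter.isIrrCharacter_of_classInner_self
    (IsCharacter.indFun K (IsIrrCharacter.isCharacter hτ)) ?_
  rw [classInner_indFun K τ _ (isClassFunction_indFun K τ), indFun_restrict_normal,
    classInner_smul_right, classInner_sum_right,
    ← Finset.sum_subset (s₁ := Finset.univ.filter (· ∈ K)) (Finset.subset_univ _) ?_]
  · rw [Finset.sum_congr rfl (g := fun _ => (1 : ℂ)) ?_, Finset.sum_const, nsmul_eq_mul, mul_one,
      ← Fintype.card_subtype, ← Nat.card_eq_fintype_card, map_inv₀, map_natCast, inv_mul_cancel₀]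
    · exact Nat.cast_ne_zero.mpr Nat.card_pos.ne'
    · intro x hx
      have hx' := CharTwist.le_inertia K (IsIrrCharacter.isClassFunction hτ)
        (Finset.mem_filter.mp hx).2
      rw [CharTwist.mem_inertia.mp hx', classInner_irr_self hτ]
  · intro x _ hx
    refine classInner_irr_of_ne hτ (CharTwist.isIrrCharacter_conjFun K hτ x) fun h => ?_
    exact hx (Finset.mem_filter.mpr ⟨Finset.mem_univ _, hin x h.symm⟩)

/-- In a Frobenius group every non-principal irreducible character of the kernel induces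
irreducibly. -/
theorem isIrrCharacter_indFun_frobenius (H : Subgroup G) (hKH' : K ⊔ H = ⊤)
    (hfpf : ∀ h ∈ H, h ≠ 1 → ∀ k ∈ K, h * k = k * h → k = 1) (τ : K → ℂ)
    (hτ : Cfsg.IsIrrCharacter K τ) (hτ1 : τ ≠ fun _ => 1) :
    Cfsg.IsIrrCharacter G (Cfsg.indFun K τ) := by
  refine isIrrCharacter_indFun_of_inertia K τ hτ fun g hg => ?_
  have hmem : g ∈ K ⊔ H := hKH' ▸ Subgroup.mem_top g
  rw [Subgroup.mem_sup_of_normal_left] at hmem
  obtain ⟨k, hk, h, hh, rfl⟩ := hmem
  rcases eq_or_ne h 1 with rfl | hne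
  · simpa using hk
  · refine absurd (eq_one_of_conjFun_eq K h (hfpf h hh hne) τ hτ ?_) hτ1
    rwa [CharTwist.conjFun_mul, CharTwist.mem_inertia.mp
      (CharTwist.le_inertia K (IsIrrCharacter.isClassFunction hτ) hk)] at hg

end CfsgLib.Char
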