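import Mathlib.RepresentationTheory.Character
import Mathlib.RepresentationTheory.Semisimple
import Mathlib.RepresentationTheory.Maschke
import Mathlib.Analysis.Complex.Basic
import Mathlib.Analysis.Complex.Polynomial.Basic

/-!
# Invariant subspaces, fixed subspaces and kernels of complex representations

Submodule-phrased access to irreducibility and Maschke's theorem.
-/

set_option autoImplicit false

open Module

namespace CfsgLib.CharKernel

variable {G : Type*} [Group G] {V : Type*} [AddCommGroup V] [Module ℂ V]
variable (ρ : Representation ℂ G V)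

/-- An invariant submodule of an irreducible representation is `⊥` or `⊤`. -/
theorem eq_bot_or_eq_top [hρ : ρ.IsIrreducible] (W : Submodule ℂ V)
    (hW : ∀ g : G, ∀ v ∈ W, ρ g v ∈ W) : W = ⊥ ∨ W = ⊤ := by
  rcases IsSimpleOrder.eq_bot_or_eq_top
    (⟨W, fun g v hv => hW g v hv⟩ : Subrepresentation ρ) with h | h
  · exact Or.inl (congrArg Subrepresentation.toSubmodule h)
  · exact Or.inr (congrArg Subrepresentation.toSubmodule h)

theorem nontrivial_of_irreducible [hρ : ρ.IsIrreducible] : Nontrivial V := by
  by_contra h
  rw [not_nontrivial_iff_subsingleton] at h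
  have : (⊥ : Subrepresentation ρ) = ⊤ := by
    apply Subrepresentation.toSubmodule_injective
    exact Subsingleton.elim _ _
  exact bot_ne_top this

/-- Irreducibility criterion in terms of invariant submodules. -/
theorem isIrreducible_of_forall [Nontrivial V]
    (h : ∀ W : Submodule ℂ V, (∀ g : G, ∀ v ∈ W, ρ g v ∈ W) → W = ⊥ ∨ W = ⊤) :
    ρ.IsIrreducible := by
  have hne : (⊥ : Subrepresentation ρ) ≠ ⊤ := fun hh => by
    have : (⊥ : Submodule ℂ V) = ⊤ := congrArg Subrepresentation.toSubmodule hh
    exact bot_ne_top this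
  have : Nontrivial (Subrepresentation ρ) := ⟨⟨⊥, ⊤, hne⟩⟩
  refine ⟨fun U => ?_⟩
  rcases h U.toSubmodule (fun g v hv => U.apply_mem_toSubmodule g hv) with h1 | h1
  · exact Or.inl (Subrepresentation.toSubmodule_injective h1)
  · exact Or.inr (Subrepresentation.toSubmodule_injective h1)

/-- The vectors fixed by all elements of a subgroup. -/
noncomputable def fixedSpace (H : Subgroup G) : Submodule ℂ V :=
  Representation.invariants (ρ.comp H.subtype : Representation ℂ H V)

theorem mem_fixedSpace {H : Subgroup G} {v : V} :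
    v ∈ fixedSpace ρ H ↔ ∀ h ∈ H, ρ h v = v := by
  simp only [fixedSpace, Representation.mem_invariants, Subtype.forall]
  rfl

/-- For a normal subgroup the fixed space is invariant. -/
theorem fixedSpace_invariant (H : Subgroup G) [hH : H.Normal] (g : G) (v : V)
    (hv : v ∈ fixedSpace ρ H) : ρ g v ∈ fixedSpace ρ H := by
  rw [mem_fixedSpace] at hv ⊢
  intro h hh
  have h1 : g⁻¹ * h * g ∈ H := by simpa using hH.conj_mem h hh g⁻¹
  have h2 := congrArg (ρ g) (hv _ h1)
  rw [← Module.End.mul_apply, ← map_mul] at h2
  rw [← Module.End.mul_apply, ← map_mul]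
  convert h2 using 3
  simp [mul_assoc]

/-- In an irreducible representation a normal subgroup not in the kernel fixes only zero. -/
theorem fixedSpace_eq_bot [ρ.IsIrreducible] (H : Subgroup G) [H.Normal]
    (hker : ∃ h ∈ H, ρ h ≠ 1) : fixedSpace ρ H = ⊥ := by
  rcases eq_bot_or_eq_top ρ _ (fixedSpace_invariant ρ H) with h | h
  · exact h
  · exfalso
    obtain ⟨x, hx, hne⟩ := hker
    refine hne (LinearMap.ext fun v => ?_)
    have hv : v ∈ fixedSpace ρ H := h ▸ Submodule.mem_top
    simpa using (mem_fixedSpace ρ).mp hv x hx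

/-- The dimension of a trivial irreducible representation is one. -/
theorem finrank_eq_one_of_trivial [FiniteDimensional ℂ V] [Finite G] [hρ : ρ.IsIrreducible]
    (h : ∀ g, ρ g = 1) : finrank ℂ V = 1 := by
  have := nontrivial_of_irreducible ρ
  obtain ⟨v, hv⟩ := exists_ne (0 : V)
  rcases eq_bot_or_eq_top ρ (ℂ ∙ v) (fun g w hw => by rw [h g]; simpa using hw) with h1 | h1
  · exact absurd ((Submodule.span_singleton_eq_bot).mp h1) hv
  · rw [← finrank_top ℂ V, ← h1, finrank_span_singleton hv]

/-- Maschke in submodule form. -/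
theorem exists_invariant_compl [Finite G] (W : Submodule ℂ V)
    (hW : ∀ g : G, ∀ v ∈ W, ρ g v ∈ W) :
    ∃ W' : Submodule ℂ V, (∀ g : G, ∀ v ∈ W', ρ g v ∈ W') ∧ IsCompl W W' := by
  have : NeZero (Nat.card G : ℂ) := ⟨Nat.cast_ne_zero.mpr Nat.card_pos.ne'⟩
  obtain ⟨U, hU⟩ := exists_isCompl (⟨W, fun g v hv => hW g v hv⟩ : Subrepresentation ρ)
  refine ⟨U.toSubmodule, fun g v hv => U.apply_mem_toSubmodule g hv, ?_, ?_⟩
  · rw [disjoint_iff]
    exact congrArg Subrepresentation.toSubmodule hU.inf_eq_bot
  · rw [codisjoint_iff]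
    exact congrArg Subrepresentation.toSubmodule hU.sup_eq_top

/-- An element acting nontrivially acts nontrivially on some irreducible constituent. -/
theorem exists_irreducible_sub_ne_one [Finite G] [FiniteDimensional ℂ V] (g : G) (hg : ρ g ≠ 1) :
    ∃ U : Subrepresentation ρ, U.toRepresentation.IsIrreducible ∧ U.toRepresentation g ≠ 1 := by
  suffices H : ∀ n : ℕ, ∀ U : Subrepresentation ρ, finrank ℂ U.toSubmodule = n →
      U.toRepresentation g ≠ 1 →
      ∃ U : Subrepresentation ρ, U.toRepresentation.IsIrreducible ∧ U.toRepresentation g ≠ 1 by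
    refine H _ ⊤ rfl fun h => hg (LinearMap.ext fun v => ?_)
    have := congrArg (fun f : (⊤ : Subrepresentation ρ).toSubmodule →ₗ[ℂ] _ =>
      ((f ⟨v, Submodule.mem_top⟩ : (⊤ : Subrepresentation ρ).toSubmodule) : V)) h
    simpa using! this
  intro n
  induction n using Nat.strong_induction_on with
  | _ n ih =>
    intro U hn hUg
    by_cases hirr : ∀ W : Submodule ℂ V, W ≤ U.toSubmodule →
        (∀ x : G, ∀ v ∈ W, ρ x v ∈ W) → W = ⊥ ∨ W = U.toSubmodule
    · refine ⟨U, ?_, hUg⟩
      have : Nontrivial U.toSubmodule := by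
        by_contra hc
        rw [not_nontrivial_iff_subsingleton] at hc
        exact hUg (LinearMap.ext fun v => Subsingleton.elim _ _)
      refine isIrreducible_of_forall _ fun W hW => ?_
      rcases hirr (W.map U.toSubmodule.subtype) (Submodule.map_subtype_le _ _) (by
        rintro x v ⟨w, hw, rfl⟩
        exact ⟨_, hW x w hw, rfl⟩) with h | h
      · exact Or.inl (by
          apply Submodule.map_injective_of_injective U.toSubmodule.subtype_injective
          rw [h, Submodule.map_bot])
      · exact Or.inr (by
          apply Submodule.map_injective_of_injective U.toSubmodule.subtype_injective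
          rw [h, Submodule.map_subtype_top])
    · push Not at hirr
      obtain ⟨W, hWU, hW, hW0, hW1⟩ := hirr
      obtain ⟨W', hW', hc⟩ := exists_invariant_compl ρ W hW
      let A : Subrepresentation ρ := ⟨W, fun x v hv => hW x v hv⟩
      let B : Subrepresentation ρ :=
        ⟨W' ⊓ U.toSubmodule, fun x v hv => ⟨hW' x v hv.1, U.apply_mem_toSubmodule x hv.2⟩⟩
      have hAlt : finrank ℂ A.toSubmodule < n :=
        hn ▸ Submodule.finrank_lt_finrank_of_lt (lt_of_le_of_ne hWU hW1)
      have hsup : W ⊔ (W' ⊓ U.toSubmodule) = U.toSubmodule := by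
        rw [← sup_inf_assoc_of_le W' hWU, hc.sup_eq_top, top_inf_eq]
      have hBlt : finrank ℂ B.toSubmodule < n := by
        refine hn ▸ Submodule.finrank_lt_finrank_of_lt (lt_of_le_of_ne inf_le_right fun h => hW0 ?_)
        have : W ≤ W' := le_trans hWU (inf_eq_right.mp h)
        exact eq_bot_iff.mpr (hc.disjoint le_rfl this)
      by_cases hA : A.toRepresentation g = 1
      · by_cases hB : B.toRepresentation g = 1
        · exfalso
          refine hUg (LinearMap.ext fun u => Subtype.ext ?_)
          have hu : (u : V) ∈ W ⊔ (W' ⊓ U.toSubmodule) := hsup.symm ▸ u.2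
          obtain ⟨a, ha, b, hb, hab⟩ := Submodule.mem_sup.mp hu
          have h1 : ρ g a = a := congrArg Subtype.val (LinearMap.congr_fun hA ⟨a, ha⟩)
          have h2 : ρ g b = b := congrArg Subtype.val (LinearMap.congr_fun hB ⟨b, hb⟩)
          show ρ g (u : V) = (u : V)
          rw [← hab, map_add, h1, h2]
        · exact ih _ hBlt B rfl hB
      · exact ih _ hAlt A rfl hA

/-- A nonzero finite-dimensional representation has an irreducible subrepresentation. -/
theorem exists_irreducible_sub [FiniteDimensional ℂ V] [Nontrivial V] :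
    ∃ U : Subrepresentation ρ, U.toRepresentation.IsIrreducible := by
  suffices H : ∀ n : ℕ, ∀ U : Subrepresentation ρ, finrank ℂ U.toSubmodule = n →
      U.toSubmodule ≠ ⊥ → ∃ U : Subrepresentation ρ, U.toRepresentation.IsIrreducible from
    H _ ⊤ rfl (top_ne_bot (α := Submodule ℂ V))
  intro n
  induction n using Nat.strong_induction_on with
  | _ n ih =>
    intro U hn hU
    by_cases hirr : ∀ W : Submodule ℂ V, W ≤ U.toSubmodule →
        (∀ x : G, ∀ v ∈ W, ρ x v ∈ W) → W = ⊥ ∨ W = U.toSubmodule
    · refine ⟨U, ?_⟩
      have : Nontrivial U.toSubmodule := Submodule.nontrivial_iff_ne_bot.mpr hU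
      refine isIrreducible_of_forall _ fun W hW => ?_
      rcases hirr (W.map U.toSubmodule.subtype) (Submodule.map_subtype_le _ _) (by
        rintro x v ⟨w, hw, rfl⟩
        exact ⟨_, hW x w hw, rfl⟩) with h | h
      · exact Or.inl (by
          apply Submodule.map_injective_of_injective U.toSubmodule.subtype_injective
          rw [h, Submodule.map_bot])
      · exact Or.inr (by
          apply Submodule.map_injective_of_injective U.toSubmodule.subtype_injective
          rw [h, Submodule.map_subtype_top])
    · push Not at hirr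
      obtain ⟨W, hWU, hW, hW0, hW1⟩ := hirr
      exact ih _ (hn ▸ Submodule.finrank_lt_finrank_of_lt (lt_of_le_of_ne hWU hW1))
        ⟨W, fun x v hv => hW x v hv⟩ rfl hW0

/-- Transport a representation to coordinate space. -/
noncomputable def coordRep [FiniteDimensional ℂ V] :
    Representation ℂ G (Fin (finrank ℂ V) → ℂ) where
  toFun g := (Module.finBasis ℂ V).equivFun.conj (ρ g)
  map_one' := by
    rw [map_one]
    exact LinearEquiv.conj_id _
  map_mul' a b := by
    rw [map_mul]
    exact LinearEquiv.conj_comp _ _ _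

theorem coordRep_character [FiniteDimensional ℂ V] : (coordRep ρ).character = ρ.character := by
  funext g
  exact LinearMap.trace_conj' _ _

theorem coordRep_apply_eq_one_iff [FiniteDimensional ℂ V] (g : G) :
    coordRep ρ g = 1 ↔ ρ g = 1 := by
  constructor
  · intro h
    apply (Module.finBasis ℂ V).equivFun.conj.injective
    exact h.trans (coordRep ρ).map_one.symm |>.trans (by simp [coordRep])
  · intro h
    show (Module.finBasis ℂ V).equivFun.conj (ρ g) = 1
    rw [h]
    exact LinearEquiv.conj_id _

theorem coordRep_irreducible [FiniteDimensional ℂ V] [ρ.IsIrreducible] :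
    (coordRep ρ).IsIrreducible := by
  have := nontrivial_of_irreducible ρ
  set e := (Module.finBasis ℂ V).equivFun
  have : Nontrivial (Fin (finrank ℂ V) → ℂ) := e.injective.nontrivial
  refine isIrreducible_of_forall _ fun W hW => ?_
  rcases eq_bot_or_eq_top ρ (W.comap (e : V →ₗ[ℂ] _)) (fun g v hv => by
    have := hW g (e v) hv
    simpa [coordRep, e, LinearEquiv.conj_apply] using! this) with h | h
  · refine Or.inl (eq_bot_iff.mpr fun w hw => ?_)
    have : e.symm w ∈ W.comap (e : V →ₗ[ℂ] _) := by simpa using hw
    rw [h, Submodule.mem_bot] at this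
    simpa using this
  · refine Or.inr (eq_top_iff.mpr fun w _ => ?_)
    have : e.symm w ∈ W.comap (e : V →ₗ[ℂ] _) := h ▸ Submodule.mem_top
    simpa using this

/-- Irreducible representations on coordinate spaces separate elements from the identity. -/
theorem exists_irreducible_apply_ne_one [Finite G] (g : G) (hg : g ≠ 1) :
    ∃ (n : ℕ) (σ : Representation ℂ G (Fin n → ℂ)), σ.IsIrreducible ∧ σ g ≠ 1 := by
  classical
  let R := Representation.leftRegular ℂ G
  have hR : R g ≠ 1 := by
    intro h
    have := LinearMap.congr_fun h (MonoidAlgebra.single 1 1)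
    simp [R] at this
    exact hg (MonoidAlgebra.of_injective (R := ℂ) this)
  have : FiniteDimensional ℂ (MonoidAlgebra ℂ G) := inferInstance
  obtain ⟨U, hU, hUg⟩ := exists_irreducible_sub_ne_one R g hR
  exact ⟨_, coordRep U.toRepresentation, coordRep_irreducible _,
    fun h => hUg ((coordRep_apply_eq_one_iff _ g).mp h)⟩

end CfsgLib.CharKernel
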