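import Cfsg.Agent.Lib.Char.Complete
import Cfsg.Agent.Lib.Char.Kernel

/-!
# Pullbacks, descents and conjugates of irreducible characters
-/

set_option autoImplicit false

open scoped ComplexConjugate

namespace CfsgLib.CharTwist

universe u v w

variable {G : Type u} [Group G] {H : Type v} [Group H]

/-- An irreducible representation stays irreducible along a surjective homomorphism. -/
theorem irreducible_comp_surjective {V : Type w} [AddCommGroup V] [Module ℂ V]
    (ρ : Representation ℂ G V) [ρ.IsIrreducible] (φ : H →* G) (hφ : Function.Surjective φ) :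
    Representation.IsIrreducible (ρ.comp φ : Representation ℂ H V) := by
  have := CharKernel.nontrivial_of_irreducible ρ
  refine CharKernel.isIrreducible_of_forall _ fun W hW => CharKernel.eq_bot_or_eq_top ρ W ?_
  intro g v hv
  obtain ⟨h, rfl⟩ := hφ g
  exact hW h v hv

/-- Inflation: irreducible characters pull back along surjective homomorphisms. -/
theorem isIrrCharacter_comp {χ : G → ℂ} (hχ : Cfsg.IsIrrCharacter G χ) (φ : H →* G)
    (hφ : Function.Surjective φ) : Cfsg.IsIrrCharacter H (χ ∘ φ) := by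
  obtain ⟨n, ρ, hρ, rfl⟩ := hχ
  exact ⟨n, ρ.comp φ, irreducible_comp_surjective ρ φ hφ, rfl⟩

theorem isIrrCharacter_comp_equiv {χ : G → ℂ} (hχ : Cfsg.IsIrrCharacter G χ) (e : H ≃* G) :
    Cfsg.IsIrrCharacter H (χ ∘ e) :=
  isIrrCharacter_comp hχ e.toMonoidHom e.surjective

/-- A character pulls back along any homomorphism. -/
theorem isCharacter_comp {χ : G → ℂ} (hχ : Cfsg.IsCharacter G χ) (φ : H →* G) :
    Cfsg.IsCharacter H (χ ∘ φ) := by
  obtain ⟨n, ρ, rfl⟩ := hχ
  exact ⟨n, ρ.comp φ, rfl⟩

/-- An irreducible character trivial on a normal subgroup comes from the quotient. -/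
theorem exists_irr_quotient {χ : G → ℂ} (hχ : Cfsg.IsIrrCharacter G χ) (N : Subgroup G)
    [N.Normal] [Finite G] (hN : ∀ n ∈ N, χ n = χ 1) :
    ∃ η : G ⧸ N → ℂ, Cfsg.IsIrrCharacter (G ⧸ N) η ∧ χ = η ∘ QuotientGroup.mk' N := by
  obtain ⟨n, ρ, hρ, rfl⟩ := hχ
  have hle : N ≤ MonoidHom.ker ρ := fun x hx => by
    rw [MonoidHom.mem_ker]
    have h := hN x hx
    rw [Representation.char_one] at h
    exact (Char.character_eq_degree_iff ρ x).mp h
  let σ : Representation ℂ (G ⧸ N) (Fin n → ℂ) := QuotientGroup.lift N ρ hle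
  have hσ : σ.IsIrreducible := by
    have := CharKernel.nontrivial_of_irreducible ρ
    exact CharKernel.isIrreducible_of_forall σ fun W hW =>
      CharKernel.eq_bot_or_eq_top ρ W (fun g v hv => hW (QuotientGroup.mk g) v hv)
  exact ⟨σ.character, ⟨n, σ, hσ, rfl⟩, rfl⟩

/-- The conjugate of a function on a normal subgroup. -/
def conjFun (N : Subgroup G) [hN : N.Normal] (θ : N → ℂ) (g : G) : N → ℂ :=
  fun n => θ ⟨g * n * g⁻¹, hN.conj_mem n n.2 g⟩

theorem conjFun_eq_comp (N : Subgroup G) [N.Normal] (θ : N → ℂ) (g : G) :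
    conjFun N θ g = θ ∘ (MulAut.conjNormal (H := N) g) := by
  funext n
  rfl

theorem isIrrCharacter_conjFun (N : Subgroup G) [N.Normal] {θ : N → ℂ}
    (hθ : Cfsg.IsIrrCharacter N θ) (g : G) : Cfsg.IsIrrCharacter N (conjFun N θ g) := by
  rw [conjFun_eq_comp]
  exact isIrrCharacter_comp_equiv hθ _

theorem conjFun_one (N : Subgroup G) [N.Normal] (θ : N → ℂ) : conjFun N θ 1 = θ := by
  funext n
  exact congrArg θ (Subtype.ext (by simp))

theorem conjFun_mul (N : Subgroup G) [N.Normal] (θ : N → ℂ) (g h : G) :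
    conjFun N θ (g * h) = conjFun N (conjFun N θ g) h := by
  funext n
  exact congrArg θ (Subtype.ext (by simp [mul_assoc]))

theorem conjFun_conj (N : Subgroup G) [N.Normal] (θ : N → ℂ) (g : G) :
    conjFun N (fun n => conj (θ n)) g = fun n => conj (conjFun N θ g n) := rfl

/-- The inertia group of a function on a normal subgroup. -/
def inertia (N : Subgroup G) [N.Normal] (θ : N → ℂ) : Subgroup G where
  carrier := {g | conjFun N θ g = θ}
  one_mem' := conjFun_one N θ
  mul_mem' := fun {a b} (ha : conjFun N θ a = θ) (hb : conjFun N θ b = θ) => by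
    show conjFun N θ (a * b) = θ
    rw [conjFun_mul, ha, hb]
  inv_mem' := fun {a} (ha : conjFun N θ a = θ) => by
    show conjFun N θ a⁻¹ = θ
    nth_rw 1 [← ha]
    rw [← conjFun_mul, mul_inv_cancel, conjFun_one]

theorem mem_inertia {N : Subgroup G} [N.Normal] {θ : N → ℂ} {g : G} :
    g ∈ inertia N θ ↔ conjFun N θ g = θ := Iff.rfl

theorem le_inertia (N : Subgroup G) [N.Normal] {θ : N → ℂ} (hθ : Cfsg.IsClassFunction N θ) :
    N ≤ inertia N θ := by
  intro g hg
  rw [mem_inertia]
  funext n
  exact hθ n ⟨g, hg⟩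

/-- The complex conjugate of an irreducible character is an irreducible character. -/
theorem isIrrCharacter_conj [Finite G] {χ : G → ℂ} (hχ : Cfsg.IsIrrCharacter G χ) :
    Cfsg.IsIrrCharacter G (fun g => conj (χ g)) := by
  cases nonempty_fintype G
  have hc : Cfsg.IsCharacter G (fun g => conj (χ g)) := by
    obtain ⟨n, ρ, hρ, rfl⟩ := hχ
    have : ρ.dual.character = fun g => conj (ρ.character g) := by
      funext g
      rw [Representation.char_dual, Char.character_inv]
    exact this ▸ Char.isCharacter_character ρ.dual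
  refine Char.IsCharacter.isIrrCharacter_of_classInner_self hc ?_
  have h := congrArg conj (Char.classInner_irr_self hχ)
  rw [map_one] at h
  rw [← h]
  simp [Cfsg.classInner, map_sum, mul_comm]

end CfsgLib.CharTwist
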