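import Cfsg.Prelude.Def_Characters
import Mathlib.LinearAlgebra.Eigenspace.Semisimple
import Mathlib.LinearAlgebra.Eigenspace.Triangularizable
import Mathlib.FieldTheory.Separable
import Mathlib.RingTheory.RootsOfUnity.Complex
import Mathlib.Analysis.Complex.Polynomial.Basic

/-!
# Bridge between `Cfsg.IsCharacter` and Mathlib representations; eigenvalues

Any finite-dimensional complex representation gives a character in the sense of
`Cfsg.IsCharacter`; the operators of a representation of a finite group are diagonalisable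
with roots of unity as eigenvalues.
-/

set_option autoImplicit false

open scoped ComplexConjugate
open Module Polynomial

namespace CfsgLib.Char

universe u v

section Coord

variable {G : Type u} [Group G] {V : Type v} [AddCommGroup V] [Module ℂ V]

/-- Transport of a representation along a linear equivalence. -/
noncomputable def transport {W : Type*} [AddCommGroup W] [Module ℂ W]
    (ρ : Representation ℂ G V) (e : V ≃ₗ[ℂ] W) : Representation ℂ G W :=
  (e.conjAlgEquiv ℂ).toAlgHom.toMonoidHom.comp ρ

theorem transport_apply {W : Type*} [AddCommGroup W] [Module ℂ W]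
    (ρ : Representation ℂ G V) (e : V ≃ₗ[ℂ] W) (g : G) : transport ρ e g = e.conj (ρ g) := rfl

/-- A representation is equivalent to its transport. -/
noncomputable def transportEquiv {W : Type*} [AddCommGroup W] [Module ℂ W]
    (ρ : Representation ℂ G V) (e : V ≃ₗ[ℂ] W) : Representation.Equiv ρ (transport ρ e) :=
  Representation.Equiv.mk e fun g => by
    ext x
    simp [transport_apply, LinearEquiv.conj_apply]

theorem transport_character {W : Type*} [AddCommGroup W] [Module ℂ W]
    (ρ : Representation ℂ G V) (e : V ≃ₗ[ℂ] W) : (transport ρ e).character = ρ.character :=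
  funext fun g => LinearMap.trace_conj' (ρ g) e

/-- An equivalence of representations identifies the lattices of subrepresentations. -/
theorem isIrreducible_of_equiv {W : Type*} [AddCommGroup W] [Module ℂ W]
    {ρ : Representation ℂ G V} {σ : Representation ℂ G W} (e : Representation.Equiv ρ σ)
    [hρ : ρ.IsIrreducible] : σ.IsIrreducible := by
  have hi : ∀ (g : G) (v : V), e.toLinearEquiv (ρ g v) = σ g (e.toLinearEquiv v) :=
    fun g v => e.toIntertwiningMap.isIntertwining ρ σ g v
  refine OrderIso.isSimpleOrder (β := Subrepresentation ρ) ?_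
  refine
    { toFun := fun p => ⟨p.toSubmodule.comap (e.toLinearEquiv : V →ₗ[ℂ] W), ?_⟩
      invFun := fun q => ⟨q.toSubmodule.map (e.toLinearEquiv : V →ₗ[ℂ] W), ?_⟩
      left_inv := fun p => Subrepresentation.toSubmodule_injective
        (Submodule.map_comap_eq_of_surjective e.toLinearEquiv.surjective _)
      right_inv := fun q => Subrepresentation.toSubmodule_injective
        (Submodule.comap_map_eq_of_injective e.toLinearEquiv.injective _)
      map_rel_iff' := ?_ }
  · intro g v hv
    rw [Submodule.mem_comap] at hv ⊢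
    change e.toLinearEquiv (ρ g v) ∈ p.toSubmodule
    rw [hi]
    exact p.apply_mem_toSubmodule g hv
  · rintro g _ ⟨v, hv, rfl⟩
    exact ⟨ρ g v, q.apply_mem_toSubmodule g hv, hi g v⟩
  · intro p q
    exact Submodule.comap_le_comap_iff_of_surjective e.toLinearEquiv.surjective

variable [FiniteDimensional ℂ V]

/-- The character of any finite-dimensional representation is a character. -/
theorem isCharacter_character (ρ : Representation ℂ G V) : Cfsg.IsCharacter G ρ.character :=
  ⟨finrank ℂ V, transport ρ (finBasis ℂ V).equivFun, transport_character ρ _⟩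

/-- The character of an irreducible finite-dimensional representation is an irreducible
character. -/
theorem isIrrCharacter_character (ρ : Representation ℂ G V) [ρ.IsIrreducible] :
    Cfsg.IsIrrCharacter G ρ.character :=
  ⟨finrank ℂ V, transport ρ (finBasis ℂ V).equivFun,
    isIrreducible_of_equiv (transportEquiv ρ _), transport_character ρ _⟩

theorem finrank_pos_of_isIrreducible (ρ : Representation ℂ G V) [ρ.IsIrreducible] :
    0 < finrank ℂ V := by
  rcases Nat.eq_zero_or_pos (finrank ℂ V) with h | h
  · exfalso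
    have : Subsingleton V := Module.finrank_zero_iff.mp h
    exact bot_ne_top (α := Subrepresentation ρ)
      (Subrepresentation.toSubmodule_injective (Subsingleton.elim _ _))
  · exact h

end Coord

section Basics

variable {G : Type u} [Group G] {χ : G → ℂ}

theorem IsIrrCharacter.isCharacter (h : Cfsg.IsIrrCharacter G χ) : Cfsg.IsCharacter G χ :=
  let ⟨n, ρ, _, he⟩ := h
  ⟨n, ρ, he⟩

theorem IsCharacter.isClassFunction (h : Cfsg.IsCharacter G χ) : Cfsg.IsClassFunction G χ := by
  obtain ⟨n, ρ, rfl⟩ := h
  exact fun g x => ρ.char_conj g x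

theorem IsIrrCharacter.isClassFunction (h : Cfsg.IsIrrCharacter G χ) :
    Cfsg.IsClassFunction G χ :=
  IsCharacter.isClassFunction (IsIrrCharacter.isCharacter h)

theorem IsClassFunction.eq_of_isConj {θ : G → ℂ} (h : Cfsg.IsClassFunction G θ) {a b : G}
    (hab : IsConj a b) : θ a = θ b := by
  obtain ⟨c, rfl⟩ := isConj_iff.mp hab
  exact (h a c).symm

theorem IsClassFunction.mul_comm' {θ : G → ℂ} (h : Cfsg.IsClassFunction G θ) (a b : G) :
    θ (a * b) = θ (b * a) := by
  simpa [mul_assoc] using h (b * a) a

/-- The degree of a character is a natural number. -/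
theorem IsCharacter.exists_degree (h : Cfsg.IsCharacter G χ) : ∃ n : ℕ, χ 1 = n := by
  obtain ⟨n, ρ, rfl⟩ := h
  exact ⟨n, by simp⟩

/-- The degree of an irreducible character is a positive natural number. -/
theorem IsIrrCharacter.exists_degree (h : Cfsg.IsIrrCharacter G χ) :
    ∃ n : ℕ, 0 < n ∧ χ 1 = n := by
  obtain ⟨n, ρ, hρ, rfl⟩ := h
  exact ⟨n, by simpa using finrank_pos_of_isIrreducible ρ, by simp⟩

theorem IsIrrCharacter.apply_one_ne_zero (h : Cfsg.IsIrrCharacter G χ) : χ 1 ≠ 0 := by
  obtain ⟨n, hn, he⟩ := IsIrrCharacter.exists_degree h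
  rw [he]; exact_mod_cast hn.ne'

/-- The degree of a character, as a natural number. -/
noncomputable def degree (χ : G → ℂ) : ℕ := ⌊(χ 1).re⌋₊

theorem IsCharacter.degree_cast (h : Cfsg.IsCharacter G χ) : (degree χ : ℂ) = χ 1 := by
  obtain ⟨n, hn⟩ := IsCharacter.exists_degree h
  simp [degree, hn]

theorem IsIrrCharacter.degree_pos (h : Cfsg.IsIrrCharacter G χ) : 0 < degree χ := by
  obtain ⟨n, hn, he⟩ := IsIrrCharacter.exists_degree h
  simpa [degree, he] using hn

theorem degree_character {V : Type v} [AddCommGroup V] [Module ℂ V] [FiniteDimensional ℂ V]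
    (ρ : Representation ℂ G V) : degree ρ.character = finrank ℂ V := by
  simp [degree]

end Basics

section Eigen

variable {G : Type u} [Group G] [Finite G] {V : Type v} [AddCommGroup V] [Module ℂ V]
  [FiniteDimensional ℂ V]

/-- An endomorphism of finite order of a complex vector space has a basis of eigenvectors, the
eigenvalues being roots of unity of that order. -/
theorem exists_eigenbasis_of_pow_eq_one (f : Module.End ℂ V) {m : ℕ} (hm : m ≠ 0)
    (hf : f ^ m = 1) :
    ∃ (b : Basis (Fin (finrank ℂ V)) ℂ V) (μ : Fin (finrank ℂ V) → ℂ),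
      (∀ i, μ i ^ m = 1) ∧ ∀ i, f (b i) = μ i • b i := by
  have hss : f.IsSemisimple :=
    Module.End.isSemisimple_of_squarefree_aeval_eq_zero
      (p := X ^ m - 1)
      (X_pow_sub_one_separable_iff.mpr (by exact_mod_cast hm : (m : ℂ) ≠ 0)).squarefree
      (by simp [hf])
  have hspan : ⊤ ≤ Submodule.span ℂ {v : V | ∃ μ : ℂ, f v = μ • v} := by
    rw [← hss.iSup_eigenspace_eq_top]
    exact iSup_le fun μ v hv =>
      Submodule.subset_span ⟨μ, Module.End.mem_eigenspace_iff.mp hv⟩
  let b₀ := Basis.ofSpan hspan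
  have : Fintype ((linearIndepOn_empty ℂ (id : V → V)).extend
      (Set.empty_subset {v : V | ∃ μ : ℂ, f v = μ • v})) := FiniteDimensional.fintypeBasisIndex b₀
  let b := b₀.reindex (Fintype.equivFinOfCardEq (finrank_eq_card_basis b₀).symm)
  have hb : ∀ i, ∃ μ : ℂ, f (b i) = μ • b i := fun i => by
    have h := Basis.ofSpan_subset hspan (Set.mem_range_self
      ((Fintype.equivFinOfCardEq (finrank_eq_card_basis b₀).symm).symm i))
    simpa [b, b₀] using h
  choose μ hμ using hb
  refine ⟨b, μ, fun i => ?_, hμ⟩
  have key : ∀ k : ℕ, (f ^ k) (b i) = μ i ^ k • b i := by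
    intro k
    induction k with
    | zero => simp
    | succ k ih => rw [pow_succ', Module.End.mul_apply, ih, map_smul, hμ, smul_smul, pow_succ]
  have h1 := key m
  rw [hf] at h1
  have h2 : (1 : ℂ) • b i = μ i ^ m • b i := by simpa using h1
  exact (smul_left_injective ℂ (b.ne_zero i) h2).symm

/-- Each element of a finite group acts diagonalisably, with eigenvalues roots of unity. -/
theorem exists_eigenbasis (ρ : Representation ℂ G V) (g : G) :
    ∃ (b : Basis (Fin (finrank ℂ V)) ℂ V) (μ : Fin (finrank ℂ V) → ℂ),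
      (∀ i, μ i ^ orderOf g = 1) ∧ ∀ i, ρ g (b i) = μ i • b i :=
  exists_eigenbasis_of_pow_eq_one (ρ g) (orderOf_pos g).ne'
    (by rw [← map_pow, pow_orderOf_eq_one, map_one])

omit [FiniteDimensional ℂ V] in
/-- The trace of an operator diagonal in a given basis. -/
theorem trace_eq_sum_of_eigenbasis {ι : Type*} [Fintype ι] (f : Module.End ℂ V)
    (b : Basis ι ℂ V) (μ : ι → ℂ) (h : ∀ i, f (b i) = μ i • b i) :
    LinearMap.trace ℂ V f = ∑ i, μ i := by
  classical
  rw [LinearMap.trace_eq_matrix_trace ℂ b, Matrix.trace]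
  exact Finset.sum_congr rfl fun i _ => by simp [LinearMap.toMatrix_apply, h]

/-- Simultaneous description of the character on the powers of one element. -/
theorem exists_eigenvalues (ρ : Representation ℂ G V) (g : G) :
    ∃ μ : Fin (finrank ℂ V) → ℂ, (∀ i, μ i ^ orderOf g = 1) ∧ (∀ i, ‖μ i‖ = 1) ∧
      ρ.character g⁻¹ = ∑ i, (μ i)⁻¹ ∧ ∀ k : ℕ, ρ.character (g ^ k) = ∑ i, μ i ^ k := by
  obtain ⟨b, μ, hμ, hb⟩ := exists_eigenbasis ρ g
  have hnorm : ∀ i, ‖μ i‖ = 1 := fun i =>
    Complex.norm_eq_one_of_pow_eq_one (hμ i) (orderOf_pos g).ne'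
  refine ⟨μ, hμ, hnorm, ?_, fun k => ?_⟩
  · refine trace_eq_sum_of_eigenbasis _ b _ fun i => ?_
    have h0 : μ i ≠ 0 := fun h => by simpa [h] using hnorm i
    have h := congrArg (ρ g⁻¹) (hb i)
    rw [Representation.inv_self_apply, map_smul] at h
    conv_rhs => rw [h, smul_smul, inv_mul_cancel₀ h0, one_smul]
  · refine trace_eq_sum_of_eigenbasis _ b _ fun i => ?_
    induction k with
    | zero => simp
    | succ k ih =>
      rw [map_pow] at ih ⊢
      rw [pow_succ', Module.End.mul_apply, ih, map_smul, hb, smul_smul, pow_succ]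

/-- Complex conjugation of a character value is the value at the inverse. -/
theorem character_inv (ρ : Representation ℂ G V) (g : G) :
    ρ.character g⁻¹ = conj (ρ.character g) := by
  obtain ⟨μ, -, hn, hinv, hpow⟩ := exists_eigenvalues ρ g
  have h1 := hpow 1
  rw [pow_one] at h1
  simp only [pow_one] at h1
  rw [hinv, h1, map_sum]
  exact Finset.sum_congr rfl fun i _ => Complex.inv_eq_conj (hn i)

theorem norm_character_le (ρ : Representation ℂ G V) (g : G) :
    ‖ρ.character g‖ ≤ finrank ℂ V := by
  obtain ⟨μ, -, hn, -, hpow⟩ := exists_eigenvalues ρ g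
  have h1 := hpow 1
  simp only [pow_one] at h1
  rw [h1]
  refine (norm_sum_le _ _).trans ?_
  simp [hn]

/-- Equality in the triangle inequality for unit complex numbers. -/
theorem eq_of_sum_eq_card_smul {ι : Type*} [Fintype ι] (μ : ι → ℂ) (hμ : ∀ i, ‖μ i‖ = 1)
    (ω : ℂ) (hω : ‖ω‖ = 1) (h : ∑ i, μ i = Fintype.card ι * ω) (i : ι) : μ i = ω := by
  have hωω : conj ω * ω = 1 := by rw [mul_comm, Complex.mul_conj']; simp [hω]
  have hle : ∀ j, (conj ω * μ j).re ≤ 1 := fun j =>
    (Complex.re_le_norm _).trans (by simp [hμ, hω])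
  have hsum : ∑ j, (1 - (conj ω * μ j).re) = 0 := by
    rw [Finset.sum_sub_distrib, ← Complex.re_sum, ← Finset.mul_sum, h, mul_left_comm, hωω]
    simp
  have hi := (Finset.sum_eq_zero_iff_of_nonneg fun j _ => sub_nonneg.mpr (hle j)).mp hsum i
    (Finset.mem_univ i)
  have hre : (conj ω * μ i).re = 1 := by linarith
  have hn : ‖conj ω * μ i‖ = 1 := by simp [hμ, hω]
  have him : (conj ω * μ i).im = 0 := by
    have h2 := Complex.sq_norm (conj ω * μ i)
    rw [hn, Complex.normSq_apply, hre] at h2
    nlinarith
  have h1 : conj ω * μ i = 1 := Complex.ext (by simpa using hre) (by simpa using him)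
  calc μ i = (conj ω * ω) * μ i := by rw [hωω, one_mul]
    _ = ω * (conj ω * μ i) := by ring
    _ = ω := by rw [h1, mul_one]

/-- If a character value is the degree times a unit `ω`, the element acts as the scalar `ω`. -/
theorem eq_smul_id_of_character_eq (ρ : Representation ℂ G V) (g : G) (ω : ℂ) (hω : ‖ω‖ = 1)
    (h : ρ.character g = finrank ℂ V * ω) : ρ g = ω • (LinearMap.id : V →ₗ[ℂ] V) := by
  obtain ⟨b, μ, hμ, hb⟩ := exists_eigenbasis ρ g
  have hn : ∀ i, ‖μ i‖ = 1 := fun i =>
    Complex.norm_eq_one_of_pow_eq_one (hμ i) (orderOf_pos g).ne'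
  have hsum : ∑ i, μ i = (Fintype.card (Fin (finrank ℂ V)) : ℂ) * ω := by
    rw [Fintype.card_fin, ← h]
    exact (trace_eq_sum_of_eigenbasis _ b μ hb).symm
  refine b.ext fun i => ?_
  rw [hb, eq_of_sum_eq_card_smul μ hn ω hω hsum i]
  simp

/-- A character value equals the degree only for elements in the kernel. -/
theorem character_eq_degree_iff (ρ : Representation ℂ G V) (g : G) :
    ρ.character g = finrank ℂ V ↔ ρ g = LinearMap.id := by
  refine ⟨fun h => ?_, fun h => ?_⟩
  · simpa using eq_smul_id_of_character_eq ρ g 1 (by simp) (by simpa using h)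
  · rw [Representation.character, h]
    simp [LinearMap.trace_id]

variable {χ : G → ℂ}

theorem IsCharacter.apply_inv (h : Cfsg.IsCharacter G χ) (g : G) : χ g⁻¹ = conj (χ g) := by
  obtain ⟨n, ρ, rfl⟩ := h
  exact character_inv ρ g

theorem IsIrrCharacter.apply_inv (h : Cfsg.IsIrrCharacter G χ) (g : G) : χ g⁻¹ = conj (χ g) :=
  IsCharacter.apply_inv (IsIrrCharacter.isCharacter h) g

theorem IsCharacter.norm_apply_le (h : Cfsg.IsCharacter G χ) (g : G) : ‖χ g‖ ≤ degree χ := by
  obtain ⟨n, ρ, rfl⟩ := h
  rw [degree_character]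
  exact norm_character_le ρ g

end Eigen

end CfsgLib.Char
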