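import Cfsg.Agent.Lib.CharDeep.Induction
import Cfsg.Agent.Lib.Char.Induced
import Cfsg.Agent.Lib.Char.Orth
import Mathlib.GroupTheory.Nilpotent
import Mathlib.RingTheory.PrincipalIdealDomain

/-!
# Brauer's induction theorem and the characterisation of characters
-/

set_option autoImplicit false

namespace CfsgLib.Char

universe u

variable (G : Type u) [Group G] [Fintype G]

/-- The constant one is an integral combination of characters induced from elementary
subgroups. -/
theorem exists_one_eq_comb :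
    ∃ l : List ((E : Subgroup G) × ((E → ℂ) × ℤ)),
      (∀ t ∈ l, ∃ p : ℕ, p.Prime ∧ Cfsg.IsElementary p t.1 ∧ Cfsg.IsCharacter t.1 t.2.1) ∧
      (fun _ : G => (1 : ℂ)) = (l.map fun t => (t.2.2 : ℂ) • Cfsg.indFun t.1 t.2.1).sum := by
  classical
  let S : Set ℤ := {m | ∃ l : List ((E : Subgroup G) × ((E → ℂ) × ℤ)),
    (∀ t ∈ l, ∃ p : ℕ, p.Prime ∧ Cfsg.IsElementary p t.1 ∧ Cfsg.IsCharacter t.1 t.2.1) ∧
      (fun _ : G => (m : ℂ)) = (l.map fun t => (t.2.2 : ℂ) • Cfsg.indFun t.1 t.2.1).sum}
  let I : Ideal ℤ :=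
    { carrier := S
      zero_mem' := ⟨[], by simp, by funext g; simp⟩
      add_mem' := by
        rintro a b ⟨l, hl, ha⟩ ⟨k, hk, hb⟩
        refine ⟨l ++ k, fun t ht => (List.mem_append.mp ht).elim (hl t) (hk t), ?_⟩
        rw [List.map_append, List.sum_append, ← ha, ← hb]
        funext g; simp
      smul_mem' := by
        rintro c a ⟨l, hl, ha⟩
        refine ⟨l.map fun t => ⟨t.1, t.2.1, c * t.2.2⟩, ?_, ?_⟩
        · intro t ht
          obtain ⟨s, hs, rfl⟩ := List.mem_map.mp ht
          exact hl s hs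
        · rw [List.map_map]
          have : ((fun (t : (E : Subgroup G) × ((E → ℂ) × ℤ)) =>
              (t.2.2 : ℂ) • Cfsg.indFun t.1 t.2.1) ∘ fun (t : (E : Subgroup G) × ((E → ℂ) × ℤ)) => ⟨t.1, t.2.1, c * t.2.2⟩) =
              fun (t : (E : Subgroup G) × ((E → ℂ) × ℤ)) => (c : ℂ) • ((t.2.2 : ℂ) • Cfsg.indFun t.1 t.2.1) := by
            funext t; simp [mul_smul]
          rw [this]
          have h2 : ∀ k : List ((E : Subgroup G) × ((E → ℂ) × ℤ)),
              (k.map fun t => (c : ℂ) • ((t.2.2 : ℂ) • Cfsg.indFun t.1 t.2.1)).sum =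
                (c : ℂ) • (k.map fun t => (t.2.2 : ℂ) • Cfsg.indFun t.1 t.2.1).sum := by
            intro k
            induction k with
            | nil => simp
            | cons s k ih => simp [smul_add, ih]
          rw [h2, ← ha]
          funext g; simp }
  have hone : (1 : ℤ) ∈ I := by
    rw [← Ideal.eq_top_iff_one]
    by_contra hne
    obtain ⟨g, hg⟩ := (IsPrincipalIdealRing.principal I).principal
    have hgu : ¬ IsUnit g := fun hu => hne (by
      rw [hg, Ideal.submodule_span_eq, Ideal.span_singleton_eq_top]; exact hu)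
    obtain ⟨p, hp, hpg⟩ : ∃ p : ℕ, p.Prime ∧ (p : ℤ) ∣ g := by
      obtain ⟨p, hp, hd⟩ := Nat.exists_prime_and_dvd
        (n := g.natAbs) (fun h => hgu (Int.isUnit_iff_natAbs_eq.mpr h))
      exact ⟨p, hp, Int.natCast_dvd.mpr hd⟩
    obtain ⟨m, l, hm, hl, heq⟩ := CfsgLib.CharDeep.Ind.brauer_local G p hp
    have hmI : m ∈ I := ⟨l, fun t ht => ⟨p, hp, hl t ht⟩, heq⟩
    rw [hg, Ideal.submodule_span_eq, Ideal.mem_span_singleton] at hmI
    exact hm (hpg.trans hmI)
  obtain ⟨l, hl, heq⟩ := hone
  exact ⟨l, hl, by simpa using heq⟩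

variable {G}

/-- A class function is the combination of the inductions of its products with the elementary
characters expressing the constant one. -/
theorem exists_eq_comb_res (θ : G → ℂ) (hθ : Cfsg.IsClassFunction G θ) :
    ∃ l : List ((E : Subgroup G) × ((E → ℂ) × ℤ)),
      (∀ t ∈ l, ∃ p : ℕ, p.Prime ∧ Cfsg.IsElementary p t.1 ∧ Cfsg.IsCharacter t.1 t.2.1) ∧
      θ = (l.map fun t =>
        (t.2.2 : ℂ) • Cfsg.indFun t.1 (fun e => t.2.1 e * θ e)).sum := by
  obtain ⟨l, hl, heq⟩ := exists_one_eq_comb G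
  refine ⟨l, hl, ?_⟩
  have h2 : ∀ k : List ((E : Subgroup G) × ((E → ℂ) × ℤ)),
      (k.map fun t => (t.2.2 : ℂ) • Cfsg.indFun t.1 (fun e => t.2.1 e * θ e)).sum =
        (k.map fun t => (t.2.2 : ℂ) • Cfsg.indFun t.1 t.2.1).sum * θ := by
    intro k
    induction k with
    | nil => simp
    | cons s k ih => simp [add_mul, ih, indFun_mul_res s.1 s.2.1 θ hθ]
  rw [h2, ← heq]
  funext g; simp

/-- Brauer's characterisation of generalized characters. -/
theorem isGeneralizedCharacter_of_elementary (θ : G → ℂ) (hθ : Cfsg.IsClassFunction G θ)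
    (hE : ∀ (E : Subgroup G) (p : ℕ), p.Prime → Cfsg.IsElementary p E →
      Cfsg.IsGeneralizedCharacter E (fun e : E => θ e)) :
    Cfsg.IsGeneralizedCharacter G θ := by
  obtain ⟨l, hl, heq⟩ := exists_eq_comb_res θ hθ
  rw [heq]
  refine IsGeneralizedCharacter.list_sum _ fun f hf => ?_
  obtain ⟨t, ht, rfl⟩ := List.mem_map.mp hf
  obtain ⟨p, hp, hel, hch⟩ := hl t ht
  exact IsGeneralizedCharacter.intCast_smul (IsGeneralizedCharacter.indFun t.1
    (IsGeneralizedCharacter.mul (IsCharacter.isGeneralizedCharacter hch) (hE t.1 p hp hel))) _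

end CfsgLib.Char

namespace CfsgLib.Char

universe v

variable {E : Type v} [Group E] [Finite E] {p : ℕ}

omit [Finite E] in
theorem zpowers_normal_of_central {x : E} (hx : x ∈ Subgroup.center E) :
    (Subgroup.zpowers x).Normal :=
  ⟨fun n hn g => by
    rw [Subgroup.mem_center_iff.mp (Subgroup.zpowers_le.mpr hx hn) g, mul_inv_cancel_right]
    exact hn⟩

/-- An elementary group is nilpotent. -/
theorem isNilpotent_of_isElementary (hp : p.Prime) (h : Cfsg.IsElementary p E) :
    Group.IsNilpotent E := by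
  obtain ⟨x, hx, -, k, hk⟩ := h
  have : Fact p.Prime := ⟨hp⟩
  have : (Subgroup.zpowers x).Normal := zpowers_normal_of_central hx
  have hq : IsPGroup p (E ⧸ Subgroup.zpowers x) := IsPGroup.of_card (n := k) hk
  have := hq.isNilpotent
  exact Subgroup.isNilpotent_of_ker_le_center (QuotientGroup.mk' (Subgroup.zpowers x))
    (by rw [QuotientGroup.ker_mk']; exact Subgroup.zpowers_le.mpr hx)

omit [Finite E] in
/-- A subgroup of an elementary group is elementary. -/
theorem isElementary_subgroup (hp : p.Prime) (h : Cfsg.IsElementary p E) (H : Subgroup E) :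
    Cfsg.IsElementary p H := by
  obtain ⟨x, hx, hcop, k, hk⟩ := h
  have hcyc : IsCyclic ((Subgroup.zpowers x).subgroupOf H) := by
    let f : (Subgroup.zpowers x).subgroupOf H →* Subgroup.zpowers x :=
      { toFun := fun y => ⟨((y : H) : E), Subgroup.mem_subgroupOf.mp y.2⟩
        map_one' := rfl
        map_mul' := fun _ _ => rfl }
    refine isCyclic_of_injective f fun a b hab => ?_
    exact Subtype.ext (Subtype.ext (congrArg (fun z : Subgroup.zpowers x => (z : E)) hab))
  obtain ⟨y, hy⟩ := ((Subgroup.zpowers x).subgroupOf H).isCyclic_iff_exists_zpowers_eq_top.mp hcyc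
  have hym : ((y : H) : E) ∈ Subgroup.zpowers x := by
    have : y ∈ (Subgroup.zpowers x).subgroupOf H := hy ▸ Subgroup.mem_zpowers y
    exact Subgroup.mem_subgroupOf.mp this
  refine ⟨y, ?_, ?_, ?_⟩
  · rw [Subgroup.mem_center_iff]
    intro z
    exact Subtype.ext (Subgroup.mem_center_iff.mp (Subgroup.zpowers_le.mpr hx hym) (z : E))
  · refine hcop.coprime_dvd_left ?_
    rw [← Subgroup.orderOf_coe, ← Nat.card_zpowers, ← Nat.card_zpowers]
    exact Subgroup.card_dvd_of_le (Subgroup.zpowers_le.mpr hym)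
  · have : (Subgroup.zpowers x).Normal := zpowers_normal_of_central hx
    rw [hy]
    have hdvd : ((Subgroup.zpowers x).subgroupOf H).index ∣ p ^ k := by
      rw [← hk]
      exact Subgroup.relIndex_dvd_index_of_normal (Subgroup.zpowers x) H
    obtain ⟨j, -, hj⟩ := (Nat.dvd_prime_pow hp).mp hdvd
    exact ⟨j, hj⟩

omit [Finite E] in
/-- Elementary is invariant under isomorphism. -/
theorem isElementary_of_mulEquiv {F : Type*} [Group F] (e : E ≃* F) (h : Cfsg.IsElementary p E) :
    Cfsg.IsElementary p F := by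
  obtain ⟨x, hx, hcop, k, hk⟩ := h
  refine ⟨e x, ?_, by rwa [e.orderOf_eq], k, ?_⟩
  · rw [Subgroup.mem_center_iff]
    intro z
    obtain ⟨z, rfl⟩ := e.surjective z
    rw [← map_mul, ← map_mul, Subgroup.mem_center_iff.mp hx z]
  · rw [← hk, show Subgroup.zpowers (e x) = (Subgroup.zpowers x).map (e : E →* F) from
      (MonoidHom.map_zpowers (e : E →* F) x).symm]
    exact Subgroup.index_map_equiv _ e

end CfsgLib.Char
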