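import Cfsg.Agent.Lib.Char.Complete
import Cfsg.Agent.Lib.Char.Integral
import Cfsg.Agent.Lib.Char.Virtual
import Mathlib.GroupTheory.Sylow
import Mathlib.GroupTheory.Nilpotent
import Mathlib.GroupTheory.SpecificGroups.Cyclic

/-!
# Burnside's theorems on class sizes and on groups of order `p^a q^b`
-/

set_option autoImplicit false

namespace CfsgLib.Char

universe u

variable {G : Type u} [Group G]

/-- A commutative simple finite group has prime order. -/
theorem card_prime_of_center_eq_top [Finite G] [IsSimpleGroup G] (h : Subgroup.center G = ⊤) :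
    (Nat.card G).Prime := by
  let _ : CommGroup G :=
    { ‹Group G› with mul_comm := fun a b => Subgroup.mem_center_iff.mp (h ▸ Subgroup.mem_top b) a }
  exact IsSimpleGroup.prime_card

/-- The irreducible character with all values one. -/
theorem isIrrCharacter_one : Cfsg.IsIrrCharacter G (1 : G → ℂ) := by
  have h := isIrrCharacter_monoidHom (1 : G →* ℂˣ)
  simpa [Pi.one_def] using h

/-- In a finite simple group, an element `g ≠ 1` with class of prime power size forces prime
order. -/
theorem card_prime_of_prime_pow_class [Finite G] [IsSimpleGroup G] (p k : ℕ) (hp : p.Prime)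
    (g : G) (hg : g ≠ 1) (hclass : (Subgroup.centralizer ({g} : Set G)).index = p ^ k) :
    (Nat.card G).Prime := by
  classical
  have := Fintype.ofFinite G
  let T : Cfsg.IrrCharacter G := ⟨1, isIrrCharacter_one⟩
  obtain ⟨χ, hχT, hχp, hχg⟩ : ∃ χ : Cfsg.IrrCharacter G,
      χ ≠ T ∧ ¬ p ∣ degree (χ : G → ℂ) ∧ (χ : G → ℂ) g ≠ 0 := by
    by_contra hcon
    push Not at hcon
    have hsum := sum_apply_one_mul g
    rw [if_neg hg, ← Finset.add_sum_erase Finset.univ _ (Finset.mem_univ T)] at hsum
    have hint : IsIntegral ℤ ((∑ χ ∈ Finset.univ.erase T,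
        (χ : G → ℂ) 1 * (χ : G → ℂ) g) / (p : ℂ)) := by
      rw [Finset.sum_div]
      refine IsIntegral.sum _ fun χ hχ => ?_
      obtain ⟨n, ρ, hρ, he⟩ := χ.2
      by_cases hd : p ∣ degree (χ : G → ℂ)
      · obtain ⟨c, hc⟩ := hd
        rw [← IsCharacter.degree_cast (IsIrrCharacter.isCharacter χ.2), hc]
        push_cast
        rw [mul_assoc, mul_div_cancel_left₀ _ (Nat.cast_ne_zero.mpr hp.ne_zero)]
        refine IsIntegral.mul ?_ (he ▸ isIntegral_character ρ g)
        exact isIntegral_algebraMap (R := ℤ) (x := (c : ℤ))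
      · simp [hcon χ (Finset.ne_of_mem_erase hχ) hd, isIntegral_zero]
    have hT : (T : G → ℂ) 1 * (T : G → ℂ) g = 1 := by simp [T]
    rw [hT] at hsum
    rw [eq_neg_of_add_eq_zero_right hsum] at hint
    have h1 : IsIntegral ℤ ((1 : ℕ) / (p : ℂ)) := by simpa [neg_div] using hint.neg
    exact hp.one_lt.ne' (Nat.dvd_one.mp (dvd_of_isIntegral_natCast_div hp.ne_zero h1))
  obtain ⟨n, ρ, hρ, hchar⟩ := χ.2
  rw [← hchar] at hχp hχg
  rw [degree_character] at hχp
  have hcop : Nat.Coprime (Module.finrank ℂ (Fin n → ℂ))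
      (Subgroup.centralizer ({g} : Set G)).index := by
    rw [hclass]
    exact Nat.Coprime.pow_right k ((hp.coprime_iff_not_dvd.mpr hχp).symm)
  obtain ⟨ω, hω⟩ := eq_smul_one_of_norm_character_eq ρ g
    ((char_eq_zero_or_norm_eq_finrank ρ g hcop).resolve_left hχg)
  have hker : (MonoidHom.ker ρ).Normal := MonoidHom.normal_ker ρ
  rcases hker.eq_bot_or_eq_top with hk | hk
  · refine card_prime_of_center_eq_top ?_
    have hgc : g ∈ Subgroup.center G := by
      rw [Subgroup.mem_center_iff]
      intro x
      have h1 : g * x * g⁻¹ * x⁻¹ ∈ MonoidHom.ker ρ := by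
        rw [MonoidHom.mem_ker]
        have hc : ρ g * ρ x = ρ x * ρ g := by rw [hω, smul_mul_assoc, one_mul, mul_smul_comm, mul_one]
        rw [map_mul, map_mul, map_mul, hc, mul_assoc (ρ x), ← map_mul, mul_inv_cancel, map_one,
          mul_one, ← map_mul, mul_inv_cancel, map_one]
      rw [hk, Subgroup.mem_bot, mul_inv_eq_one, mul_inv_eq_iff_eq_mul] at h1
      exact h1.symm
    rcases (inferInstance : (Subgroup.center G).Normal).eq_bot_or_eq_top with hz | hz
    · exact absurd (by simpa [hz] using hgc) hg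
    · exact hz
  · exfalso
    apply hχT
    have hconst : (χ : G → ℂ) = (n : ℂ) • (1 : G → ℂ) := by
      funext x
      have hx : ρ x = 1 := MonoidHom.mem_ker.mp (hk ▸ Subgroup.mem_top x)
      simp [← hchar, Representation.character, hx, LinearMap.trace_one]
    have hnorm := classInner_irr_self χ.2
    rw [hconst, classInner_smul_left, classInner_smul_right,
      classInner_irr_self isIrrCharacter_one, mul_one, map_natCast] at hnorm
    have hn : n = 1 := Nat.eq_one_of_mul_eq_one_left (m := n) (by exact_mod_cast hnorm)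
    exact Subtype.ext (by rw [hconst, hn]; simp [T])

/-- Burnside: a finite group whose order has at most two prime divisors is solvable. -/
theorem isSolvable_of_two_primes (p q : ℕ) (hp : p.Prime) (hq : q.Prime) :
    ∀ (n : ℕ) (H : Type u) [Group H] [Finite H], Nat.card H = n →
      (∀ r : ℕ, r.Prime → r ∣ n → r = p ∨ r = q) → Group.IsSolvable H := by
  intro n
  induction n using Nat.strong_induction_on with
  | _ n ih =>
    intro H _ _ hn hr
    rcases subsingleton_or_nontrivial H with hs | hnt
    · infer_instance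
    by_cases hsimple : IsSimpleGroup H
    · obtain ⟨r, hr', hrn⟩ := Nat.exists_prime_and_dvd (n := Nat.card H)
        Finite.one_lt_card.ne'
      have : Fact r.Prime := ⟨hr'⟩
      obtain ⟨P⟩ : Nonempty (Sylow r H) := inferInstance
      have hPnt : Nontrivial P :=
        (Subgroup.nontrivial_iff_ne_bot _).mpr (P.ne_bot_of_dvd_card hrn)
      have := P.2.center_nontrivial
      obtain ⟨z, hz⟩ := exists_ne (1 : Subgroup.center P)
      let z' : H := ((z : P) : H)
      have hz' : z' ≠ 1 := fun h => hz (Subtype.ext (Subtype.ext h))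
      have hle : (P : Subgroup H) ≤ Subgroup.centralizer {z'} := by
        intro x hx
        rw [Subgroup.mem_centralizer_singleton_iff]
        exact congrArg Subtype.val (Subgroup.mem_center_iff.mp z.2 ⟨x, hx⟩)
      have hnr : ¬ r ∣ (Subgroup.centralizer {z'}).index := fun h =>
        P.not_dvd_index (h.trans (Subgroup.index_dvd_of_le hle))
      have hi0 : (Subgroup.centralizer ({z'} : Set H)).index ≠ 0 := Subgroup.index_ne_zero_of_finite
      have hidvd := (Subgroup.centralizer ({z'} : Set H)).index_dvd_card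
      obtain ⟨s, hs, hpow⟩ : ∃ s : ℕ, s.Prime ∧
          ∀ d : ℕ, d.Prime → d ∣ (Subgroup.centralizer ({z'} : Set H)).index → d = s := by
        rcases hr r hr' (hn ▸ hrn) with rfl | rfl
        · exact ⟨q, hq, fun d hd hdd => (hr d hd (hn ▸ hdd.trans hidvd)).resolve_left
            (fun e => hnr (e ▸ hdd))⟩
        · exact ⟨p, hp, fun d hd hdd => (hr d hd (hn ▸ hdd.trans hidvd)).resolve_right
            (fun e => hnr (e ▸ hdd))⟩
      have hprime := card_prime_of_prime_pow_class s _ hs z' hz'
        (Nat.eq_prime_pow_of_unique_prime_dvd hi0 (fun {d} hd hdd => hpow d hd hdd))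
      have : Fact (Nat.card H).Prime := ⟨hprime⟩
      have := isCyclic_of_prime_card (α := H) rfl
      let _ : CommGroup H := IsCyclic.commGroup
      infer_instance
    · obtain ⟨N, hN, hNb, hNt⟩ : ∃ N : Subgroup H, N.Normal ∧ N ≠ ⊥ ∧ N ≠ ⊤ := by
        by_contra hcon
        push Not at hcon
        exact hsimple ⟨fun N hN => or_iff_not_imp_left.mpr (hcon N hN)⟩
      have hmul : Nat.card (H ⧸ N) * Nat.card N = n := by
        rw [← hn]; exact (Subgroup.card_eq_card_quotient_mul_card_subgroup N).symm
      have h2 : 1 < Nat.card N := N.one_lt_card_iff_ne_bot.mpr hNb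
      have h3 : 1 < Nat.card (H ⧸ N) := Subgroup.one_lt_index_of_ne_top hNt
      have hN' : Group.IsSolvable N := ih (Nat.card N) (by nlinarith) N rfl fun r hr1 hr2 =>
        hr r hr1 (hr2.trans (hmul ▸ dvd_mul_left _ _))
      have hQ' : Group.IsSolvable (H ⧸ N) :=
        ih (Nat.card (H ⧸ N)) (by nlinarith) (H ⧸ N) rfl fun r hr1 hr2 =>
          hr r hr1 (hr2.trans (hmul ▸ dvd_mul_right _ _))
      exact Group.isSolvable_of_ker_le_range N.subtype (QuotientGroup.mk' N) (by simp)

/-- Burnside's `p^a q^b` theorem. -/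
theorem isSolvable_of_card_eq_prime_pow_mul [Finite G] {p q a b : ℕ} (hp : p.Prime) (hq : q.Prime)
    (hcard : Nat.card G = p ^ a * q ^ b) : Group.IsSolvable G :=
  isSolvable_of_two_primes p q hp hq _ G hcard fun r hr hdvd => by
    rcases hr.dvd_mul.mp hdvd with h | h
    · exact Or.inl ((Nat.prime_dvd_prime_iff_eq hr hp).mp (hr.dvd_of_dvd_pow h))
    · exact Or.inr ((Nat.prime_dvd_prime_iff_eq hr hq).mp (hr.dvd_of_dvd_pow h))

end CfsgLib.Char
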