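import Cfsg.Agent.Lib.Char.Complete
import Cfsg.Agent.Lib.Char.Integral
import Cfsg.Agent.Lib.Char.Linear

/-!
Characters of a group over a linear character of a central subgroup.
-/

set_option autoImplicit false

open scoped ComplexConjugate

namespace CfsgLib.CharOver

universe u

variable {G : Type u} [Group G]

/-- A central element acts by a scalar in an irreducible representation. -/
theorem apply_mul_central [Finite G] {χ : G → ℂ} (hχ : Cfsg.IsIrrCharacter G χ) {z : G}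
    (hz : z ∈ Subgroup.center G) (g : G) : χ (g * z) * χ 1 = χ g * χ z := by
  obtain ⟨n, ρ, hρ, rfl⟩ := hχ
  obtain ⟨c, hc⟩ := CfsgLib.Char.exists_scalar_of_commute ρ (ρ z) fun h => by
    rw [← map_mul, ← map_mul, Subgroup.mem_center_iff.1 hz h]
  have h : ∀ x : G, ρ.character (x * z) = c * ρ.character x := by
    intro x
    simp [Representation.character, map_mul, hc]
  have h1 := h 1
  rw [one_mul] at h1
  rw [h g, h1]
  ring

/-- An irreducible character of an abelian group has degree one and is multiplicative. -/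
theorem abelian_irr [Fintype G] (hab : ∀ a b : G, a * b = b * a) {ψ : G → ℂ}
    (hψ : Cfsg.IsIrrCharacter G ψ) :
    ψ 1 = 1 ∧ (∀ a b : G, ψ (a * b) = ψ a * ψ b) ∧ ∀ a : G, conj (ψ a) = ψ a⁻¹ ∧ ψ a ≠ 0 := by
  have hm : ∀ a b : G, ψ (a * b) * ψ 1 = ψ a * ψ b := fun a b =>
    apply_mul_central hψ (Subgroup.mem_center_iff.2 fun x => hab x b) a
  have hconj : ∀ a : G, ψ a⁻¹ = conj (ψ a) :=
    fun a => CfsgLib.Char.IsIrrCharacter.apply_inv hψ a
  have hd := (CfsgLib.Char.IsCharacter.degree_cast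
    (CfsgLib.Char.IsIrrCharacter.isCharacter hψ))
  set d := CfsgLib.Char.degree ψ
  have hsum : Cfsg.classInner ψ ψ = (d : ℂ) * d := by
    have : ∀ a : G, ψ a * conj (ψ a) = (d : ℂ) * d := by
      intro a
      rw [← hconj, ← hm, mul_inv_cancel, hd]
    simp [Cfsg.classInner, this, Finset.card_univ, Nat.card_eq_fintype_card]
  rw [CfsgLib.Char.classInner_irr_self hψ] at hsum
  have hd1 : d = 1 := Nat.eq_one_of_mul_eq_one_right (by exact_mod_cast hsum.symm : d * d = 1)
  rw [hd1, Nat.cast_one] at hd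
  refine ⟨hd.symm, fun a b => by have := hm a b; rwa [← hd, mul_one] at this,
    fun a => ⟨(hconj a).symm, fun h0 => ?_⟩⟩
  have := hm a a⁻¹
  rw [mul_inv_cancel, h0, zero_mul, ← hd, mul_one] at this
  exact one_ne_zero this

variable [Fintype G] (N : Subgroup G) [Fintype N]

/-- The class functions shifting by `ψ` under translation by `N`. -/
def Shifts (ψ : N → ℂ) (f : G → ℂ) : Prop :=
  ∀ (g : G) (n : N), f (g * n) = ψ n * f g

theorem central_comm (hN : N ≤ Subgroup.center G) (a b : N) : a * b = b * a :=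
  Subtype.ext ((Subgroup.mem_center_iff.1 (hN b.2) a))

theorem classInner_ne_zero_iff (hN : N ≤ Subgroup.center G) (ψ : Cfsg.IrrCharacter N)
    (χ : Cfsg.IrrCharacter G) :
    Cfsg.classInner (fun n : N => (χ : G → ℂ) n) (ψ : N → ℂ) ≠ 0 ↔
      Shifts N (ψ : N → ℂ) (χ : G → ℂ) := by
  obtain ⟨h1, hm, hc⟩ := abelian_irr (central_comm N hN) ψ.2
  have hd0 : (χ : G → ℂ) 1 ≠ 0 := CfsgLib.Char.IsIrrCharacter.apply_one_ne_zero χ.2
  have hmul : ∀ (g : G) (n : N), (χ : G → ℂ) (g * n) * (χ : G → ℂ) 1 =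
      (χ : G → ℂ) g * (χ : G → ℂ) n := fun g n => apply_mul_central χ.2 (hN n.2) g
  constructor
  · intro hne
    have key : ∀ m : N, (χ : G → ℂ) m = (ψ : N → ℂ) m * (χ : G → ℂ) 1 := by
      intro m
      by_contra hm'
      apply hne
      set s := Cfsg.classInner (fun n : N => (χ : G → ℂ) n) (ψ : N → ℂ) with hs
      have h2 : (χ : G → ℂ) m * s = ((ψ : N → ℂ) m * (χ : G → ℂ) 1) * s := by
        rw [hs, Cfsg.classInner]
        simp only [Finset.mul_sum]
        refine Fintype.sum_equiv (Equiv.mulRight m) _ _ fun n => ?_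
        simp only [Equiv.coe_mulRight]
        rw [hm n m, map_mul, (hc m).1]
        have e1 := hmul n m
        have e2 : (ψ : N → ℂ) m * (ψ : N → ℂ) m⁻¹ = 1 := by
          rw [← hm, mul_inv_cancel, h1]
        rw [Subgroup.coe_mul]
        linear_combination (-((Nat.card N : ℂ)⁻¹ * (starRingEnd ℂ) ((ψ : N → ℂ) n)
          * (ψ : N → ℂ) m * (ψ : N → ℂ) m⁻¹)) * e1
          - ((Nat.card N : ℂ)⁻¹ * (χ : G → ℂ) n * (starRingEnd ℂ) ((ψ : N → ℂ) n)
              * (χ : G → ℂ) m) * e2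
      rcases mul_eq_mul_right_iff.1 h2 with h | h
      · exact absurd h hm'
      · exact h
    intro g n
    have e1 := hmul g n
    rw [key n] at e1
    exact mul_right_cancel₀ hd0 (by rw [e1]; ring)
  · intro hs
    have : (fun n : N => (χ : G → ℂ) n) = (χ : G → ℂ) 1 • (ψ : N → ℂ) := by
      funext n
      have := hs 1 n
      rw [one_mul] at this
      rw [this, Pi.smul_apply, smul_eq_mul, mul_comm]
    rw [this, CfsgLib.Char.classInner_smul_left, CfsgLib.Char.classInner_irr_self ψ.2, mul_one]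
    exact hd0

/-- A shifting class function vanishes at an element with a nontrivial commutator in `N`. -/
theorem Shifts.eq_zero (hN : N ≤ Subgroup.center G) (ψ : Cfsg.IrrCharacter N)
    (hfaith : ∀ n : N, (ψ : N → ℂ) n = (ψ : N → ℂ) 1 → n = 1) {f : G → ℂ}
    (hf : Cfsg.IsClassFunction G f) (hs : Shifts N (ψ : N → ℂ) f) (g x : G)
    (hcomm : x⁻¹ * g⁻¹ * x * g ∈ N) (hne : x⁻¹ * g⁻¹ * x * g ≠ 1) : f g = 0 := by
  obtain ⟨h1, -, -⟩ := abelian_irr (central_comm N hN) ψ.2
  set n : N := ⟨_, N.inv_mem hcomm⟩ with hn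
  have e : x⁻¹ * g * x = g * (n : G) := by rw [hn]; group
  have h2 : f g = (ψ : N → ℂ) n * f g := by
    rw [← hs, ← e]
    have := hf g x⁻¹
    rw [inv_inv] at this
    exact this.symm
  by_contra h0
  have h3 : (ψ : N → ℂ) n = (ψ : N → ℂ) 1 := by
    rw [h1]
    exact mul_right_cancel₀ h0 (by rw [one_mul]; exact h2.symm)
  have h4 := congrArg (fun z : N => (z : G)) (hfaith n h3)
  apply hne
  exact inv_eq_one.1 h4

/-- The characters over `ψ` span the shifting class functions. -/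
theorem Shifts.expand (hN : N ≤ Subgroup.center G) (ψ : Cfsg.IrrCharacter N) {f : G → ℂ}
    (hs : Shifts N (ψ : N → ℂ) f) (χ : Cfsg.IrrCharacter G)
    (hχ : ¬ Shifts N (ψ : N → ℂ) (χ : G → ℂ)) : Cfsg.classInner f (χ : G → ℂ) = 0 := by
  obtain ⟨h1, hm, hc⟩ := abelian_irr (central_comm N hN) ψ.2
  have hd0 : (χ : G → ℂ) 1 ≠ 0 := CfsgLib.Char.IsIrrCharacter.apply_one_ne_zero χ.2
  obtain ⟨n, hn⟩ : ∃ n : N, (χ : G → ℂ) n ≠ (ψ : N → ℂ) n * (χ : G → ℂ) 1 := by
    by_contra hall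
    refine hχ fun g n => ?_
    have e1 := apply_mul_central χ.2 (hN n.2) g
    rw [not_not.1 (fun h => hall ⟨n, h⟩)] at e1
    exact mul_right_cancel₀ hd0 (by rw [e1]; ring)
  set s := Cfsg.classInner f (χ : G → ℂ) with hdef
  have h2 : (ψ : N → ℂ) n * (χ : G → ℂ) (n⁻¹ : N) * s = (χ : G → ℂ) 1 * s := by
    rw [hdef, Cfsg.classInner]
    simp only [Finset.mul_sum]
    refine Fintype.sum_equiv (Equiv.mulRight (n : G)) _ _ fun g => ?_
    simp only [Equiv.coe_mulRight]
    rw [hs g n, ← CfsgLib.Char.IsIrrCharacter.apply_inv χ.2,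
      ← CfsgLib.Char.IsIrrCharacter.apply_inv χ.2, mul_inv_rev]
    have e1 := apply_mul_central χ.2 (N.inv_mem n.2 |> fun h => hN h) g⁻¹
    rw [show (n : G)⁻¹ * g⁻¹ = g⁻¹ * (n : G)⁻¹ from
      (Subgroup.mem_center_iff.1 (hN (N.inv_mem n.2)) g⁻¹).symm]
    rw [Subgroup.coe_inv]
    linear_combination (-((Nat.card G : ℂ)⁻¹ * f g * (ψ : N → ℂ) n)) * e1
  rcases mul_eq_mul_right_iff.1 h2 with h | h
  · exfalso
    apply hn
    have e2 := apply_mul_central χ.2 (hN n.2) ((n : G)⁻¹)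
    rw [inv_mul_cancel] at e2
    rw [Subgroup.coe_inv] at h
    calc (χ : G → ℂ) n = (χ : G → ℂ) n * ((ψ : N → ℂ) n * (χ : G → ℂ) (n : G)⁻¹) / (χ : G → ℂ) 1 := by
          rw [h, mul_div_assoc, div_self hd0, mul_one]
      _ = (ψ : N → ℂ) n * (χ : G → ℂ) 1 := by
          rw [div_eq_iff hd0]
          linear_combination (-(ψ : N → ℂ) n) * e2
  · exact h

end CfsgLib.CharOver
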