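import Cfsg.Agent.Lib.Char.Complete
import Cfsg.Agent.Lib.Char.Integral
import Cfsg.Agent.Lib.Blocks.GroupTrace
import Cfsg.Agent.Lib.Blocks.Local
import Mathlib.RingTheory.RootsOfUnity.Complex

/-!
# Characters of `p`-defect zero

If the `p`-part of the group order divides the degree of an irreducible character, then the
idempotent of this character has `p`-local integral coefficients, and the trace lemma for
idempotents of group rings shows that the character vanishes at the `p`-singular elements.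
-/

set_option autoImplicit false

namespace CfsgLib.Char

open Cfsg CfsgLib.Blocks

universe u v

variable {G : Type u} [Group G] {V : Type v} [AddCommGroup V] [Module ℂ V]
  [FiniteDimensional ℂ V]

/-- A maximal ideal of the algebraic integers containing a given prime exists. -/
theorem exists_pModular {p : ℕ} (hp : p.Prime) : ∃ M : Ideal AlgInt, IsPModular p M := by
  have hne : Ideal.span {(p : AlgInt)} ≠ ⊤ := by
    rw [Ne, Ideal.span_singleton_eq_top]
    intro hu
    obtain ⟨b, hb⟩ := hu.exists_right_inv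
    have hb' : (b : ℂ) = ((1 : ℕ) : ℂ) / (p : ℂ) := by
      have h := congrArg Subtype.val hb
      push_cast at h ⊢
      rw [eq_div_iff (Nat.cast_ne_zero.mpr hp.ne_zero), mul_comm]
      exact h
    exact hp.one_lt.ne' (Nat.dvd_one.mp
      (dvd_of_isIntegral_natCast_div hp.ne_zero (hb' ▸ b.2)))
  obtain ⟨M, hM, hle⟩ := Ideal.exists_le_maximal _ hne
  exact ⟨M, hp, hM, hle (Ideal.subset_span rfl)⟩

/-- The character idempotent: convolution square of a character. -/
theorem sum_char_inv_mul_char [Fintype G] (ρ : Representation ℂ G V) [ρ.IsIrreducible] (h : G) :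
    ∑ g, ρ.character g⁻¹ * ρ.character (g * h) =
      (Nat.card G : ℂ) / (Module.finrank ℂ V : ℂ) * ρ.character h := by
  obtain ⟨c, hc, hc'⟩ := exists_scalar_sum_smul ρ (fun g => ρ.character g⁻¹) (fun g x => by
    rw [show (x * g * x⁻¹)⁻¹ = x * g⁻¹ * x⁻¹ by group, ρ.char_conj])
  rw [sum_char_mul_char_inv] at hc'
  have hd : (Module.finrank ℂ V : ℂ) ≠ 0 :=
    Nat.cast_ne_zero.mpr (CfsgLib.Char.finrank_pos_of_irreducible ρ).ne'
  have h1 := congrArg (fun T : V →ₗ[ℂ] V => LinearMap.trace ℂ V (T * ρ h)) hc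
  simp only [Finset.sum_mul, map_sum, smul_mul_assoc, map_smul, ← map_mul, one_mul,
    smul_eq_mul] at h1
  rw [← hc', mul_div_cancel_right₀ _ hd]
  exact h1

/-- An irreducible character of `p`-defect zero vanishes on `p`-singular elements. -/
theorem character_eq_zero_of_defect_zero [Finite G] (ρ : Representation ℂ G V) [ρ.IsIrreducible]
    {p n : ℕ} (hp : p.Prime) (hn : p ^ n ∣ Nat.card G) (hn' : ¬ p ^ (n + 1) ∣ Nat.card G)
    (hdeg : p ^ n ∣ Module.finrank ℂ V) (x : G) (hx : p ∣ orderOf x) : ρ.character x = 0 := by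
  classical
  have := Fintype.ofFinite G
  obtain ⟨M, hM⟩ := exists_pModular hp
  have hmax := isMaximal_of_isPModular hM
  have hmem := natCast_mem_of_isPModular hM
  have := hmax.isPrime
  obtain ⟨m, hm⟩ := hn
  obtain ⟨a, ha⟩ := hdeg
  have hmp : ¬ p ∣ m := fun ⟨t, ht⟩ => hn' ⟨t, by rw [hm, ht, pow_succ, mul_assoc]⟩
  have hd : (Module.finrank ℂ V : ℂ) ≠ 0 :=
    Nat.cast_ne_zero.mpr (CfsgLib.Char.finrank_pos_of_irreducible ρ).ne'
  have hG : (Nat.card G : ℂ) ≠ 0 := Nat.cast_ne_zero.mpr Nat.card_pos.ne'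
  set q : ℂ := (Module.finrank ℂ V : ℂ) / (Nat.card G : ℂ) with hq
  have hqloc : q ∈ locRing M := by
    refine ⟨(a : AlgInt), (m : AlgInt), fun hmM => ?_, ?_⟩
    · have hco : IsCoprime (p : ℤ) (m : ℤ) :=
        Nat.Coprime.isCoprime (hp.coprime_iff_not_dvd.mpr hmp)
      obtain ⟨u, v, huv⟩ := hco
      refine hmax.ne_top ((Ideal.eq_top_iff_one M).mpr ?_)
      rw [show (1 : AlgInt) = (u : AlgInt) * (p : AlgInt) + (v : AlgInt) * (m : AlgInt) by
        exact_mod_cast huv.symm]
      exact add_mem (M.mul_mem_left _ hmem) (M.mul_mem_left _ hmM)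
    · rw [hq, ha, hm]
      push_cast
      rw [mul_div_mul_left _ _ (pow_ne_zero n (Nat.cast_ne_zero.mpr hp.ne_zero))]
  let e : G → locRing M := fun g => ⟨q * ρ.character g⁻¹, mul_mem hqloc
    (isIntegral_mem_locRing (isIntegral_character ρ g⁻¹))⟩
  have hee : ∀ g, ∑ y, e y * e (y⁻¹ * g) = e g := by
    intro g
    refine Subtype.ext ?_
    simp only [e, AddSubmonoidClass.coe_finsetSum, MulMemClass.coe_mul]
    have h1 := sum_char_inv_mul_char ρ g⁻¹
    have h2 : ∑ y, q * ρ.character y⁻¹ * (q * ρ.character (y⁻¹ * g)⁻¹) =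
        q * q * ∑ y, ρ.character y⁻¹ * ρ.character (y * g⁻¹) := by
      rw [Finset.mul_sum]
      refine Finset.sum_congr rfl fun y _ => ?_
      rw [show (y⁻¹ * g)⁻¹ = g⁻¹ * y by group, ρ.char_mul_comm y g⁻¹]
      ring
    rw [h2, h1, hq]
    field_simp
  obtain ⟨η, hη⟩ : ∃ η : ℂ, IsPrimitiveRoot η p :=
    ⟨_, Complex.isPrimitiveRoot_exp p hp.ne_zero⟩
  let η' : locRing M := ⟨η, isIntegral_mem_locRing ⟨Polynomial.X ^ p - 1, Polynomial.monic_X_pow_sub_C 1 hp.ne_zero, by simp [hη.pow_eq_one]⟩⟩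
  have hη' : η' ^ p = 1 := Subtype.ext hη.pow_eq_one
  have hsum := sum_conj_coeff_eq_zero (red M) (fun r hr => isUnit_of_red_ne_zero hr) hp
    (η := η') hη' (fun h => hη.ne_one hp.one_lt (congrArg Subtype.val h))
    (red_eq_one_of_pow_prime_pow (k := 1) hp hmem (by rwa [pow_one])) e hee 1 x (fun g => by simp)
    (fun z w hz hw hwz => by
      exfalso
      obtain ⟨y, hy, -, ⟨i, hi⟩, hpy⟩ := hz
      have hzy : z⁻¹ = y := inv_eq_of_mul_eq_one_right hy
      rw [← hzy, orderOf_inv, hi] at hpy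
      have hi0 : i = 0 := by
        by_contra h0
        exact hpy (dvd_pow_self p h0)
      rw [hi0, pow_zero, orderOf_eq_one_iff] at hi
      rw [hi, inv_one, isConj_one_left] at hwz
      obtain ⟨y', hy', -, -, hpy'⟩ := hw
      rw [hwz, one_mul] at hy'
      exact hpy' (hy' ▸ hx))
  have hval : ∀ y : G, e ((1 : G)⁻¹ * y⁻¹ * x⁻¹ * y) = e x⁻¹ := by
    intro y
    refine Subtype.ext ?_
    simp only [e, inv_one, one_mul, inv_inv]
    rw [show (y⁻¹ * x⁻¹ * y)⁻¹ = y⁻¹ * x * (y⁻¹)⁻¹ by group, ρ.char_conj]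
  rw [Finset.sum_congr rfl fun y _ => hval y, Finset.sum_const, Finset.card_univ] at hsum
  have h3 := congrArg Subtype.val hsum
  simp only [nsmul_eq_mul, MulMemClass.coe_mul, SubringClass.coe_natCast, ZeroMemClass.coe_zero,
    e, inv_inv, mul_eq_zero] at h3
  rcases h3 with h3 | h3 | h3
  · exact absurd h3 (Nat.cast_ne_zero.mpr Fintype.card_ne_zero)
  · exact absurd h3 (div_ne_zero hd hG)
  · exact h3

end CfsgLib.Char
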