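import Cfsg.Agent.Lib.Char.Clifford
import Cfsg.Agent.Lib.Char.CentralOver
import Cfsg.Agent.Lib.Char.Integral
import Cfsg.Agent.S0179

/-!
# Itô's theorem on character degrees
-/

set_option autoImplicit false

namespace CfsgLib.Char

universe u v

/-- The degree divides the index of a subgroup acting by scalars. -/
theorem finrank_dvd_index_of_scalar {T : Type u} [Group T] [Finite T] {V : Type v}
    [AddCommGroup V] [Module ℂ V] [FiniteDimensional ℂ V] (ρ : Representation ℂ T V)
    [ρ.IsIrreducible] (B : Subgroup T) (hB : ∀ b ∈ B, ∃ c : ℂ, ρ b = c • (1 : V →ₗ[ℂ] V)) :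
    Module.finrank ℂ V ∣ B.index := by
  classical
  let φ := ρ.asGroupHom
  have : Finite φ.range := Finite.of_surjective φ.rangeRestrict φ.rangeRestrict_surjective
  let σ : Representation ℂ φ.range V := (Units.coeHom _).comp φ.range.subtype
  have hirr : σ.IsIrreducible := by
    have := CharKernel.nontrivial_of_irreducible ρ
    exact CharKernel.isIrreducible_of_forall σ fun W hW =>
      CharKernel.eq_bot_or_eq_top ρ W (fun g v hv => by
        have := hW ⟨φ g, ⟨g, rfl⟩⟩ v hv
        simpa [σ, φ, Representation.asGroupHom_apply] using! this)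
  refine (Cfsg.Agent.S0179.result σ).trans ?_
  have hle : B.map φ.rangeRestrict ≤ Subgroup.center φ.range := by
    rintro _ ⟨b, hb, rfl⟩
    rw [Subgroup.mem_center_iff]
    intro y
    obtain ⟨x, rfl⟩ := φ.rangeRestrict_surjective y
    obtain ⟨c, hc⟩ := hB b hb
    refine Subtype.ext (Units.ext ?_)
    show ρ x * ρ b = ρ b * ρ x
    rw [hc, smul_mul_assoc, one_mul, mul_smul_comm, mul_one]
  exact (Subgroup.index_dvd_of_le hle).trans (Subgroup.index_map_dvd _ φ.rangeRestrict_surjective)

/-- Itô: the degree of an irreducible representation divides the index of an abelian normal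
subgroup. -/
theorem finrank_dvd_index_of_abelian_normal {G : Type u} [Group G] [Finite G] {V : Type v}
    [AddCommGroup V] [Module ℂ V] [FiniteDimensional ℂ V] (ρ : Representation ℂ G V)
    [ρ.IsIrreducible] (A : Subgroup G) [A.Normal] (hA : ∀ a ∈ A, ∀ b ∈ A, a * b = b * a) :
    Module.finrank ℂ V ∣ A.index := by
  classical
  have := Fintype.ofFinite G
  have hχ := isIrrCharacter_character ρ
  obtain ⟨θ, hθ, hc⟩ := Clifford.exists_constituent_res A hχ
  obtain ⟨hθ1, hθmul, hθne⟩ :=
    CharOver.abelian_irr (G := A) (fun a b => Subtype.ext (hA a a.2 b b.2)) hθ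
  let T : Subgroup G := CharTwist.inertia A θ
  have hAT : A ≤ T := CharTwist.le_inertia A (IsIrrCharacter.isClassFunction hθ)
  have hT : ∀ g : G, g ∈ T ↔ CharTwist.conjFun A θ g = θ := fun g => Iff.rfl
  obtain ⟨ψ, hψ, hind, hψe⟩ := Clifford.exists_indFun_eq A T hAT hθ hT hχ hc
  obtain ⟨n, σ, hσ, rfl⟩ := hψ
  have hfix : ∀ t ∈ T, CharTwist.conjFun A θ t = θ := fun t ht => (hT t).mp ht
  have hres := Clifford.res_eq_smul_of_fixed A T hAT hθ hfix ⟨n, σ, hσ, rfl⟩ (hψe ▸ hc)
  have hdeg : ∀ a : A, σ.character ⟨a, hAT a.2⟩ = σ.character 1 * θ a := by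
    intro a
    have h1 := congrFun hres 1
    have h2 := congrFun hres a
    simp only [Pi.smul_apply, smul_eq_mul, hθ1, mul_one] at h1 h2
    rw [h2, ← h1]
    rfl
  have hnorm : ∀ a : A, ‖θ a‖ = 1 := by
    intro a
    obtain ⟨f, hf⟩ : ∃ f : A →* ℂ, ∀ x, f x = θ x :=
      ⟨⟨⟨θ, hθ1⟩, hθmul⟩, fun _ => rfl⟩
    refine Complex.norm_eq_one_of_pow_eq_one ?_ (orderOf_pos a).ne'
    rw [← hf, ← map_pow, pow_orderOf_eq_one, map_one]
  have hscal : ∀ b ∈ A.subgroupOf T, ∃ c : ℂ, σ b = c • (1 : (Fin n → ℂ) →ₗ[ℂ] Fin n → ℂ) := by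
    intro b hb
    refine eq_smul_one_of_norm_character_eq σ b ?_
    have hb' := hdeg ⟨(b : G), Subgroup.mem_subgroupOf.mp hb⟩
    rw [show σ.character b = σ.character 1 * θ ⟨(b : G), Subgroup.mem_subgroupOf.mp hb⟩ from hb',
      norm_mul, hnorm, mul_one, Representation.char_one, Complex.norm_natCast]
  have h1 := finrank_dvd_index_of_scalar σ (A.subgroupOf T) hscal
  have h2 := congrFun hind 1
  rw [indFun_apply_one, Representation.char_one, Representation.char_one] at h2
  have h3 : T.index * Module.finrank ℂ (Fin n → ℂ) = Module.finrank ℂ V := by exact_mod_cast h2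
  rw [← h3, ← Subgroup.relIndex_mul_index hAT, mul_comm (A.relIndex T)]
  exact mul_dvd_mul_left _ h1

end CfsgLib.Char
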