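import Cfsg.Agent.Lib.Char.Clifford

/-!
# Clifford correspondence over a group containing the inertia group
-/

set_option autoImplicit false
set_option maxHeartbeats 1000000
set_option synthInstance.maxHeartbeats 400000

namespace CfsgLib.CliffordOver

open CfsgLib.CharTwist
open scoped Classical

universe u

variable {G : Type u} [Group G] (N T : Subgroup G) [hN : N.Normal] (hNT : N ≤ T)

/-- A function on `N` seen on `N` inside `T`. -/
noncomputable def trans (θ : N → ℂ) : N.subgroupOf T → ℂ :=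
  θ ∘ Subgroup.subgroupOfEquivOfLe hNT

omit hN in
theorem isIrrCharacter_trans {θ : N → ℂ} (hθ : Cfsg.IsIrrCharacter N θ) :
    Cfsg.IsIrrCharacter (N.subgroupOf T) (trans N T hNT θ) :=
  isIrrCharacter_comp_equiv hθ _

omit hN in
theorem classInner_trans [Fintype N] [Fintype (N.subgroupOf T)] (ψ : T → ℂ) (θ : N → ℂ) :
    Cfsg.classInner (fun n : N.subgroupOf T => ψ n) (trans N T hNT θ) =
      Cfsg.classInner (fun n : N => ψ ⟨n, hNT n.2⟩) θ := by
  have hres : (fun n : N.subgroupOf T => ψ n) =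
      (fun n : N => ψ ⟨n, hNT n.2⟩) ∘ Subgroup.subgroupOfEquivOfLe hNT := by
    funext n
    exact congrArg ψ (Subtype.ext rfl)
  rw [trans, hres, CfsgLib.Clifford.classInner_comp_equiv]

theorem inertia_trans (θ : N → ℂ) :
    inertia (N.subgroupOf T) (trans N T hNT θ) = (inertia N θ).subgroupOf T := by
  ext t
  rw [Subgroup.mem_subgroupOf, mem_inertia, mem_inertia]
  constructor
  · intro h
    funext n
    refine Eq.trans (congrArg θ (Subtype.ext ?_))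
      (Eq.trans (congrFun h ((Subgroup.subgroupOfEquivOfLe hNT).symm n))
        (congrArg θ (Subtype.ext ?_)))
    · simp
    · simp
  · intro h
    funext n
    exact Eq.trans (congrArg θ (Subtype.ext (by simp)))
      (congrFun h (Subgroup.subgroupOfEquivOfLe hNT n))

variable [Fintype G] [Fintype N] [Fintype T] {θ : N → ℂ} (hθ : Cfsg.IsIrrCharacter N θ)

include hθ

/-- The degree formula inside a subgroup containing `N`. -/
theorem apply_one_eq {ψ : T → ℂ} (hψ : Cfsg.IsIrrCharacter T ψ)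
    (hc : Cfsg.classInner (fun n : N => ψ ⟨n, hNT n.2⟩) θ ≠ 0) :
    ψ 1 = Cfsg.classInner (fun n : N => ψ ⟨n, hNT n.2⟩) θ *
      ((inertia N θ).relIndex T : ℂ) * θ 1 := by
  haveI := Fintype.ofFinite (N.subgroupOf T)
  rw [← classInner_trans N T hNT] at hc ⊢
  have h := CfsgLib.Clifford.apply_one_eq (N.subgroupOf T) hψ
    (isIrrCharacter_trans N T hNT hθ) hc
  rw [inertia_trans] at h
  rw [h]
  congr 1

variable (hI : inertia N θ ≤ T)

include hI

/-- An irreducible constituent of the induced character is all of it. -/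
theorem indFun_eq_of_constituent {ψ : T → ℂ} (hψ : Cfsg.IsIrrCharacter T ψ)
    (hc : Cfsg.classInner (fun n : N => ψ ⟨n, hNT n.2⟩) θ ≠ 0) {χ : G → ℂ}
    (hχ : Cfsg.IsIrrCharacter G χ) (hψχ : Cfsg.classInner (fun t : T => χ t) ψ ≠ 0) :
    Cfsg.indFun T ψ = χ ∧ Cfsg.classInner (fun n : N => ψ ⟨n, hNT n.2⟩) θ =
        Cfsg.classInner (fun n : N => χ n) θ ∧
      ∀ ψ' : T → ℂ, Cfsg.IsIrrCharacter T ψ' →
        Cfsg.classInner (fun n : N => ψ' ⟨n, hNT n.2⟩) θ ≠ 0 →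
        Cfsg.classInner (fun t : T => χ t) ψ' ≠ 0 → ψ' = ψ := by
  have hresT := CfsgLib.Clifford.isCharacter_res (Char.IsIrrCharacter.isCharacter hχ) T
  obtain ⟨a, ha⟩ := Char.IsCharacter.exists_nat_combination hresT
  choose b hb using fun φ : Cfsg.IrrCharacter T => Char.IsCharacter.exists_nat_classInner
    (isCharacter_comp (Char.IsIrrCharacter.isCharacter φ.2) (Subgroup.inclusion hNT)) hθ
  have hb' : ∀ φ : Cfsg.IrrCharacter T,
      Cfsg.classInner (fun n : N => (φ : T → ℂ) ⟨n, hNT n.2⟩) θ = (b φ : ℂ) := fun φ => hb φ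
  obtain ⟨E, hE⟩ := Char.IsCharacter.exists_nat_classInner
    (CfsgLib.Clifford.isCharacter_res (Char.IsIrrCharacter.isCharacter hχ) N) hθ
  have hEsum : E = ∑ φ, a φ * b φ := by
    have e : (fun n : N => χ n) = ∑ φ : Cfsg.IrrCharacter T,
        (a φ : ℂ) • (fun n : N => (φ : T → ℂ) ⟨n, hNT n.2⟩) := by
      funext n
      have := congrFun ha ⟨n, hNT n.2⟩
      simpa [Finset.sum_apply] using this
    have h := hE
    rw [e, Char.classInner_sum_left] at h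
    simp only [Char.classInner_smul_left, hb'] at h
    exact_mod_cast h.symm
  have haval : ∀ φ : Cfsg.IrrCharacter T,
      Cfsg.classInner (fun t : T => χ t) φ = (a φ : ℂ) := by
    intro φ
    rw [ha, Char.classInner_sum_smul_irr]
  have ha0 : a ⟨ψ, hψ⟩ ≠ 0 := fun h => hψχ (by
    rw [haval ⟨ψ, hψ⟩, h, Nat.cast_zero])
  have hb0 : b ⟨ψ, hψ⟩ ≠ 0 := fun h => hc (by rw [hb' ⟨ψ, hψ⟩, h, Nat.cast_zero])
  have hle : a ⟨ψ, hψ⟩ * b ⟨ψ, hψ⟩ ≤ E := hEsum ▸ Finset.single_le_sum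
    (f := fun φ => a φ * b φ) (fun _ _ => Nat.zero_le _) (Finset.mem_univ _)
  have hEne : Cfsg.classInner (fun n : N => χ n) θ ≠ 0 := by
    rw [hE]
    refine Nat.cast_ne_zero.mpr fun h => ?_
    have := Nat.mul_pos (Nat.pos_of_ne_zero ha0) (Nat.pos_of_ne_zero hb0)
    omega
  set r := (inertia N θ).relIndex T with hr
  have hrT : r * T.index = (inertia N θ).index := Subgroup.relIndex_mul_index hI
  have hr0 : r ≠ 0 := fun h => Subgroup.index_ne_zero_of_finite (H := inertia N θ)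
    (by rw [← hrT, h, zero_mul])
  obtain ⟨d, hd0, hd⟩ := Char.IsIrrCharacter.exists_degree hθ
  have hχ1 : χ 1 = ((E * T.index * (r * d) : ℕ) : ℂ) := by
    rw [CfsgLib.Clifford.apply_one_eq N hχ hθ hEne, ← hrT, hE, hd]; push_cast; ring
  have hψ1 : ψ 1 = ((b ⟨ψ, hψ⟩ * (r * d) : ℕ) : ℂ) := by
    rw [apply_one_eq N T hNT hθ hψ hc, hd, hb' ⟨ψ, hψ⟩, ← hr]
    push_cast; ring
  have hInd : Cfsg.IsCharacter G (Cfsg.indFun T ψ) :=
    Char.IsCharacter.indFun T (Char.IsIrrCharacter.isCharacter hψ)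
  obtain ⟨m, hm⟩ := Char.IsCharacter.exists_nat_combination hInd
  have hmχ : (m ⟨χ, hχ⟩ : ℂ) = (a ⟨ψ, hψ⟩ : ℂ) := by
    rw [← Char.classInner_sum_smul_irr (fun φ => (m φ : ℂ)) ⟨χ, hχ⟩, ← hm,
      Char.classInner_indFun T ψ χ (Char.IsIrrCharacter.isClassFunction hχ),
      ← Char.classInner_conj_symm, haval ⟨ψ, hψ⟩, map_natCast]
  have hmχ' : m ⟨χ, hχ⟩ = a ⟨ψ, hψ⟩ := by exact_mod_cast hmχ
  choose deg hdeg0 hdeg using fun φ : Cfsg.IrrCharacter G => Char.IsIrrCharacter.exists_degree φ.2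
  have hdχ : deg ⟨χ, hχ⟩ = E * T.index * (r * d) := by
    have := (hdeg ⟨χ, hχ⟩).symm.trans hχ1
    exact_mod_cast this
  have htot : b ⟨ψ, hψ⟩ * (r * d) * T.index = ∑ φ, m φ * deg φ := by
    have h := congrFun hm 1
    rw [Char.indFun_apply_one, hψ1] at h
    simp only [Finset.sum_apply, Pi.smul_apply, smul_eq_mul, hdeg] at h
    have h' : T.index * (b ⟨ψ, hψ⟩ * (r * d)) = ∑ φ, m φ * deg φ := by exact_mod_cast h
    rw [← h', mul_comm]
  rw [← Finset.add_sum_erase _ _ (Finset.mem_univ (⟨χ, hχ⟩ : Cfsg.IrrCharacter G)), hmχ', hdχ]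
    at htot
  have hidx : 0 < T.index * (r * d) := Nat.mul_pos
    (Nat.pos_of_ne_zero Subgroup.index_ne_zero_of_finite)
    (Nat.mul_pos (Nat.pos_of_ne_zero hr0) hd0)
  have h1 : a ⟨ψ, hψ⟩ * E ≤ b ⟨ψ, hψ⟩ := by
    refine Nat.le_of_mul_le_mul_right (c := T.index * (r * d)) ?_ hidx
    calc a ⟨ψ, hψ⟩ * E * (T.index * (r * d)) = a ⟨ψ, hψ⟩ * (E * T.index * (r * d)) := by ring
      _ ≤ b ⟨ψ, hψ⟩ * (r * d) * T.index := htot ▸ Nat.le_add_right _ _
      _ = b ⟨ψ, hψ⟩ * (T.index * (r * d)) := by ring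
  have hapos := Nat.pos_of_ne_zero ha0
  have hEb : E = b ⟨ψ, hψ⟩ := by
    refine le_antisymm ((Nat.le_mul_of_pos_left E hapos).trans h1) ?_
    exact (Nat.le_mul_of_pos_left _ hapos).trans hle
  have ha1 : a ⟨ψ, hψ⟩ = 1 := by
    have h2 : a ⟨ψ, hψ⟩ * E ≤ 1 * E := by rw [one_mul]; exact hEb ▸ h1
    have := Nat.le_of_mul_le_mul_right h2 (hEb ▸ Nat.pos_of_ne_zero hb0)
    omega
  have hrest : ∑ φ ∈ Finset.univ.erase (⟨χ, hχ⟩ : Cfsg.IrrCharacter G), m φ * deg φ = 0 := by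
    rw [ha1, hEb] at htot
    have hring : 1 * (b ⟨ψ, hψ⟩ * T.index * (r * d)) = b ⟨ψ, hψ⟩ * (r * d) * T.index := by ring
    omega
  refine ⟨?_, ?_, ?_⟩
  · rw [hm, Finset.sum_eq_single (⟨χ, hχ⟩ : Cfsg.IrrCharacter G)]
    · rw [hmχ, ha1, Nat.cast_one, one_smul]
    · intro φ _ hne
      have := Finset.sum_eq_zero_iff.mp hrest φ (Finset.mem_erase.mpr ⟨hne, Finset.mem_univ _⟩)
      rcases mul_eq_zero.mp this with h | h
      · rw [h, Nat.cast_zero, zero_smul]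
      · exact absurd h (hdeg0 φ).ne'
    · simp
  · rw [hb' ⟨ψ, hψ⟩, hE, hEb]
  · intro ψ' hψ' hc' hχ'
    by_contra hne
    have hpair : a ⟨ψ, hψ⟩ * b ⟨ψ, hψ⟩ + a ⟨ψ', hψ'⟩ * b ⟨ψ', hψ'⟩ ≤ E := by
      rw [hEsum]
      have hne' : (⟨ψ, hψ⟩ : Cfsg.IrrCharacter T) ≠ ⟨ψ', hψ'⟩ :=
        fun h => hne (congrArg Subtype.val h).symm
      rw [← Finset.sum_pair (f := fun φ => a φ * b φ) hne']
      exact Finset.sum_le_sum_of_subset (Finset.subset_univ _)
    have hp1 : 0 < a ⟨ψ', hψ'⟩ := Nat.pos_of_ne_zero fun h => hχ' (by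
      rw [haval ⟨ψ', hψ'⟩, h, Nat.cast_zero])
    have hp2 : 0 < b ⟨ψ', hψ'⟩ := Nat.pos_of_ne_zero fun h => hc' (by
      rw [hb' ⟨ψ', hψ'⟩, h, Nat.cast_zero])
    rw [ha1, one_mul, hEb] at hpair
    have := Nat.mul_pos hp1 hp2
    omega

/-- The induced character is irreducible, and contains `ψ` on restriction. -/
theorem isIrrCharacter_indFun {ψ : T → ℂ} (hψ : Cfsg.IsIrrCharacter T ψ)
    (hc : Cfsg.classInner (fun n : N => ψ ⟨n, hNT n.2⟩) θ ≠ 0) :
    Cfsg.IsIrrCharacter G (Cfsg.indFun T ψ) ∧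
      Cfsg.classInner (fun t : T => Cfsg.indFun T ψ t) ψ ≠ 0 ∧
      Cfsg.classInner (fun n : N => Cfsg.indFun T ψ n) θ ≠ 0 := by
  have hInd : Cfsg.IsCharacter G (Cfsg.indFun T ψ) :=
    Char.IsCharacter.indFun T (Char.IsIrrCharacter.isCharacter hψ)
  have h1 : Cfsg.indFun T ψ 1 ≠ 0 := by
    rw [Char.indFun_apply_one]
    exact mul_ne_zero (Nat.cast_ne_zero.mpr Subgroup.index_ne_zero_of_finite)
      (Char.IsIrrCharacter.apply_one_ne_zero hψ)
  obtain ⟨χ, hχ, hχc⟩ := CfsgLib.Clifford.exists_constituent hInd h1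
  rw [Char.classInner_indFun T ψ χ (Char.IsIrrCharacter.isClassFunction hχ),
    ← Char.classInner_conj_symm] at hχc
  have hne : Cfsg.classInner (fun t : T => χ t) ψ ≠ 0 := fun h => hχc (by rw [h, map_zero])
  obtain ⟨e1, e2, -⟩ := indFun_eq_of_constituent N T hNT hθ hI hψ hc hχ hne
  rw [e1]
  exact ⟨hχ, hne, e2 ▸ hc⟩

/-- Every character over `θ` is induced. -/
theorem exists_indFun_eq {χ : G → ℂ} (hχ : Cfsg.IsIrrCharacter G χ)
    (hcon : Cfsg.classInner (fun n : N => χ n) θ ≠ 0) :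
    ∃ ψ : T → ℂ, Cfsg.IsIrrCharacter T ψ ∧ Cfsg.indFun T ψ = χ ∧
      Cfsg.classInner (fun t : T => χ t) ψ ≠ 0 ∧
      Cfsg.classInner (fun n : N => ψ ⟨n, hNT n.2⟩) θ =
        Cfsg.classInner (fun n : N => χ n) θ := by
  obtain ⟨a, ha⟩ := Char.IsCharacter.exists_nat_combination
    (CfsgLib.Clifford.isCharacter_res (Char.IsIrrCharacter.isCharacter hχ) T)
  obtain ⟨φ, hφ⟩ : ∃ φ : Cfsg.IrrCharacter T, a φ ≠ 0 ∧
      Cfsg.classInner (fun n : N => (φ : T → ℂ) ⟨n, hNT n.2⟩) θ ≠ 0 := by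
    by_contra h
    push Not at h
    refine hcon ?_
    have e : (fun n : N => χ n) = ∑ φ : Cfsg.IrrCharacter T,
        (a φ : ℂ) • (fun n : N => (φ : T → ℂ) ⟨n, hNT n.2⟩) := by
      funext n
      have := congrFun ha ⟨n, hNT n.2⟩
      simpa [Finset.sum_apply] using this
    rw [e, Char.classInner_sum_left]
    refine Finset.sum_eq_zero fun φ _ => ?_
    rw [Char.classInner_smul_left]
    by_cases ha0 : a φ = 0
    · rw [ha0, Nat.cast_zero, zero_mul]
    · rw [h φ ha0, mul_zero]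
  have hne : Cfsg.classInner (fun t : T => χ t) φ ≠ 0 := by
    rw [ha, Char.classInner_sum_smul_irr]
    exact Nat.cast_ne_zero.mpr hφ.1
  obtain ⟨h1, h2, -⟩ := indFun_eq_of_constituent N T hNT hθ hI φ.2 hφ.2 hχ hne
  exact ⟨φ, φ.2, h1, hne, h2⟩

end CfsgLib.CliffordOver
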