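import Cfsg.Agent.Lib.Char.Orth
import Cfsg.Agent.Lib.Char.Kernel

/-!
# Representations with equal characters are equivalent
-/

set_option autoImplicit false

open Module

namespace CfsgLib.Char

universe u v w

variable {G : Type u} [Group G] [Finite G]

theorem nonempty_equiv_of_character_eq {V : Type v} [AddCommGroup V] [Module ℂ V]
    [FiniteDimensional ℂ V] {W : Type w} [AddCommGroup W] [Module ℂ W] [FiniteDimensional ℂ W]
    (ρ : Representation ℂ G V) (σ : Representation ℂ G W) (h : ρ.character = σ.character) :
    Nonempty (ρ.Equiv σ) := by
  cases nonempty_fintype G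
  induction hn : finrank ℂ V using Nat.strong_induction_on generalizing V W with
  | _ n ih =>
    have hd : finrank ℂ V = finrank ℂ W := by
      have h1 := congrFun h 1
      simpa using h1
    rcases subsingleton_or_nontrivial V with hV | hV
    · have : Subsingleton W := Module.finrank_zero_iff.mp (hd ▸ Module.finrank_zero_of_subsingleton)
      exact ⟨Representation.Equiv.mk (LinearEquiv.ofFinrankEq V W hd)
        fun g => LinearMap.ext fun v => Subsingleton.elim _ _⟩
    · obtain ⟨U, hU⟩ := CfsgLib.CharKernel.exists_irreducible_sub ρ
      obtain ⟨U', hc⟩ := exists_isCompl U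
      have hcs : IsCompl U.toSubmodule U'.toSubmodule :=
        ⟨disjoint_iff.mpr (by rw [← Subrepresentation.toSubmodule_inf, hc.inf_eq_bot]; rfl),
          codisjoint_iff.mpr (by rw [← Subrepresentation.toSubmodule_sup, hc.sup_eq_top]; rfl)⟩
      have hρ := character_eq_add ρ U U' hcs
      -- a copy of `U` in `σ`
      have hne : ∃ f : Representation.IntertwiningMap U.toRepresentation σ, f ≠ 0 := by
        have h1 : Cfsg.classInner σ.character U.toRepresentation.character ≠ 0 := by
          rw [← h, hρ, classInner_add_left, classInner_irr_self (isIrrCharacter_character _)]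
          obtain ⟨k, hk⟩ := IsCharacter.exists_nat_classInner' (isCharacter_character
            U'.toRepresentation) (isCharacter_character U.toRepresentation)
          rw [hk]
          exact_mod_cast (by omega : 1 + k ≠ 0)
        rw [classInner_character] at h1
        by_contra hcon
        push Not at hcon
        have : Subsingleton (Representation.IntertwiningMap U.toRepresentation σ) :=
          ⟨fun a b => (hcon a).trans (hcon b).symm⟩
        exact h1 (by simp [Module.finrank_zero_of_subsingleton])
      obtain ⟨f, hf⟩ := hne
      have hinj : Function.Injective f :=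
        (Representation.IsIrreducible.injective_or_eq_zero f).resolve_right hf
      let T : Subrepresentation σ := f.range
      obtain ⟨T', hcT⟩ := exists_isCompl T
      have hcsT : IsCompl T.toSubmodule T'.toSubmodule :=
        ⟨disjoint_iff.mpr (by rw [← Subrepresentation.toSubmodule_inf, hcT.inf_eq_bot]; rfl),
          codisjoint_iff.mpr (by rw [← Subrepresentation.toSubmodule_sup, hcT.sup_eq_top]; rfl)⟩
      let a : U.toSubmodule ≃ₗ[ℂ] T.toSubmodule := LinearEquiv.ofInjective f.toLinearMap hinj
      have ha : ∀ (g : G) (x : U.toSubmodule),
          a (U.toRepresentation g x) = T.toRepresentation g (a x) := fun g x =>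
        Subtype.ext (f.isIntertwining _ _ g x)
      let aE : Representation.Equiv U.toRepresentation T.toRepresentation :=
        Representation.Equiv.mk a fun g => LinearMap.ext fun x => ha g x
      have hσ := character_eq_add σ T T' hcsT
      have h' : U'.toRepresentation.character = T'.toRepresentation.character := by
        rw [← h, hρ, ← Representation.char_iso aE] at hσ
        exact add_left_cancel hσ
      have hlt : finrank ℂ U'.toSubmodule < n := by
        have h2 := Submodule.finrank_add_eq_of_isCompl hcs
        have h3 := finrank_pos_of_isIrreducible U.toRepresentation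
        omega
      obtain ⟨bE⟩ := ih _ hlt U'.toRepresentation T'.toRepresentation h' rfl
      let e₁ := Submodule.prodEquivOfIsCompl U.toSubmodule U'.toSubmodule hcs
      let e₂ := Submodule.prodEquivOfIsCompl T.toSubmodule T'.toSubmodule hcsT
      refine ⟨Representation.Equiv.mk
        (e₁.symm ≪≫ₗ (a.prodCongr bE.toLinearEquiv) ≪≫ₗ e₂) fun g => LinearMap.ext fun v => ?_⟩
      obtain ⟨⟨x, y⟩, rfl⟩ := e₁.surjective v
      have hb : bE.toLinearEquiv (U'.toRepresentation g y) =
          T'.toRepresentation g (bE.toLinearEquiv y) :=
        bE.toIntertwiningMap.isIntertwining _ _ g y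
      have hg : ρ g (e₁ (x, y)) = e₁ (U.toRepresentation g x, U'.toRepresentation g y) := by
        simp [e₁, Submodule.coe_prodEquivOfIsCompl', Subrepresentation.toRepresentation]
      simp only [LinearMap.comp_apply, LinearEquiv.coe_coe, LinearEquiv.trans_apply, hg,
        LinearEquiv.symm_apply_apply, LinearEquiv.prodCongr_apply, ha, hb]
      simp [e₂, Submodule.coe_prodEquivOfIsCompl', Subrepresentation.toRepresentation]

end CfsgLib.Char
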