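import Cfsg.Agent.Lib.Char.Clifford
import Cfsg.Agent.Lib.Char.Kernel
import Cfsg.Agent.Lib.Char.Linear
import Cfsg.Agent.Lib.Char.Integral
import Mathlib.GroupTheory.Nilpotent

/-!
# Nilpotent groups are monomial
-/

set_option autoImplicit false

open scoped ComplexConjugate

namespace CfsgLib.Monomial

open CharTwist

universe u

theorem indFun_congr {G : Type u} [Group G] [Fintype G] {H K : Subgroup G} (h : H = K)
    (θ : H → ℂ) (η : K → ℂ) (hθ : ∀ (x : G) (hx : x ∈ H) (hy : x ∈ K), θ ⟨x, hx⟩ = η ⟨x, hy⟩) :
    Cfsg.indFun H θ = Cfsg.indFun K η := by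
  subst h
  exact congrArg _ (funext fun x => hθ x.1 x.2 x.2)

/-- A nonabelian nilpotent group has a normal abelian subgroup that is not central. -/
theorem exists_abelian_normal_not_central {Q : Type u} [Group Q] [Group.IsNilpotent Q]
    (hQ : ¬ ∀ a b : Q, a * b = b * a) :
    ∃ A : Subgroup Q, A.Normal ∧ (∀ a ∈ A, ∀ b ∈ A, a * b = b * a) ∧
      ¬ A ≤ Subgroup.center Q := by
  have hne : Subgroup.upperCentralSeries Q 1 ≠ ⊤ := by
    rw [Subgroup.upperCentralSeries_one]
    intro h
    exact hQ fun a b => (Subgroup.mem_center_iff.mp (h ▸ Subgroup.mem_top a) b).symm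
  obtain ⟨n, hn⟩ := Group.IsNilpotent.nilpotent Q
  have h2 : ¬ Subgroup.upperCentralSeries Q 2 ≤ Subgroup.upperCentralSeries Q 1 := by
    intro h
    have hall : ∀ m, Subgroup.upperCentralSeries Q (m + 1) ≤ Subgroup.upperCentralSeries Q 1 := by
      intro m
      induction m with
      | zero => exact le_rfl
      | succ m ih =>
        intro x hx
        refine h ?_
        rw [Subgroup.mem_upperCentralSeries_succ_iff] at hx ⊢
        exact fun y => ih (hx y)
    have hmono : Subgroup.upperCentralSeries Q n ≤ Subgroup.upperCentralSeries Q (n + 1) :=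
      Subgroup.upperCentralSeries_mono Q (Nat.le_succ n)
    rw [hn] at hmono
    exact hne (eq_top_iff.mpr (hmono.trans (hall n)))
  obtain ⟨a, ha2, ha1⟩ := SetLike.not_le_iff_exists.mp h2
  rw [Subgroup.mem_upperCentralSeries_succ_iff] at ha2
  rw [Subgroup.upperCentralSeries_one] at ha2 ha1
  let A : Subgroup Q := Subgroup.closure (insert a (Subgroup.center Q : Set Q))
  have haA : a ∈ A := Subgroup.subset_closure (Set.mem_insert _ _)
  have hZA : Subgroup.center Q ≤ A := fun z hz => Subgroup.subset_closure (Set.mem_insert_of_mem _ hz)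
  refine ⟨A, ⟨?_⟩, ?_, fun h => ha1 (h haA)⟩
  · intro x hx g
    induction hx using Subgroup.closure_induction with
    | mem y hy =>
      rcases hy with rfl | hy
      · have hc : y * g * y⁻¹ * g⁻¹ ∈ Subgroup.center Q := by
          simpa [commutatorElement_def] using ha2 g
        have : g * y * g⁻¹ = (y * g * y⁻¹ * g⁻¹)⁻¹ * y := by
          simp [mul_assoc]
        rw [this]
        exact A.mul_mem (A.inv_mem (hZA hc)) haA
      · rw [Subgroup.mem_center_iff.mp hy g, mul_inv_cancel_right]
        exact hZA hy
    | one => simp
    | mul y z _ _ hy hz =>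
      rw [show g * (y * z) * g⁻¹ = (g * y * g⁻¹) * (g * z * g⁻¹) by simp [mul_assoc]]
      exact A.mul_mem hy hz
    | inv y _ hy =>
      rw [show g * y⁻¹ * g⁻¹ = (g * y * g⁻¹)⁻¹ by simp [mul_assoc]]
      exact A.inv_mem hy
  · have hgen : ∀ y ∈ insert a (Subgroup.center Q : Set Q),
        ∀ z ∈ insert a (Subgroup.center Q : Set Q), y * z = z * y := by
      rintro y (rfl | hy) z (rfl | hz)
      · rfl
      · exact Subgroup.mem_center_iff.mp hz y
      · exact (Subgroup.mem_center_iff.mp hy z).symm
      · exact (Subgroup.mem_center_iff.mp hy z).symm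
    intro x hx y hy
    induction hx, hy using Subgroup.closure_induction₂ with
    | mem u v hu hv => exact hgen u hu v hv
    | one_left v _ => simp
    | one_right v _ => simp
    | mul_left u v w _ _ _ h1 h2 => exact (Commute.mul_left h1 h2)
    | mul_right u v w _ _ _ h1 h2 => exact (Commute.mul_right h1 h2)
    | inv_left u v _ _ h1 => exact (Commute.inv_left h1)
    | inv_right u v _ _ h1 => exact (Commute.inv_right h1)

/-- A finite nilpotent group is an M-group. -/
theorem exists_linear_indFun {G : Type u} [Group G] [Fintype G] [Group.IsNilpotent G]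
    (χ : G → ℂ) (hχ : Cfsg.IsIrrCharacter G χ) :
    ∃ (H : Subgroup G) (lam : H →* ℂˣ), χ = Cfsg.indFun H (fun h => (lam h : ℂ)) := by
  classical
  induction hn : Fintype.card G using Nat.strong_induction_on generalizing G with
  | _ n ih =>
    obtain ⟨d, ρ, hρ, rfl⟩ := hχ
    let K : Subgroup G := MonoidHom.ker ρ
    by_cases hab : ∀ a b : G ⧸ K, a * b = b * a
    · -- `χ` is linear
      have hcomm : ∀ a b : G, ρ a * ρ b = ρ b * ρ a := by
        intro a b
        have := hab (QuotientGroup.mk a) (QuotientGroup.mk b)
        rw [← QuotientGroup.mk_mul, ← QuotientGroup.mk_mul, QuotientGroup.eq,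
          MonoidHom.mem_ker] at this
        rw [← map_mul, ← map_mul]
        calc ρ (a * b) = ρ (a * b) * ρ ((a * b)⁻¹ * (b * a)) := by rw [this, mul_one]
          _ = ρ (b * a) := by rw [← map_mul, mul_inv_cancel_left]
      have := CharKernel.nontrivial_of_irreducible ρ
      obtain ⟨v, hv⟩ := exists_ne (0 : Fin d → ℂ)
      have hd : Module.finrank ℂ (Fin d → ℂ) = 1 := by
        rcases CharKernel.eq_bot_or_eq_top ρ (ℂ ∙ v) (fun g w hw => by
          obtain ⟨c, hc⟩ := Char.exists_scalar_of_commute ρ (ρ g) (fun x => hcomm g x)
          rw [hc]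
          exact Submodule.smul_mem _ c hw) with h | h
        · exact absurd (Submodule.span_singleton_eq_bot.mp h) hv
        · rw [← finrank_top ℂ (Fin d → ℂ), ← h, finrank_span_singleton hv]
      obtain ⟨f, hf⟩ := Char.IsCharacter.exists_linear ⟨d, ρ, rfl⟩
        (by rw [Representation.char_one, hd, Nat.cast_one])
      refine ⟨⊤, f.comp (⊤ : Subgroup G).subtype, ?_⟩
      funext g
      rw [Char.indFun_apply, Finset.sum_congr rfl (g := fun _ => ρ.character g) (fun x _ => by
        rw [Char.extendByZero_apply_mem _ _ (Subgroup.mem_top _), MonoidHom.comp_apply, ← hf]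
        simpa using ρ.char_conj g x⁻¹), Finset.sum_const, Finset.card_univ, nsmul_eq_mul,
        Subgroup.card_top, ← Nat.card_eq_fintype_card, ← mul_assoc,
        inv_mul_cancel₀ (Nat.cast_ne_zero.mpr Nat.card_pos.ne'), one_mul]
    · obtain ⟨B, hBn, hBab, hBc⟩ := exists_abelian_normal_not_central hab
      let A : Subgroup G := B.comap (QuotientGroup.mk' K)
      have hAn : A.Normal := hBn.comap _
      obtain ⟨θ, hθ, hθc⟩ := Clifford.exists_constituent_res A
        (⟨d, ρ, hρ, rfl⟩ : Cfsg.IsIrrCharacter G ρ.character)
      let T := inertia A θ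
      have hAT : A ≤ T := le_inertia A (Char.IsIrrCharacter.isClassFunction hθ)
      have hTlt : T ≠ ⊤ := by
        intro hT
        -- then every element of `A` acts as a scalar
        have hres := Clifford.res_eq A ⟨d, ρ, hρ, rfl⟩ hθ hθc
        have horb : Clifford.orbit A θ = {θ} := by
          ext f
          rw [Clifford.mem_orbit, Finset.mem_singleton]
          constructor
          · rintro ⟨g, rfl⟩
            exact mem_inertia.mp (show g ∈ T from hT ▸ Subgroup.mem_top g)
          · rintro rfl
            exact ⟨1, conjFun_one _ _⟩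
        rw [horb, Finset.sum_singleton] at hres
        obtain ⟨k, τ, hτ, hτθ⟩ := hθ
        -- `θ` is linear: its kernel contains the commutators of `A`
        have hle : ∀ a : A, ‖ρ.character a‖ = (Module.finrank ℂ (Fin d → ℂ) : ℝ) := by
          intro a
          have hcomm : ∀ a b : A, τ a * τ b = τ b * τ a := by
            intro a b
            let c : A := (a * b) * (b * a)⁻¹
            have hcK : (c : G) ∈ K := by
              have hB := hBab _ a.2 _ b.2
              rw [← map_mul, ← map_mul] at hB
              rw [← QuotientGroup.eq_one_iff]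
              show QuotientGroup.mk' K ((a : G) * b * ((b : G) * a)⁻¹) = 1
              rw [map_mul, map_inv, hB, mul_inv_cancel]
            have h1 : ρ.character (c : G) = ρ.character 1 := by
              simp only [Representation.character]
              rw [MonoidHom.mem_ker.mp hcK, map_one ρ]
            have h2 := congrFun hres c
            have h3 := congrFun hres 1
            simp only [Pi.smul_apply, smul_eq_mul, OneMemClass.coe_one] at h2 h3
            have h4 : θ c = θ 1 := by
              have := h2.symm.trans (h1.trans h3)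
              exact mul_left_cancel₀ hθc this
            rw [← hτθ, Representation.char_one, Char.character_eq_degree_iff] at h4
            calc τ a * τ b = τ c * τ (b * a) := by
                  rw [← map_mul, ← map_mul]
                  exact congrArg τ (inv_mul_cancel_right (a * b) (b * a)).symm
              _ = τ b * τ a := by rw [h4, ← map_mul]; rfl
          have hk : ∀ a : A, ∃ t : ℂ, τ a = t • 1 := fun a =>
            Char.exists_scalar_of_commute τ (τ a) (fun b => hcomm a b)
          obtain ⟨t, ht⟩ := hk a
          have hk0 := Char.finrank_pos_of_irreducible τ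
          have : Nontrivial (Fin k → ℂ) := Module.finrank_pos_iff.mp hk0
          have htn : ‖t‖ = 1 := by
            have hp : τ (a ^ orderOf a) = t ^ orderOf a • 1 := by
              rw [map_pow, ht, smul_pow, one_pow]
            rw [pow_orderOf_eq_one, map_one] at hp
            obtain ⟨v, hv⟩ := exists_ne (0 : Fin k → ℂ)
            have := LinearMap.congr_fun hp v
            exact Complex.norm_eq_one_of_pow_eq_one
              (smul_left_injective ℂ hv (show (1 : ℂ) • v = _ • v by simpa using this)).symm
              (orderOf_pos _).ne'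
          have h2 := congrFun hres a
          have h3 := congrFun hres 1
          simp only [Pi.smul_apply, smul_eq_mul, OneMemClass.coe_one, Representation.char_one,
            ← hτθ] at h2 h3
          have hta : τ.character a = t * (Module.finrank ℂ (Fin k → ℂ) : ℂ) := by
            simp [Representation.character, ht, LinearMap.trace_one]
          rw [hta, mul_left_comm, ← h3] at h2
          rw [h2, norm_mul, htn, one_mul, Complex.norm_natCast]
        refine hBc fun b hb => ?_
        obtain ⟨a, rfl⟩ := QuotientGroup.mk'_surjective K b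
        obtain ⟨ω, hω⟩ := Char.eq_smul_one_of_norm_character_eq ρ a (hle ⟨a, hb⟩)
        rw [Subgroup.mem_center_iff]
        intro q
        obtain ⟨g, rfl⟩ := QuotientGroup.mk'_surjective K q
        rw [← map_mul, ← map_mul]
        refine QuotientGroup.eq.mpr ?_
        rw [MonoidHom.mem_ker, map_mul,
          show ρ (a * g) = ρ (g * a) by rw [map_mul, map_mul, hω, smul_one_mul, mul_smul_one],
          ← map_mul, inv_mul_cancel, map_one]
      obtain ⟨ψ, hψ, hψχ, -⟩ := Clifford.exists_indFun_eq A T hAT hθ
        (fun g => mem_inertia) (⟨d, ρ, hρ, rfl⟩ : Cfsg.IsIrrCharacter G ρ.character) hθc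
      have hlt : Fintype.card T < n := by
        rw [← hn, ← Nat.card_eq_fintype_card, ← Nat.card_eq_fintype_card]
        refine lt_of_le_of_ne (Subgroup.card_le_card_group T) fun h => hTlt ?_
        exact Subgroup.eq_top_of_card_eq T h
      obtain ⟨H₀, lam, hlam⟩ := ih _ hlt ψ hψ rfl
      refine ⟨H₀.map T.subtype,
        lam.comp (Subgroup.equivMapOfInjective H₀ T.subtype T.subtype_injective).symm.toMonoidHom, ?_⟩
      rw [← hψχ, hlam, ← Char.indFun_indFun (H₀.map T.subtype) T (Subgroup.map_subtype_le H₀)]
      refine congrArg _ (indFun_congr (Subgroup.comap_map_eq_self_of_injective T.subtype_injective H₀).symm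
        _ _ fun x hx hy => ?_)
      show (lam _ : ℂ) = (lam _ : ℂ)
      congr 2
      symm
      rw [MulEquiv.coe_toMonoidHom, MulEquiv.symm_apply_eq]
      exact Subtype.ext rfl

end CfsgLib.Monomial
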