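import Cfsg.Agent.Lib.Char.Complete

/-!
# Counting commutators
-/

set_option autoImplicit false

open scoped ComplexConjugate
open Module

namespace CfsgLib.Char

universe u

variable {G : Type u} [Group G] [Fintype G]

theorem sum_character_mul_inv_apply {n : ℕ} (ρ : Representation ℂ G (Fin n → ℂ))
    [ρ.IsIrreducible] (g : G) :
    ∑ a : G, ρ.character (a⁻¹ * g) * ρ.character a =
      (Nat.card G : ℂ) / n * ρ.character g := by
  let f : G → ℂ := fun a => ρ.character a⁻¹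
  have hf : Cfsg.IsClassFunction G f := fun a x => by
    change ρ.character (x * a * x⁻¹)⁻¹ = ρ.character a⁻¹
    rw [← ρ.char_conj a⁻¹ x]
    congr 1
    group
  have h := opOfFun_irreducible ρ hf
  have hsum : ∑ a : G, f a * ρ.character a = (Nat.card G : ℂ) := by
    have h1 := classInner_irr_self (isIrrCharacter_character ρ)
    rw [Cfsg.classInner, inv_mul_eq_one₀ (Nat.cast_ne_zero.mpr Nat.card_pos.ne')] at h1
    rw [h1]
    exact Finset.sum_congr rfl fun a _ => by simp [f, character_inv, mul_comm]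
  have h2 := congrArg (fun T : Module.End ℂ (Fin n → ℂ) => LinearMap.trace ℂ _ (T * ρ g)) h
  simp only [hsum, Module.finrank_fin_fun, opOfFun, Finset.sum_mul, map_sum, smul_mul_assoc,
    map_smul, smul_eq_mul, ← map_mul, ← Module.End.one_eq_id, one_mul] at h2
  refine Eq.trans ?_ h2
  refine Fintype.sum_equiv (Equiv.inv G) _ _ fun a => ?_
  simp only [f, Equiv.inv_apply, inv_inv]
  exact mul_comm _ _

theorem card_commutator_preimage (g : G) [Fintype {p : G × G // g = p.1 * p.2 * p.1⁻¹ * p.2⁻¹}] :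
    (Fintype.card {p : G × G // g = p.1 * p.2 * p.1⁻¹ * p.2⁻¹} : ℂ) =
      (Nat.card G : ℂ) * ∑ χ : Cfsg.IrrCharacter G, (χ : G → ℂ) g / (χ : G → ℂ) 1 := by
  classical
  have hfib : ∀ a : G, (Fintype.card {b : G // g = a * b * a⁻¹ * b⁻¹} : ℂ) =
      ∑ χ : Cfsg.IrrCharacter G, (χ : G → ℂ) (a⁻¹ * g) * (χ : G → ℂ) a := by
    intro a
    have h1 : ∑ χ : Cfsg.IrrCharacter G, (χ : G → ℂ) (a⁻¹ * g) * (χ : G → ℂ) a =
        ∑ χ : Cfsg.IrrCharacter G, (χ : G → ℂ) (a⁻¹ * g) * conj ((χ : G → ℂ) a⁻¹) :=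
      Finset.sum_congr rfl fun χ _ => by rw [← IsIrrCharacter.apply_inv χ.2, inv_inv]
    rw [h1, sum_mul_conj]
    split_ifs with hc
    · obtain ⟨c, hc⟩ := isConj_iff.mp hc.symm
      rw [← Nat.card_eq_fintype_card]
      refine congrArg Nat.cast (Nat.card_congr ?_)
      refine Equiv.subtypeEquiv (Equiv.mulRight c⁻¹) fun b => ?_
      rw [Equiv.coe_mulRight, Subgroup.mem_centralizer_singleton_iff, ← hc]
      constructor
      · intro hb
        have hb2 : c * a⁻¹ * c⁻¹ = b * a⁻¹ * b⁻¹ := by rw [hc, hb]; simp [mul_assoc]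
        calc b * c⁻¹ * (c * a⁻¹ * c⁻¹) = b * a⁻¹ * c⁻¹ := by simp [mul_assoc]
          _ = (b * a⁻¹ * b⁻¹) * b * c⁻¹ := by simp [mul_assoc]
          _ = c * a⁻¹ * c⁻¹ * (b * c⁻¹) := by rw [← hb2]; simp [mul_assoc]
      · intro hb
        have hb2 : c * a⁻¹ * c⁻¹ = b * a⁻¹ * b⁻¹ := by
          calc c * a⁻¹ * c⁻¹ = c * a⁻¹ * c⁻¹ * (b * c⁻¹) * (c * b⁻¹) := by simp [mul_assoc]
            _ = b * c⁻¹ * (c * a⁻¹ * c⁻¹) * (c * b⁻¹) := by rw [← hb]
            _ = b * a⁻¹ * b⁻¹ := by simp [mul_assoc]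
        calc g = a * (a⁻¹ * g) := by simp
          _ = a * b * a⁻¹ * b⁻¹ := by rw [← hc, hb2]; simp [mul_assoc]
    · have : IsEmpty {b : G // g = a * b * a⁻¹ * b⁻¹} :=
        ⟨fun ⟨b, hb⟩ => hc (isConj_iff.mpr ⟨b, by rw [hb]; simp [mul_assoc]⟩).symm⟩
      rw [Fintype.card_eq_zero, Nat.cast_zero]
  have hs : Fintype.card {p : G × G // g = p.1 * p.2 * p.1⁻¹ * p.2⁻¹} =
      ∑ a : G, Fintype.card {b : G // g = a * b * a⁻¹ * b⁻¹} := by
    rw [← Fintype.card_sigma]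
    exact Fintype.card_congr (Equiv.subtypeProdEquivSigmaSubtype fun a b => g = a * b * a⁻¹ * b⁻¹)
  rw [hs, Nat.cast_sum, Finset.sum_congr rfl fun a _ => hfib a, Finset.sum_comm, Finset.mul_sum]
  refine Finset.sum_congr rfl fun χ _ => ?_
  obtain ⟨n, ρ, hρ, he⟩ := χ.2
  rw [← he, sum_character_mul_inv_apply ρ g, Representation.char_one, Module.finrank_fin_fun]
  ring

end CfsgLib.Char
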