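import Cfsg.Agent.Lib.Char.Induced
import Cfsg.Agent.Lib.Char.Complete
import Cfsg.Agent.Lib.Char.Twist

/-!
# Restriction to a normal subgroup: conjugate constituents
-/

set_option autoImplicit false

open scoped ComplexConjugate

namespace CfsgLib.Char

universe u

variable {G : Type u} [Group G] [Fintype G] (N : Subgroup G) [N.Normal]

/-- Extension by zero of a conjugate. -/
theorem extendByZero_conjFun (θ : N → ℂ) (x : G) (n : N) :
    Cfsg.extendByZero N θ (x⁻¹ * (n : G) * x) = CharTwist.conjFun N θ x⁻¹ n := by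
  have h := ‹N.Normal›.conj_mem n n.2 x⁻¹
  rw [inv_inv] at h
  rw [extendByZero_apply_mem N θ h]
  exact congrArg θ (Subtype.ext (by simp))

/-- The restriction of an induced function to a normal subgroup. -/
theorem indFun_restrict_normal (θ : N → ℂ) :
    (fun n : N => Cfsg.indFun N θ n) =
      (Nat.card N : ℂ)⁻¹ • ∑ x : G, CharTwist.conjFun N θ x := by
  funext n
  rw [Pi.smul_apply, Finset.sum_apply, indFun_apply, smul_eq_mul]
  congr 1
  refine Fintype.sum_equiv (Equiv.inv G) _ _ fun x => ?_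
  exact extendByZero_conjFun N θ x n

variable [Fintype N]

/-- The inner product on `N` with a class function of `G` is invariant under conjugation. -/
theorem classInner_conjFun (θ : G → ℂ) (hθ : Cfsg.IsClassFunction G θ) (χ : N → ℂ) (g : G) :
    Cfsg.classInner (fun n : N => θ n) (CharTwist.conjFun N χ g) =
      Cfsg.classInner (fun n : N => θ n) χ := by
  unfold Cfsg.classInner
  congr 1
  refine Fintype.sum_equiv (MulAut.conjNormal (H := N) g).toEquiv _ _ fun n => ?_
  have h1 : (((MulAut.conjNormal (H := N) g).toEquiv n : N) : G) = g * n * g⁻¹ := rfl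
  simp only [h1, hθ (n : G) g]
  rfl

/-- An irreducible constituent of the restriction is conjugate to any other one. -/
theorem exists_conjFun_eq_of_constituent (θ : G → ℂ) (hθ : Cfsg.IsIrrCharacter G θ) (χ ψ : N → ℂ)
    (hχ : Cfsg.IsIrrCharacter N χ) (hψ : Cfsg.IsIrrCharacter N ψ)
    (h1 : Cfsg.classInner (fun n : N => θ n) χ ≠ 0)
    (h2 : Cfsg.classInner (fun n : N => θ n) ψ ≠ 0) :
    ∃ g : G, ψ = CharTwist.conjFun N χ g := by
  classical
  by_contra hcon
  have hI : Cfsg.IsCharacter G (Cfsg.indFun N χ) :=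
    IsCharacter.indFun N (IsIrrCharacter.isCharacter hχ)
  have hzero : Cfsg.classInner (fun n : N => Cfsg.indFun N χ n) ψ = 0 := by
    rw [indFun_restrict_normal, classInner_smul_left, classInner_sum_left, Finset.sum_eq_zero,
      mul_zero]
    intro x _
    exact classInner_irr_of_ne (CharTwist.isIrrCharacter_conjFun N hχ x) hψ
      fun h => hcon ⟨x, h.symm⟩
  have hdec := IsCharacter.eq_sum_classInner hI
  have hres : (fun n : N => Cfsg.indFun N χ n) = ∑ φ : Cfsg.IrrCharacter G,
      Cfsg.classInner (Cfsg.indFun N χ) φ • (fun n : N => (φ : G → ℂ) n) := by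
    funext n
    conv_lhs => rw [hdec]
    simp [Finset.sum_apply]
  rw [hres, classInner_sum_left] at hzero
  simp only [classInner_smul_left] at hzero
  choose a ha using fun φ : Cfsg.IrrCharacter G => IsCharacter.exists_nat_classInner hI φ.2
  choose b hb using fun φ : Cfsg.IrrCharacter G =>
    IsCharacter.exists_nat_classInner (IsCharacter.restrict (IsIrrCharacter.isCharacter φ.2) N) hψ
  simp only [ha, hb] at hzero
  have hz : ∑ φ, a φ * b φ = 0 := by exact_mod_cast hzero
  have hz' := (Finset.sum_eq_zero_iff.mp hz) ⟨θ, hθ⟩ (Finset.mem_univ _)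
  rcases Nat.mul_eq_zero.mp hz' with h | h
  · refine h1 ?_
    have h3 : Cfsg.classInner (Cfsg.indFun N χ) θ = 0 := by rw [ha ⟨θ, hθ⟩, h, Nat.cast_zero]
    rw [classInner_indFun N χ θ (IsIrrCharacter.isClassFunction hθ)] at h3
    rw [← classInner_conj_symm, h3, map_zero]
  · exact h2 (by rw [hb ⟨θ, hθ⟩, h, Nat.cast_zero])

/-- Clifford's theorem for the restriction of an irreducible character to a normal subgroup. -/
theorem restrict_eq_smul_sum_conj (θ : G → ℂ) (hθ : Cfsg.IsIrrCharacter G θ) (χ : N → ℂ)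
    (hχ : Cfsg.IsIrrCharacter N χ) (hc : Cfsg.classInner (fun n : N => θ n) χ ≠ 0) :
    (fun n : N => θ n) = Cfsg.classInner (fun n : N => θ n) χ •
      ∑ᶠ ψ ∈ {ψ : N → ℂ | ∃ g : G, ψ = CharTwist.conjFun N χ g}, ψ := by
  classical
  set C : Set (N → ℂ) := {ψ : N → ℂ | ∃ g : G, ψ = CharTwist.conjFun N χ g} with hC
  have hdec := IsCharacter.eq_sum_classInner
    (IsCharacter.restrict (IsIrrCharacter.isCharacter hθ) N)
  have hfin : C.Finite := (Set.finite_range fun g : G => CharTwist.conjFun N χ g).subset (by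
    rintro _ ⟨g, rfl⟩; exact ⟨g, rfl⟩)
  rw [finsum_mem_eq_finite_toFinset_sum _ hfin, Finset.smul_sum]
  conv_lhs => rw [hdec]
  have hmul : ∀ φ : Cfsg.IrrCharacter N, Cfsg.classInner (fun n : N => θ n) φ • (φ : N → ℂ) =
      if (φ : N → ℂ) ∈ C then Cfsg.classInner (fun n : N => θ n) χ • (φ : N → ℂ) else 0 := by
    intro φ
    split_ifs with hmem
    · obtain ⟨g, hg⟩ := hmem
      rw [hg, classInner_conjFun N θ (IsIrrCharacter.isClassFunction hθ)]
    · by_cases h0 : Cfsg.classInner (fun n : N => θ n) φ = 0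
      · rw [h0, zero_smul]
      · exact absurd (exists_conjFun_eq_of_constituent N θ hθ χ φ hχ φ.2 hc h0) hmem
  rw [Finset.sum_congr rfl fun φ _ => hmul φ, ← Finset.sum_filter]
  refine Finset.sum_bij (fun φ _ => (φ : N → ℂ)) ?_ ?_ ?_ ?_
  · intro φ hφ
    simpa using (Finset.mem_filter.mp hφ).2
  · intro a _ b _ h
    exact Subtype.ext h
  · intro ψ hψ
    rw [Set.Finite.mem_toFinset] at hψ
    obtain ⟨g, hg⟩ := hψ
    exact ⟨⟨ψ, hg ▸ CharTwist.isIrrCharacter_conjFun N hχ g⟩,
      Finset.mem_filter.mpr ⟨Finset.mem_univ _, g, hg⟩, rfl⟩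
  · intro φ _
    rfl

end CfsgLib.Char
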