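import Cfsg.Agent.Lib.Char.Orth
import Cfsg.Agent.Lib.Char.Equiv
import Cfsg.Agent.Lib.Char.Induced
import Cfsg.Agent.Lib.Char.Virtual
import Mathlib.LinearAlgebra.Matrix.ToLin
import Mathlib.LinearAlgebra.Finsupp.LinearCombination

/-!
# Characters afforded over a subfield of `ℂ`
-/

set_option autoImplicit false

open scoped ComplexConjugate
open Module

namespace CfsgLib.Char

universe u v w

variable {G : Type u} [Group G] {K : Type w} [Field K]

/-- Extension of the scalars of a coordinate representation along a field embedding. -/
noncomputable def extendScalars (φ : K →+* ℂ) {n : ℕ} (σ : Representation K G (Fin n → K)) :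
    Representation ℂ G (Fin n → ℂ) where
  toFun g := Matrix.toLin' ((LinearMap.toMatrix' (σ g)).map φ)
  map_one' := by
    rw [map_one, Module.End.one_eq_id, LinearMap.toMatrix'_id,
      Matrix.map_one _ (map_zero φ) (map_one φ), Matrix.toLin'_one, Module.End.one_eq_id]
  map_mul' a b := by
    rw [map_mul, Module.End.mul_eq_comp, LinearMap.toMatrix'_comp, Matrix.map_mul,
      Matrix.toLin'_mul, Module.End.mul_eq_comp]

theorem extendScalars_toMatrix (φ : K →+* ℂ) {n : ℕ} (σ : Representation K G (Fin n → K)) (g : G) :
    LinearMap.toMatrix' (extendScalars φ σ g) = (LinearMap.toMatrix' (σ g)).map φ :=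
  LinearMap.toMatrix'_toLin' _

theorem extendScalars_character (φ : K →+* ℂ) {n : ℕ} (σ : Representation K G (Fin n → K)) :
    (extendScalars φ σ).character = fun g => φ (σ.character g) := by
  funext g
  simp only [Representation.character, extendScalars, MonoidHom.coe_mk, OneHom.coe_mk,
    Matrix.trace_toLin'_eq,
    LinearMap.trace_eq_matrix_trace K (Pi.basisFun K (Fin n)) (σ g), LinearMap.toMatrix_eq_toMatrix']
  simp [Matrix.trace, map_sum]

/-- `χ` is afforded by a representation over `K`, viewed inside `ℂ` through `φ`. -/
def Realizable (φ : K →+* ℂ) (χ : G → ℂ) : Prop :=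
  ∃ (n : ℕ) (σ : Representation K G (Fin n → K)), ∀ g, φ (σ.character g) = χ g

variable {φ : K →+* ℂ}

theorem realizable_of_rep {V : Type v} [AddCommGroup V] [Module K V] [FiniteDimensional K V]
    (σ : Representation K G V) : Realizable φ (fun g => φ (σ.character g)) := by
  refine ⟨finrank K V,
    ((finBasis K V).equivFun.conjAlgEquiv K).toAlgHom.toMonoidHom.comp σ, fun g => ?_⟩
  exact congrArg φ (LinearMap.trace_conj' (σ g) (finBasis K V).equivFun)

theorem Realizable.isCharacter {χ : G → ℂ} (h : Realizable φ χ) : Cfsg.IsCharacter G χ := by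
  obtain ⟨n, σ, hσ⟩ := h
  exact ⟨n, extendScalars φ σ, by rw [extendScalars_character]; exact funext hσ⟩

theorem Realizable.add {a b : G → ℂ} (ha : Realizable φ a) (hb : Realizable φ b) :
    Realizable φ (a + b) := by
  obtain ⟨n, σ, hσ⟩ := ha
  obtain ⟨m, τ, hτ⟩ := hb
  have h : a + b = fun g => φ ((σ.prod τ).character g) := by
    funext g
    rw [Pi.add_apply, ← hσ, ← hτ, ← map_add]
    exact congrArg φ (LinearMap.trace_prodMap' (σ g) (τ g)).symm
  rw [h]
  exact realizable_of_rep _

theorem realizable_zero : Realizable φ (0 : G → ℂ) :=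
  ⟨0, Representation.trivial K G (Fin 0 → K), fun g => by simp [Representation.character]⟩

/-- The monomial representation over `K` attached to a linear character of a subgroup. -/
theorem realizable_indFun_linear [Fintype G] (H : Subgroup G) (lam : H →* ℂˣ)
    (hlam : ∀ h : H, ∃ c : K, φ c = (lam h : ℂ)) :
    Realizable φ (Cfsg.indFun H (fun h => (lam h : ℂ))) := by
  classical
  choose c hc using hlam
  have hmul : ∀ a b, c (a * b) = c a * c b := fun a b => φ.injective (by simp [hc])
  have hone : c 1 = 1 := φ.injective (by simp [hc])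
  let L : G → (G ⧸ H → K) →ₗ[K] (G ⧸ H → K) := fun g =>
    { toFun := fun f i => c ⟨_, transversal_mem H g i⟩ * f (g⁻¹ • i)
      map_add' := fun f f' => by funext i; simp [mul_add]
      map_smul' := fun r f => by funext i; simp [mul_left_comm] }
  let σ : Representation K G (G ⧸ H → K) :=
    { toFun := L
      map_one' := by
        refine LinearMap.ext fun f => funext fun i => ?_
        change c _ * f ((1 : G)⁻¹ • i) = f i
        have h1 : (1 : G)⁻¹ • i = i := by simp
        have h2 : (⟨_, transversal_mem H 1 i⟩ : H) = 1 := Subtype.ext (by simp only [h1]; simp)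
        rw [h2, h1, hone, one_mul]
      map_mul' := fun g g' => by
        refine LinearMap.ext fun f => funext fun i => ?_
        change c _ * f ((g * g')⁻¹ • i) = c _ * (c _ * f (g'⁻¹ • g⁻¹ • i))
        have h1 : (g * g')⁻¹ • i = g'⁻¹ • g⁻¹ • i := by rw [mul_inv_rev, mul_smul]
        have h2 : (⟨_, transversal_mem H (g * g') i⟩ : H) =
            ⟨_, transversal_mem H g i⟩ * ⟨_, transversal_mem H g' (g⁻¹ • i)⟩ :=
          Subtype.ext (by rw [Subgroup.coe_mul]; simp only [h1]; simp [mul_assoc])
        rw [h2, h1, hmul, mul_assoc] }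
  convert realizable_of_rep (φ := φ) σ using 1
  funext g
  rw [indFun_eq_sum_transversal H _ (fun a b => by simp),
    Representation.character, LinearMap.trace_eq_matrix_trace K (Pi.basisFun K (G ⧸ H)),
    Matrix.trace, map_sum]
  refine Finset.sum_congr rfl fun i _ => ?_
  rw [Matrix.diag_apply, LinearMap.toMatrix_apply, Pi.basisFun_repr, Pi.basisFun_apply]
  change _ = φ (c _ * (Pi.single i (1 : K) : G ⧸ H → K) (g⁻¹ • i))
  by_cases hi : g⁻¹ • i = i
  · have hm : i.out⁻¹ * g * i.out ∈ H := by
      have := transversal_mem H g i
      rwa [hi] at this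
    have hs : (Pi.single i (1 : K) : G ⧸ H → K) (g⁻¹ • i) = 1 := by rw [hi]; simp
    rw [extendByZero_apply_mem H _ hm, hs, mul_one, hc]
    congr 3
    simp only [hi]
  · have hm : i.out⁻¹ * g * i.out ∉ H := by
      intro hc'
      rw [mul_assoc, ← QuotientGroup.eq, QuotientGroup.out_eq',
        show ((g * i.out : G) : G ⧸ H) = g • ((i.out : G) : G ⧸ H) from rfl,
        QuotientGroup.out_eq'] at hc'
      exact hi (inv_smul_eq_iff.mpr hc')
    rw [extendByZero_of_notMem H _ hm, Pi.single_eq_of_ne hi, mul_zero, map_zero]

variable [Finite G]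

/-- Functions afforded by irreducible representations over `K`. -/
def simpleChars (φ : K →+* ℂ) (G : Type u) [Group G] : Set (G → ℂ) :=
  {f | ∃ (n : ℕ) (σ : Representation K G (Fin n → K)),
    σ.IsIrreducible ∧ (fun g => φ (σ.character g)) = f}

theorem rep_character_mem_span (φ : K →+* ℂ) {V : Type v} [AddCommGroup V] [Module K V]
    [FiniteDimensional K V] (σ : Representation K G V) :
    (fun g => φ (σ.character g)) ∈ Submodule.span ℤ (simpleChars φ G) := by
  have : CharZero K := φ.charZero
  have : NeZero (Nat.card G : K) := ⟨Nat.cast_ne_zero.mpr Nat.card_pos.ne'⟩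
  induction hn : finrank K V using Nat.strong_induction_on generalizing V with
  | _ n ih =>
    rcases subsingleton_or_nontrivial V with hV | hV
    · convert Submodule.zero_mem _ using 1
      funext g
      simp [Representation.character, Subsingleton.elim (σ g) 0]
    by_cases hirr : σ.IsIrreducible
    · let e := (finBasis K V).equivFun
      let τ : Representation K G (Fin (finrank K V) → K) :=
        (e.conjAlgEquiv K).toAlgHom.toMonoidHom.comp σ
      refine Submodule.subset_span ⟨_, τ, ?_, ?_⟩
      · let E : Representation.Equiv σ τ := Representation.Equiv.mk e fun g => by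
          ext x
          simp [τ, LinearEquiv.conj_apply]
        rw [Representation.irreducible_iff_isSimpleModule_asModule] at hirr ⊢
        exact IsSimpleModule.congr (LinearEquiv.ofBijective
          (Representation.IntertwiningMap.equivLinearMapAsModule τ σ E.symm.toIntertwiningMap)
          E.symm.toLinearEquiv.bijective)
      · funext g
        exact congrArg φ (LinearMap.trace_conj' (σ g) e)
    · have hnt : Nontrivial (Subrepresentation σ) :=
        ⟨⊥, ⊤, fun e => bot_ne_top (α := Submodule K V)
          (congrArg Subrepresentation.toSubmodule e)⟩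
      obtain ⟨W, hW1, hW2⟩ : ∃ W : Subrepresentation σ, W ≠ ⊥ ∧ W ≠ ⊤ := by
        by_contra hcon
        push Not at hcon
        exact hirr { eq_bot_or_eq_top := fun W => or_iff_not_imp_left.mpr (hcon W) }
      obtain ⟨W', hc⟩ := exists_isCompl W
      have hcs : IsCompl W.toSubmodule W'.toSubmodule :=
        ⟨disjoint_iff.mpr (by rw [← Subrepresentation.toSubmodule_inf, hc.inf_eq_bot]; rfl),
          codisjoint_iff.mpr (by rw [← Subrepresentation.toSubmodule_sup, hc.sup_eq_top]; rfl)⟩
      have hlt : finrank K W.toSubmodule < n := hn ▸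
        Submodule.finrank_lt fun e => hW2 (Subrepresentation.toSubmodule_injective e)
      have hlt' : finrank K W'.toSubmodule < n := hn ▸
        Submodule.finrank_lt fun e => hW1 (by
          have e' : W' = ⊤ := Subrepresentation.toSubmodule_injective e
          have := hc.inf_eq_bot
          rwa [e', inf_top_eq] at this)
      have hsum : (fun g => φ (σ.character g)) = (fun g => φ (W.toRepresentation.character g)) +
          fun g => φ (W'.toRepresentation.character g) := by
        funext g
        let e := Submodule.prodEquivOfIsCompl W.toSubmodule W'.toSubmodule hcs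
        have he : σ g = e.conj ((W.toRepresentation g).prodMap (W'.toRepresentation g)) := by
          ext v
          obtain ⟨⟨a, b⟩, rfl⟩ := e.surjective v
          simp [LinearEquiv.conj_apply, e, Submodule.coe_prodEquivOfIsCompl',
            Subrepresentation.toRepresentation]
        rw [Pi.add_apply, ← map_add]
        refine congrArg φ ?_
        rw [Representation.character, he, LinearMap.trace_conj', LinearMap.trace_prodMap']
        rfl
      rw [hsum]
      exact Submodule.add_mem _ (ih _ hlt W.toRepresentation rfl) (ih _ hlt' W'.toRepresentation rfl)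

theorem classInner_simpleChars [Fintype G] {f f' : G → ℂ} (hf : f ∈ simpleChars φ G)
    (hf' : f' ∈ simpleChars φ G) :
    (f ≠ f' → Cfsg.classInner f f' = 0) ∧ ∃ d : ℕ, 0 < d ∧ Cfsg.classInner f f = d := by
  have : CharZero K := φ.charZero
  have : Invertible (Nat.card G : K) :=
    invertibleOfNonzero (Nat.cast_ne_zero.mpr Nat.card_pos.ne')
  obtain ⟨n, σ, hσ, rfl⟩ := hf
  obtain ⟨m, τ, hτ, rfl⟩ := hf'
  have key : ∀ {a b : ℕ} (α : Representation K G (Fin a → K)) (β : Representation K G (Fin b → K)),
      Cfsg.classInner (fun g => φ (α.character g)) (fun g => φ (β.character g)) =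
        (finrank K (Representation.IntertwiningMap β α) : ℂ) := by
    intro a b α β
    have h := congrArg φ (Representation.card_inv_mul_sum_char_mul_char_eq_finrank β α)
    simp only [map_mul, map_inv₀, map_natCast, map_sum] at h
    rw [← h, Cfsg.classInner]
    refine congrArg _ (Finset.sum_congr rfl fun g _ => ?_)
    congr 1
    have h2 := character_inv (extendScalars φ β) g
    rw [extendScalars_character] at h2
    exact h2.symm
  refine ⟨fun hne => ?_, finrank K (Representation.IntertwiningMap σ σ), ?_, key σ σ⟩
  · have : IsEmpty (Representation.Equiv τ σ) := ⟨fun e => hne (funext fun g =>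
      congrArg φ (congrFun (Representation.char_iso e) g).symm)⟩
    rw [key]
    simp [finrank_zero_of_subsingleton]
  · have : Nontrivial (Fin n → K) := by
      by_contra hs
      rw [not_nontrivial_iff_subsingleton] at hs
      exact bot_ne_top (α := Subrepresentation σ)
        (Subrepresentation.toSubmodule_injective (Subsingleton.elim _ _))
    have : Nontrivial (Representation.IntertwiningMap σ σ) := ⟨0, Representation.IntertwiningMap.id σ,
      fun e => by
        obtain ⟨x, hx⟩ := exists_ne (0 : Fin n → K)
        exact hx (congrArg (fun f : Representation.IntertwiningMap σ σ => f x) e).symm⟩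
    have : Module.Finite K (Representation.IntertwiningMap σ σ) :=
      Module.Finite.of_injective
        ({ toFun := fun f => f.toLinearMap, map_add' := fun _ _ => rfl,
           map_smul' := fun _ _ => rfl } :
          Representation.IntertwiningMap σ σ →ₗ[K] Module.End K (Fin n → K))
        (Representation.IntertwiningMap.toLinearMap_injective σ σ)
    exact Module.finrank_pos

/-- An irreducible character that is an integral combination of realizable characters is
realizable. -/
theorem realizable_of_mem_span {χ : G → ℂ} (hχ : Cfsg.IsIrrCharacter G χ)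
    (h : χ ∈ Submodule.span ℤ {f : G → ℂ | Realizable φ f}) : Realizable φ χ := by
  classical
  cases nonempty_fintype G
  have h' : χ ∈ Submodule.span ℤ (simpleChars φ G) := by
    refine Submodule.span_le.mpr ?_ h
    rintro f ⟨n, σ, hσ⟩
    rw [show f = fun g => φ (σ.character g) from (funext hσ).symm]
    exact rep_character_mem_span φ σ
  obtain ⟨c, hc, hsum⟩ := Submodule.mem_span_set.mp h'
  simp only [Finsupp.sum, ← Int.cast_smul_eq_zsmul ℂ] at hsum
  have hsimp : ∀ f ∈ c.support, f ∈ simpleChars φ G := fun f hf => hc hf
  choose! d hd hdd using fun f (hf : f ∈ c.support) =>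
    (classInner_simpleChars (hsimp f hf) (hsimp f hf)).2
  have hnorm : ∑ f ∈ c.support, c f * c f * (d f : ℤ) = 1 := by
    have h1 := classInner_irr_self hχ
    rw [← hsum, classInner_sum_left] at h1
    simp only [classInner_smul_left, classInner_sum_right, classInner_smul_right, map_intCast] at h1
    have h2 : ∀ f ∈ c.support,
        ∑ f' ∈ c.support, (c f' : ℂ) * ((c f : ℂ) * Cfsg.classInner f f') =
          (c f : ℂ) * ((c f : ℂ) * d f) := by
      intro f hf
      rw [Finset.sum_eq_single f (fun f' hf' hne => by
        rw [(classInner_simpleChars (hsimp f hf) (hsimp f' hf')).1 (Ne.symm hne), mul_zero,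
          mul_zero]) (fun hn => absurd hf hn), hdd f hf]
    rw [Finset.sum_congr rfl fun f hf => h2 f hf] at h1
    have h3 : ((∑ f ∈ c.support, c f * c f * (d f : ℤ) : ℤ) : ℂ) = 1 := by
      rw [← h1]
      push_cast
      exact Finset.sum_congr rfl fun f _ => mul_assoc _ _ _
    exact_mod_cast h3
  have hne : c.support.Nonempty := by
    by_contra hE
    rw [Finset.not_nonempty_iff_eq_empty] at hE
    simp [hE] at hnorm
  obtain ⟨f, hf⟩ := hne
  have hpos : ∀ f' ∈ c.support, 1 ≤ c f' * c f' * (d f' : ℤ) := fun f' hf' => by
    have h1 : (0 : ℤ) < c f' * c f' := mul_self_pos.mpr (Finsupp.mem_support_iff.mp hf')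
    have h2 : (0 : ℤ) < d f' := by exact_mod_cast hd f' hf'
    exact mul_pos h1 h2
  have hcard : c.support = {f} := by
    refine Finset.eq_singleton_iff_unique_mem.mpr ⟨hf, fun f' hf' => ?_⟩
    by_contra hne'
    have h2 : ∑ x ∈ ({f, f'} : Finset (G → ℂ)), c x * c x * (d x : ℤ) ≤ 1 := by
      rw [← hnorm]
      refine Finset.sum_le_sum_of_subset_of_nonneg ?_ fun x hx _ => (by linarith [hpos x hx])
      intro x hx
      rcases Finset.mem_insert.mp hx with rfl | hx
      · exact hf
      · rwa [Finset.mem_singleton.mp hx]
    rw [Finset.sum_pair (Ne.symm hne')] at h2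
    linarith [hpos f hf, hpos f' hf']
  rw [hcard, Finset.sum_singleton] at hnorm hsum
  have h4 : c f * c f = 1 := by
    have h5 : (0 : ℤ) < c f * c f := mul_self_pos.mpr (Finsupp.mem_support_iff.mp hf)
    exact le_antisymm (by nlinarith [hd f hf]) h5
  have hfr : Realizable φ f := by
    obtain ⟨n, σ, _, he⟩ := hsimp f hf
    exact ⟨n, σ, congrFun he⟩
  rcases mul_self_eq_one_iff.mp h4 with h5 | h5
  · rw [h5, Int.cast_one, one_smul] at hsum
    rwa [← hsum]
  · exfalso
    obtain ⟨n, hn, hn'⟩ := IsIrrCharacter.exists_degree hχ
    obtain ⟨m, hm⟩ := IsCharacter.exists_degree hfr.isCharacter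
    have h6 := congrFun hsum 1
    simp [h5, hn', hm] at h6
    have h7 : ((n + m : ℕ) : ℂ) = 0 := by push_cast; linear_combination -h6
    have : n + m = 0 := by exact_mod_cast h7
    omega

end CfsgLib.Char
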