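import Cfsg.Agent.Lib.Char.Realize
import Mathlib.FieldTheory.IntermediateField.Adjoin.Basic
import Mathlib.RingTheory.RootsOfUnity.Complex
import Mathlib.GroupTheory.Exponent

/-!
# Brauer's splitting field theorem
-/

set_option autoImplicit false

open Module

namespace CfsgLib.Char

universe u

variable {G : Type u} [Group G] [Finite G]

/-- If every character is an integral combination of characters induced from linear ones then
every representation is equivalent to one over the field of `exponent`-th roots of unity. -/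
theorem exists_rep_over_cyclotomic [Fintype G]
    (hB : ∀ χ : G → ℂ, Cfsg.IsIrrCharacter G χ →
      ∃ l : List ((E : Subgroup G) × ((E →* ℂˣ) × ℤ)),
        χ = (l.map fun t => (t.2.2 : ℂ) • Cfsg.indFun t.1 (fun e => (t.2.1 e : ℂ))).sum)
    (n : ℕ) (ρ : Representation ℂ G (Fin n → ℂ)) :
    ∃ σ : Representation ℂ G (Fin n → ℂ), Nonempty (ρ.Equiv σ) ∧ ∀ g : G, ∀ i j : Fin n,
      LinearMap.toMatrix' (σ g) i j ∈ Algebra.adjoin ℚ
        ({Complex.exp (2 * Real.pi * Complex.I / (Monoid.exponent G : ℂ))} : Set ℂ) := by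
  classical
  set m := Monoid.exponent G with hm
  have hm0 : m ≠ 0 := Monoid.exponent_ne_zero_of_finite
  set ζ := Complex.exp (2 * Real.pi * Complex.I / (m : ℂ)) with hζ
  have hprim : IsPrimitiveRoot ζ m := Complex.isPrimitiveRoot_exp m hm0
  have halg : IsAlgebraic ℚ ζ :=
    ⟨Polynomial.X ^ m - Polynomial.C 1, Polynomial.X_pow_sub_C_ne_zero (Nat.pos_of_ne_zero hm0) _,
      by simp [hprim.pow_eq_one]⟩
  let K : IntermediateField ℚ ℂ := IntermediateField.adjoin ℚ {ζ}
  let φ : K →+* ℂ := K.val.toRingHom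
  have hmem : ∀ z : ℂ, z ∈ K → z ∈ Algebra.adjoin ℚ ({ζ} : Set ℂ) := fun z hz => by
    rw [← IntermediateField.adjoin_simple_toSubalgebra_of_isAlgebraic halg]
    exact hz
  have hroot : ∀ z : ℂ, z ^ m = 1 → ∃ c : K, φ c = z := fun z hz => by
    have : NeZero m := ⟨hm0⟩
    obtain ⟨i, _, rfl⟩ := hprim.eq_pow_of_pow_eq_one hz
    exact ⟨⟨ζ ^ i, pow_mem (IntermediateField.mem_adjoin_simple_self ℚ ζ) i⟩, rfl⟩
  have hirr : ∀ χ : G → ℂ, Cfsg.IsIrrCharacter G χ → Realizable φ χ := by
    intro χ hχ
    refine realizable_of_mem_span hχ ?_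
    obtain ⟨l, hl⟩ := hB χ hχ
    rw [hl]
    refine list_sum_mem fun f hf => ?_
    obtain ⟨t, -, rfl⟩ := List.mem_map.mp hf
    rw [Int.cast_smul_eq_zsmul ℂ]
    refine Submodule.smul_mem _ _ (Submodule.subset_span (realizable_indFun_linear t.1 t.2.1 ?_))
    intro h
    refine hroot _ ?_
    have h2 : h ^ m = 1 := Subtype.ext (by
      rw [SubgroupClass.coe_pow, hm, Monoid.pow_exponent_eq_one, OneMemClass.coe_one])
    rw [← Units.val_pow_eq_pow_val, ← map_pow, h2, map_one, Units.val_one]
  have hall : Realizable φ ρ.character :=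
    character_induction (P := Realizable φ) realizable_zero hirr
      (fun a b ha hb => Realizable.add ha hb) ρ
  obtain ⟨k, σ, hσ⟩ := hall
  have hchar : (extendScalars φ σ).character = ρ.character := by
    rw [extendScalars_character]; exact funext hσ
  have hk : k = n := by
    have h1 := congrFun hchar 1
    simpa using h1
  subst hk
  refine ⟨extendScalars φ σ, nonempty_equiv_of_character_eq _ _ hchar.symm, fun g i j => ?_⟩
  rw [extendScalars_toMatrix, Matrix.map_apply]
  exact hmem _ (LinearMap.toMatrix' (σ g) i j).2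

end CfsgLib.Char
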