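import Cfsg.Agent.Lib.Char.Clifford
import Cfsg.Agent.Lib.Char.Linear
import Cfsg.Agent.Lib.Char.Integral
import Cfsg.Agent.Lib.CharP.PCore
import Cfsg.Prelude.Def_Transfer
import Cfsg.Prelude.Def_Solvable

/-!
# Faithful characters with values of modulus one at the p-singular elements
-/

set_option autoImplicit false
set_option linter.unusedSectionVars false

open scoped ComplexConjugate

namespace CfsgLib.UnitPSingular

universe u

variable {G : Type u} [Group G]

theorem arith {e t d n : ℕ} (he : 0 < e) (ht : 0 < t) (hn : 1 < n)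
    (h : e * e * t * n + 1 = (e * t * d) ^ 2 + n) (hd : d = 1) :
    t + 1 ≤ n → (t = 1 ∧ e = 1) ∨ (t + 1 = n ∧ e = 1) := by
  intro htn
  subst hd
  obtain ⟨m, rfl⟩ : ∃ m, n = t + m := ⟨n - t, by omega⟩
  have h' : e * e * t * m + 1 = t + m := by nlinarith
  have hm : 1 ≤ m := by omega
  have hle : t + m ≤ t * m + 1 := by nlinarith
  have he1 : e = 1 := by
    by_contra hne
    have h4 : 4 ≤ e * e := by nlinarith [Nat.lt_of_le_of_ne he (Ne.symm hne)]
    have : 4 * (t * m) ≤ e * e * (t * m) := Nat.mul_le_mul_right _ h4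
    nlinarith [Nat.mul_pos ht (show 0 < m by omega)]
  subst he1
  have : t * m + 1 = t + m := by simpa using h'
  rcases Nat.lt_or_ge 1 t with ht2 | ht2
  · right
    refine ⟨?_, rfl⟩
    by_contra hne
    have hm2 : 2 ≤ m := by omega
    nlinarith
  · left
    exact ⟨by omega, rfl⟩

theorem degree_one_of_arith {p e t d n : ℕ} (hp : p.Prime) (hn : p ∣ n)
    (h : e * e * t * n + 1 = (e * t * d) ^ 2 + n) : ¬ p ∣ d := by
  intro hd
  have h1 : p ∣ (e * t * d) ^ 2 + n := dvd_add (dvd_pow (dvd_mul_of_dvd_right hd _) (by norm_num)) hn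
  have h2 : p ∣ e * e * t * n := dvd_mul_of_dvd_right hn _
  rw [← h] at h1
  exact hp.one_lt.ne' (Nat.dvd_one.1 ((Nat.dvd_add_right h2).1 h1))

/-- A central element sends an irreducible character to a value of full modulus. -/
theorem norm_center {χ : G → ℂ} [Finite G] (hχ : Cfsg.IsIrrCharacter G χ) {z : G}
    (hz : z ∈ Subgroup.center G) : ‖χ z‖ = ‖χ 1‖ := by
  obtain ⟨n, ρ, hρ, rfl⟩ := hχ
  have hidx : (Subgroup.centralizer ({z} : Set G)).index = 1 := by
    rw [Subgroup.index_eq_one, eq_top_iff]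
    intro g _
    rw [Subgroup.mem_centralizer_singleton_iff]
    exact (Subgroup.mem_center_iff.1 hz g)
  have h0 : ρ.character 1 ≠ 0 := Char.IsIrrCharacter.apply_one_ne_zero ⟨n, ρ, hρ, rfl⟩
  rcases Char.char_eq_zero_or_norm_eq_finrank ρ z (by rw [hidx]; exact Nat.coprime_one_right _)
    with h | h
  · exfalso
    obtain ⟨μ, hμ⟩ := Char.exists_scalar_of_commute ρ (ρ z) (fun g => by
      rw [← map_mul, ← map_mul, Subgroup.mem_center_iff.1 hz g])
    have hn : n ≠ 0 := by
      intro hn; apply h0; subst hn; simp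
    have hdet : μ ≠ 0 := by
      intro h1
      rw [h1, zero_smul] at hμ
      have h2 : ρ (z⁻¹ * z) = 0 := by rw [map_mul, hμ, mul_zero]
      rw [inv_mul_cancel, map_one] at h2
      have h3 := congrArg (LinearMap.trace ℂ _) h2
      rw [map_zero] at h3
      exact h0 (by rw [Representation.character, map_one]; exact h3)
    rw [Representation.character, hμ, map_smul, smul_eq_mul] at h
    rcases mul_eq_zero.1 h with h' | h'
    · exact hdet h'
    · exact h0 (by rw [Representation.character, map_one]; exact h')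
  · rw [h, Representation.char_one]
    simp

/-- The hypotheses. -/
structure Setup (p : ℕ) (χ : G → ℂ) : Prop where
  prime : p.Prime
  irr : Cfsg.IsIrrCharacter G χ
  faithful : ∀ g : G, χ g = χ 1 → g = 1
  nonlinear : χ 1 ≠ 1
  unit : ∀ g : G, p ∣ orderOf g → ‖χ g‖ = 1

variable {p : ℕ} {χ : G → ℂ} [Fintype G] (S : Setup p χ) (P : Subgroup G) [P.Normal]
  (hP : IsPGroup p P)
include S hP

theorem dvd_orderOf_of_mem {x : G} (hx : x ∈ P) (hx1 : x ≠ 1) : p ∣ orderOf x := by
  have := Fact.mk S.prime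
  obtain ⟨k, hk⟩ := IsPGroup.iff_orderOf.1 hP ⟨x, hx⟩
  rw [Subgroup.orderOf_mk] at hk
  rcases Nat.eq_zero_or_pos k with rfl | hpos
  · exact absurd (orderOf_eq_one_iff.1 (by simpa using hk)) hx1
  · rw [hk]; exact dvd_pow_self p hpos.ne'

variable (hne : P ≠ ⊥) [Fintype P]
include hne

/-- The restriction to `P` is the regular character minus the principal one. -/
theorem restrict_core : ∃ θ : P → ℂ, Cfsg.IsIrrCharacter P θ ∧ θ 1 = 1 ∧
    Cfsg.classInner (fun x : P => χ x) θ = 1 ∧
    (CharTwist.inertia P θ).index + 1 = Nat.card P ∧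
    χ 1 = ((CharTwist.inertia P θ).index : ℂ) ∧
    (∀ ψ : P → ℂ, Cfsg.IsIrrCharacter P ψ → ψ = (fun _ => (1 : ℂ)) ∨
      ∃ g, CharTwist.conjFun P θ g = ψ) ∧
    (∀ g, CharTwist.conjFun P θ g ≠ fun _ => (1 : ℂ)) ∧
    IsMulCommutative P := by
  classical
  have := Fact.mk S.prime
  have : Nontrivial P := (Subgroup.nontrivial_iff_ne_bot P).2 hne
  obtain ⟨θ, hθ, hθc⟩ := Clifford.exists_constituent_res P S.irr
  have hres : Cfsg.IsCharacter P (fun x : P => χ x) :=
    Clifford.isCharacter_res (Char.IsIrrCharacter.isCharacter S.irr) P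
  obtain ⟨e, he⟩ := Char.IsCharacter.exists_nat_classInner hres hθ
  obtain ⟨D, hD0, hD⟩ := Char.IsIrrCharacter.exists_degree S.irr
  obtain ⟨d, hd0, hd⟩ := Char.IsIrrCharacter.exists_degree hθ
  set t := (CharTwist.inertia P θ).index with ht
  have hdeg : D = e * t * d := by
    have h := Clifford.apply_one_eq P S.irr hθ hθc
    rw [hD, he, hd, ← ht] at h
    exact_mod_cast h
  have hresEq := Clifford.res_eq P S.irr hθ hθc
  have horbIrr : ∀ ψ ∈ Clifford.orbit P θ, Cfsg.IsIrrCharacter P ψ := by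
    intro ψ hψ
    obtain ⟨g, rfl⟩ := (Clifford.mem_orbit P).1 hψ
    exact CharTwist.isIrrCharacter_conjFun P hθ g
  have hnormA : Cfsg.classInner (fun x : P => χ x) (fun x : P => χ x) = ((e * e * t : ℕ) : ℂ) := by
    conv_lhs => rw [hresEq, he]
    rw [Char.classInner_smul_left, Char.classInner_smul_right, Char.classInner_sum_left]
    rw [Finset.sum_congr rfl (fun ψ hψ => show Cfsg.classInner ψ (∑ φ ∈ Clifford.orbit P θ, φ) = 1
      from by
        rw [Char.classInner_sum_right, Finset.sum_eq_single ψ]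
        · exact Char.classInner_irr_self (horbIrr ψ hψ)
        · intro φ hφ hne
          exact Char.classInner_irr_of_ne (horbIrr ψ hψ) (horbIrr φ hφ) hne.symm
        · exact fun h => absurd hψ h)]
    rw [Finset.sum_const, Clifford.card_orbit, ← ht, map_natCast, nsmul_eq_mul, mul_one]
    push_cast; ring
  have hsum : ∀ x : P, χ x * conj (χ x) = if x = 1 then ((D : ℂ)) ^ 2 else 1 := by
    intro x
    split_ifs with hx
    · subst hx
      rw [Subgroup.coe_one, hD, map_natCast, sq]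
    · rw [Complex.mul_conj', S.unit x (dvd_orderOf_of_mem S P hP x.2 fun h => hx (Subtype.ext h))]
      simp
  have heq : e * e * t * Nat.card P + 1 = (e * t * d) ^ 2 + Nat.card P := by
    have h := hnormA
    unfold Cfsg.classInner at h
    rw [inv_mul_eq_iff_eq_mul₀ (Nat.cast_ne_zero.mpr Nat.card_pos.ne'),
      Finset.sum_congr rfl (fun x _ => hsum x)] at h
    rw [← Finset.add_sum_erase Finset.univ _ (Finset.mem_univ (1 : P)), if_pos rfl,
      Finset.sum_congr rfl (fun x hx => if_neg (Finset.ne_of_mem_erase hx)), Finset.sum_const,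
      Finset.card_erase_of_mem (Finset.mem_univ _), Finset.card_univ, nsmul_eq_mul, mul_one,
      ← Nat.card_eq_fintype_card, Nat.cast_sub Nat.card_pos] at h
    have h2 : ((e * e * t * Nat.card P + 1 : ℕ) : ℂ) = (((e * t * d) ^ 2 + Nat.card P : ℕ) : ℂ) := by
      rw [← hdeg]; push_cast at h ⊢; linear_combination -h
    exact_mod_cast h2
  obtain ⟨k, hk⟩ := hP.exists_card_eq
  have hk0 : k ≠ 0 := by
    rintro rfl
    exact (Finite.one_lt_card (α := P)).ne' (by simpa using hk)
  have hpn : p ∣ Nat.card P := by rw [hk]; exact dvd_pow_self p hk0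
  have hnd := degree_one_of_arith S.prime hpn heq
  have hd1 : d = 1 := by
    obtain ⟨m, ρ, hρ, hρθ⟩ := hθ
    have := hρ
    have hdvd := Char.finrank_dvd_card ρ
    have hm : m = d := by
      have : ρ.character 1 = (d : ℂ) := by rw [hρθ]; exact hd
      simpa using this
    rw [Module.finrank_fin_fun, hm, hk] at hdvd
    obtain ⟨j, -, hj⟩ := (Nat.dvd_prime_pow S.prime).1 hdvd
    rcases Nat.eq_zero_or_pos j with rfl | hpos
    · simpa using hj
    · exact absurd (hj ▸ dvd_pow_self p hpos.ne') hnd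
  have he0 : 0 < e := Nat.pos_of_ne_zero fun h => hθc (by rw [he, h, Nat.cast_zero])
  have ht0 : 0 < t := Nat.pos_of_ne_zero Subgroup.index_ne_zero_of_finite
  have hD1 : D ≠ 1 := fun h => S.nonlinear (by rw [hD, h, Nat.cast_one])
  -- the orbit avoids the principal character
  have hnp : ∀ g, CharTwist.conjFun P θ g ≠ fun _ => (1 : ℂ) := by
    intro g hg
    have hθ1 : θ = fun _ => (1 : ℂ) := by
      have := congrArg (fun f => CharTwist.conjFun P f g⁻¹) hg
      simp only [← CharTwist.conjFun_mul, mul_inv_cancel, CharTwist.conjFun_one] at this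
      rw [this]; rfl
    have htriv : CharTwist.inertia P θ = ⊤ := by
      rw [eq_top_iff]; intro a _
      rw [CharTwist.mem_inertia, hθ1]; rfl
    have ht1 : t = 1 := by rw [ht, htriv, Subgroup.index_top]
    rw [ht1, hd1] at heq
    have : e = 1 := by
      by_contra hne1
      have h4 : 4 ≤ e * e := by nlinarith [Nat.lt_of_le_of_ne he0 (Ne.symm hne1)]
      have hn1 := Finite.one_lt_card (α := P)
      nlinarith
    exact hD1 (by rw [hdeg, this, ht1, hd1])
  -- counting irreducible characters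
  let prin : Cfsg.IrrCharacter P := ⟨fun _ => 1, Char.isIrrCharacter_principal⟩
  let s : Finset (Cfsg.IrrCharacter P) :=
    insert prin ((Clifford.orbit P θ).attach.image fun ψ => ⟨ψ.1, horbIrr ψ.1 ψ.2⟩)
  have hscard : s.card = t + 1 := by
    rw [Finset.card_insert_of_notMem, Finset.card_image_of_injective, Finset.card_attach,
      Clifford.card_orbit, ← ht]
    · intro a b h
      exact Subtype.ext (congrArg (fun z : Cfsg.IrrCharacter P => (z : P → ℂ)) h)
    · intro h
      obtain ⟨ψ, -, hψ⟩ := Finset.mem_image.1 h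
      obtain ⟨g, hg⟩ := (Clifford.mem_orbit P).1 ψ.2
      exact hnp g (hg.trans (congrArg Subtype.val hψ))
  have hIrr : Fintype.card (Cfsg.IrrCharacter P) = Nat.card (ConjClasses P) := by
    rw [← Nat.card_eq_fintype_card, Char.card_irrCharacter]
  have hcl : Nat.card (ConjClasses P) ≤ Nat.card P :=
    Nat.card_le_card_of_surjective _ ConjClasses.mk_surjective
  have hle : t + 1 ≤ Nat.card P := by
    rw [← hscard]
    exact ((Finset.card_le_univ s).trans hIrr.le).trans hcl
  rcases arith he0 ht0 (Finite.one_lt_card (α := P)) heq hd1 hle with ⟨h1, h2⟩ | ⟨h1, h2⟩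
  · exact absurd (by rw [hdeg, h1, h2, hd1]) hD1
  have hall : s = Finset.univ := by
    refine Finset.eq_univ_of_card _ ?_
    have := Finset.card_le_univ s
    omega
  have hcomm : IsMulCommutative P := by
    have hbij : Function.Bijective (ConjClasses.mk (α := P)) := by
      rw [Fintype.bijective_iff_surjective_and_card]
      refine ⟨ConjClasses.mk_surjective, ?_⟩
      have := Finset.card_le_univ s
      rw [← Nat.card_eq_fintype_card, ← Nat.card_eq_fintype_card]
      omega
    refine ⟨⟨fun a b => ?_⟩⟩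
    have : ConjClasses.mk (a * b * a⁻¹) = ConjClasses.mk b :=
      ConjClasses.mk_eq_mk_iff_isConj.2 (isConj_iff.2 ⟨a⁻¹, by group⟩)
    have := hbij.1 this
    calc a * b = (a * b * a⁻¹) * a := by group
      _ = b * a := by rw [this]
  refine ⟨θ, hθ, by rw [hd, hd1, Nat.cast_one], by rw [he, h2, Nat.cast_one], h1,
    by rw [hD, hdeg, h2, hd1, one_mul, mul_one], ?_, hnp, hcomm⟩
  intro ψ hψ
  have hmem : (⟨ψ, hψ⟩ : Cfsg.IrrCharacter P) ∈ s := hall ▸ Finset.mem_univ _
  rcases Finset.mem_insert.1 hmem with h | h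
  · exact Or.inl (congrArg Subtype.val h)
  · obtain ⟨φ, -, hφ⟩ := Finset.mem_image.1 h
    obtain ⟨g, hg⟩ := (Clifford.mem_orbit P).1 φ.2
    exact Or.inr ⟨g, hg.trans (congrArg Subtype.val hφ)⟩

omit hP hne in
/-- An element at which the modulus is the degree is central. -/
theorem mem_center_of_norm_eq {a : G} (h : ‖χ a‖ = ‖χ 1‖) : a ∈ Subgroup.center G := by
  obtain ⟨n, ρ, hρ, rfl⟩ := S.irr
  have h0 : ρ.character 1 ≠ 0 := Char.IsIrrCharacter.apply_one_ne_zero S.irr
  set ω := ρ.character a / ρ.character 1 with hω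
  have hω1 : ‖ω‖ = 1 := by
    rw [hω, norm_div, h, div_self]; simpa using h0
  have he := Char.eq_smul_id_of_character_eq ρ a ω hω1 (by
    rw [← ρ.char_one, hω, mul_div_cancel₀ _ h0])
  rw [Subgroup.mem_center_iff]
  intro g
  have hk : g * a * g⁻¹ * a⁻¹ = 1 := by
    apply S.faithful
    have hc : ρ g * ρ a = ρ a * ρ g := by
      rw [he]; ext v; simp
    have h1 : ρ (g * a * g⁻¹ * a⁻¹) = ρ 1 := by
      rw [map_mul, map_mul, map_mul, hc, mul_assoc (ρ a) (ρ g), ← map_mul ρ g, mul_inv_cancel,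
        map_one, mul_one, ← map_mul, mul_inv_cancel, map_one]
    simp only [Representation.character, h1]
  calc g * a = (g * a * g⁻¹ * a⁻¹) * a * g := by group
    _ = a * g := by rw [hk, one_mul]

theorem center_coprime (hmax : ∀ N : Subgroup G, N.Normal → IsPGroup p N → N ≤ P) :
    P ⊓ Subgroup.center G = ⊥ ∧ ¬ p ∣ Nat.card (Subgroup.center G) := by
  obtain ⟨θ, -, -, -, ht, hD, -, -, -⟩ := restrict_core S P hP hne
  have h1 : P ⊓ Subgroup.center G = ⊥ := by
    rw [eq_bot_iff]
    rintro x ⟨hxP, hxZ⟩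
    by_contra hx
    have h2 := norm_center S.irr hxZ
    rw [S.unit x (dvd_orderOf_of_mem S P hP hxP hx), hD, Complex.norm_natCast] at h2
    apply S.nonlinear
    rw [hD]
    exact_mod_cast h2.symm
  refine ⟨h1, fun hdvd => ?_⟩
  have := Fact.mk S.prime
  obtain ⟨z, hz⟩ := exists_prime_orderOf_dvd_card' p hdvd
  have hN : (Subgroup.zpowers (z : G)).Normal := ⟨fun x hx g => by
    have : x ∈ Subgroup.center G := (Subgroup.zpowers_le.2 z.2) hx
    rwa [Subgroup.mem_center_iff.1 this g, mul_inv_cancel_right]⟩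
  have hp : IsPGroup p (Subgroup.zpowers (z : G)) := IsPGroup.of_card (n := 1) (by
    rw [Nat.card_zpowers, Subgroup.orderOf_coe, hz, pow_one])
  have hmem : (z : G) ∈ P ⊓ Subgroup.center G := ⟨hmax _ hN hp (Subgroup.mem_zpowers _), z.2⟩
  rw [h1, Subgroup.mem_bot, OneMemClass.coe_eq_one] at hmem
  rw [hmem, orderOf_one] at hz
  exact S.prime.one_lt.ne hz

theorem centralizer_comm : ∀ a b : G, a ∈ Subgroup.centralizer (P : Set G) →
    b ∈ Subgroup.centralizer (P : Set G) → a * b = b * a := by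
  classical
  obtain ⟨θ, hθ, hθ1, hθc, ht, hD, -, -, -⟩ := restrict_core S P hP hne
  intro a b ha hb
  set T := CharTwist.inertia P θ with hT
  have : Fintype T := Fintype.ofFinite T
  have hPT : P ≤ T := CharTwist.le_inertia P (Char.IsIrrCharacter.isClassFunction hθ)
  have hCT : Subgroup.centralizer (P : Set G) ≤ T := by
    intro c hc
    rw [hT, CharTwist.mem_inertia]
    funext n
    refine congrArg θ (Subtype.ext ?_)
    show c * n * c⁻¹ = n
    rw [← (Subgroup.mem_centralizer_iff.1 hc n n.2), mul_inv_cancel_right]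
  obtain ⟨ψ, hψ, hind, -⟩ := Clifford.exists_indFun_eq P T hPT hθ
    (fun g => CharTwist.mem_inertia) S.irr (by rw [hθc]; exact one_ne_zero)
  have hψ1 : ψ 1 = 1 := by
    have h := congrFun hind 1
    rw [Char.indFun_apply_one, hD] at h
    exact mul_eq_left₀ (Nat.cast_ne_zero.mpr Subgroup.index_ne_zero_of_finite) |>.1 h
  obtain ⟨f, hf⟩ := Char.IsCharacter.exists_linear (Char.IsIrrCharacter.isCharacter hψ) hψ1
  have hu : a * b * a⁻¹ * b⁻¹ = 1 := by
    apply S.faithful
    rw [← hind, Char.indFun_apply, Char.indFun_apply_one, hψ1, mul_one]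
    have hterm : ∀ x : G, Cfsg.extendByZero T ψ (x⁻¹ * (a * b * a⁻¹ * b⁻¹) * x) = 1 := by
      intro x
      have hC : (Subgroup.centralizer (P : Set G)).Normal := Subgroup.normal_centralizer
      have ha' : x⁻¹ * a * x ∈ T := hCT (by simpa using hC.conj_mem a ha x⁻¹)
      have hb' : x⁻¹ * b * x ∈ T := hCT (by simpa using hC.conj_mem b hb x⁻¹)
      have e : x⁻¹ * (a * b * a⁻¹ * b⁻¹) * x =
          ((⟨_, ha'⟩ * ⟨_, hb'⟩ * (⟨_, ha'⟩ : T)⁻¹ * (⟨_, hb'⟩ : T)⁻¹ : T) : G) := by
        push_cast; group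
      rw [e, Char.extendByZero_coe, hf, map_mul, map_mul, map_mul, map_inv, map_inv,
        mul_right_comm (f _) (f _), mul_inv_cancel, one_mul, mul_inv_cancel, Units.val_one]
    rw [Finset.sum_congr rfl (fun x _ => hterm x), Finset.sum_const, Finset.card_univ,
      nsmul_eq_mul, mul_one, ← Nat.card_eq_fintype_card, inv_mul_eq_iff_eq_mul₀
      (Nat.cast_ne_zero.mpr Nat.card_pos.ne'), ← Nat.cast_mul, Subgroup.card_mul_index]
  calc a * b = (a * b * a⁻¹ * b⁻¹) * b * a := by group
    _ = b * a := by rw [hu, one_mul]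

theorem centralizer_eq (hmax : ∀ N : Subgroup G, N.Normal → IsPGroup p N → N ≤ P) :
    Subgroup.centralizer (P : Set G) = P ⊔ Subgroup.center G := by
  classical
  obtain ⟨θ, -, -, -, ht, hD, -, -, hPc⟩ := restrict_core S P hP hne
  have := Fact.mk S.prime
  set C := Subgroup.centralizer (P : Set G) with hC
  have hCn : C.Normal := Subgroup.normal_centralizer
  have hcomm := centralizer_comm S P hP hne
  have hPC : P ≤ C := by
    intro x hx
    rw [hC, Subgroup.mem_centralizer_iff]
    intro y hy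
    exact congrArg Subtype.val (hPc.is_comm.comm ⟨y, hy⟩ ⟨x, hx⟩)
  refine le_antisymm ?_ (sup_le hPC (Subgroup.center_le_centralizer _))
  have := Fintype.ofFinite C
  set m := ordCompl[p] (Nat.card C) with hm
  set q := ordProj[p] (Nat.card C) with hq
  have hqm : q * m = Nat.card C := Nat.ordProj_mul_ordCompl_eq_self _ _
  have hmp : ¬ p ∣ m := Nat.not_dvd_ordCompl S.prime Nat.card_pos.ne'
  have hco : Nat.Coprime q m := (Nat.coprime_pow_left_iff
    (Nat.pos_of_ne_zero ?_) _ _).2 ((S.prime.coprime_iff_not_dvd).2 hmp)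
  swap
  · intro h0
    have hn := Finite.one_lt_card_iff_nontrivial.2 ((Subgroup.nontrivial_iff_ne_bot P).2 hne)
    obtain ⟨k, hk⟩ := hP.exists_card_eq
    have hd := Subgroup.card_dvd_of_le hPC
    rw [← hqm, hq, h0, pow_zero, one_mul, hk] at hd
    rcases Nat.eq_zero_or_pos k with rfl | hk0
    · rw [hk, pow_zero] at hn
      exact lt_irrefl 1 hn
    · exact hmp ((dvd_pow_self p hk0.ne').trans hd)
  -- the p-part
  have hpart : ∀ c ∈ C, c ^ q = 1 → c ∈ P := by
    let Q : Subgroup G :=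
      { carrier := {c | c ∈ C ∧ c ^ q = 1}
        one_mem' := ⟨C.one_mem, one_pow _⟩
        mul_mem' := fun {x y} hx hy => ⟨C.mul_mem hx.1 hy.1, by
          rw [Commute.mul_pow (hcomm x y hx.1 hy.1), hx.2, hy.2, one_mul]⟩
        inv_mem' := fun {x} hx => ⟨C.inv_mem hx.1, by rw [inv_pow, hx.2, inv_one]⟩ }
    have hQn : Q.Normal := ⟨fun x hx g => ⟨hCn.conj_mem x hx.1 g, by
      rw [conj_pow, hx.2, mul_one, mul_inv_cancel]⟩⟩
    have hQp : IsPGroup p Q := fun ⟨x, hx⟩ => ⟨(Nat.card C).factorization p,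
      Subtype.ext (by rw [SubgroupClass.coe_pow]; exact hx.2)⟩
    exact fun c hc hcq => hmax Q hQn hQp ⟨hc, hcq⟩
  let A : Subgroup G :=
    { carrier := {c | c ∈ C ∧ c ^ m = 1}
      one_mem' := ⟨C.one_mem, one_pow _⟩
      mul_mem' := fun {x y} hx hy => ⟨C.mul_mem hx.1 hy.1, by
        rw [Commute.mul_pow (hcomm x y hx.1 hy.1), hx.2, hy.2, one_mul]⟩
      inv_mem' := fun {x} hx => ⟨C.inv_mem hx.1, by rw [inv_pow, hx.2, inv_one]⟩ }
  have hpow : ∀ c ∈ C, c ^ (q * m) = 1 := fun c hc => by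
    rw [hqm]; exact congrArg Subtype.val (pow_card_eq_one' (x := (⟨c, hc⟩ : C)))
  have hxm : ∀ x ∈ P, x ^ m = 1 → x = 1 := by
    intro x hx h1
    by_contra hne1
    exact hmp ((dvd_orderOf_of_mem S P hP hx hne1).trans (orderOf_dvd_of_pow_eq_one h1))
  let e : P × A → C := fun z => ⟨(z.1 : G) * z.2, C.mul_mem (hPC z.1.2) z.2.2.1⟩
  have hbij : Function.Bijective e := by
    constructor
    · rintro ⟨x, a⟩ ⟨y, b⟩ h
      have h' : (x : G) * a = y * b := congrArg Subtype.val h
      have h2 : (y : G)⁻¹ * x = b * (a : G)⁻¹ := by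
        rw [eq_mul_inv_iff_mul_eq, mul_assoc, h', inv_mul_cancel_left]
      have h3 : (y : G)⁻¹ * x = 1 := hxm _ (P.mul_mem (P.inv_mem y.2) x.2)
        (h2 ▸ (A.mul_mem b.2 (A.inv_mem a.2)).2)
      have hxy : x = y := Subtype.ext (inv_mul_eq_one.1 h3).symm
      subst hxy
      exact Prod.ext rfl (Subtype.ext (mul_left_cancel h'))
    · rintro ⟨c, hc⟩
      obtain ⟨u, v, huv⟩ := (Nat.Coprime.isCoprime hco)
      have hx : c ^ ((v : ℤ) * m) ∈ P := by
        rw [mul_comm, zpow_mul, zpow_natCast]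
        exact P.zpow_mem (hpart _ (C.pow_mem hc m) (by rw [← pow_mul, mul_comm, hpow c hc])) v
      have ha : c ^ ((u : ℤ) * q) ∈ A := by
        rw [mul_comm, zpow_mul, zpow_natCast]
        exact A.zpow_mem ⟨C.pow_mem hc q, by rw [← pow_mul, hpow c hc]⟩ u
      refine ⟨(⟨_, hx⟩, ⟨_, ha⟩), Subtype.ext ?_⟩
      show c ^ ((v : ℤ) * m) * c ^ ((u : ℤ) * q) = c
      rw [← zpow_add, add_comm, huv, zpow_one]
  obtain ⟨a, ha⟩ := Char.IsCharacter.exists_nat_combination
    (Clifford.isCharacter_res (Char.IsIrrCharacter.isCharacter S.irr) C)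
  have hCc : IsMulCommutative C := ⟨⟨fun x y => Subtype.ext (hcomm x y x.2 y.2)⟩⟩
  have hdeg1 : ∀ φ : Cfsg.IrrCharacter C, (φ : C → ℂ) 1 = 1 := by
    have hsum := Char.sum_degree_sq (G := C)
    have hk : Fintype.card (Cfsg.IrrCharacter C) = Nat.card C := by
      rw [← Nat.card_eq_fintype_card, Char.card_irrCharacter]
      refine (Nat.card_eq_of_bijective (ConjClasses.mk (α := C)) ⟨fun x y h => ?_,
        ConjClasses.mk_surjective⟩).symm
      obtain ⟨c, hc⟩ := isConj_iff.1 (ConjClasses.mk_eq_mk_iff_isConj.1 h)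
      rw [hCc.is_comm.comm c x, mul_inv_cancel_right] at hc
      exact hc
    intro φ
    rw [← Char.IsCharacter.degree_cast (Char.IsIrrCharacter.isCharacter φ.2)]
    have h1 : ∀ χ ∈ (Finset.univ : Finset (Cfsg.IrrCharacter C)),
        1 ≤ Char.degree (χ : C → ℂ) ^ 2 :=
      fun χ _ => Nat.one_le_pow _ _ (Char.IsIrrCharacter.degree_pos χ.2)
    have h2 := (Finset.sum_eq_sum_iff_of_le h1).1 (by
      rw [hsum, Finset.sum_const, Finset.card_univ, smul_eq_mul, mul_one, hk]) φ (Finset.mem_univ _)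
    rw [show Char.degree (φ : C → ℂ) = 1 by nlinarith, Nat.cast_one]
  set t := (CharTwist.inertia P θ).index with htdef
  have hsa : ∑ φ, a φ = t := by
    have h := congrFun ha 1
    simp only [OneMemClass.coe_one, Finset.sum_apply, Pi.smul_apply, smul_eq_mul, hdeg1, mul_one] at h
    rw [hD] at h
    exact_mod_cast h.symm
  have hinner : Cfsg.classInner (fun c : C => χ c) (fun c : C => χ c) = ((∑ φ, a φ * a φ : ℕ) : ℂ) := by
    rw [ha, Char.classInner_sum_smul_sum_smul]
    simp
  have hge : t ≤ ∑ φ, a φ * a φ := hsa ▸ Finset.sum_le_sum fun φ _ => Nat.le_mul_self _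
  have hreal : (Nat.card C : ℝ) * (∑ φ, a φ * a φ : ℕ) = ∑ c : C, ‖χ c‖ ^ 2 := by
    have h := hinner
    unfold Cfsg.classInner at h
    rw [inv_mul_eq_iff_eq_mul₀ (Nat.cast_ne_zero.mpr Nat.card_pos.ne')] at h
    have h2 := congrArg Complex.re h
    simp only [Complex.mul_conj', Complex.re_sum] at h2
    norm_cast at h2 ⊢
    exact h2.symm
  have hn : Nat.card P = t + 1 := ht.symm
  have := Fintype.ofFinite A
  have hsplit : ∑ c : C, ‖χ c‖ ^ 2 = ∑ b : A, (‖χ b‖ ^ 2 + t) := by
    rw [← Fintype.sum_bijective e hbij (fun z => ‖χ (((z.1 : G)) * z.2)‖ ^ 2) _ (fun z => rfl),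
      Fintype.sum_prod_type_right]
    refine Finset.sum_congr rfl fun b _ => ?_
    rw [← Finset.add_sum_erase Finset.univ _ (Finset.mem_univ (1 : P)), Finset.sum_congr rfl
      (g := fun _ => (1 : ℝ)) (fun x hx => ?_), Finset.sum_const,
      Finset.card_erase_of_mem (Finset.mem_univ _), Finset.card_univ, ← Nat.card_eq_fintype_card, hn]
    · simp
    · have hne1 : (x : G) ≠ 1 := fun h => Finset.ne_of_mem_erase hx (Subtype.ext h)
      rw [S.unit, one_pow]
      by_contra hnd
      apply hne1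
      refine hxm _ x.2 ?_
      have hxb : ((x : G) * b) ^ m = 1 := by
        rw [← orderOf_dvd_iff_pow_eq_one]
        refine Nat.Coprime.dvd_of_dvd_mul_left ?_
          (orderOf_dvd_of_pow_eq_one (hpow _ (C.mul_mem (hPC x.2) b.2.1)))
        exact (((S.prime.coprime_iff_not_dvd).2 hnd).pow_left _).symm
      rwa [Commute.mul_pow (hcomm _ _ (hPC x.2) b.2.1), b.2.2, mul_one] at hxb
  have hcardC : Nat.card C = (t + 1) * Nat.card A := by
    rw [← Nat.card_eq_of_bijective e hbij, Nat.card_prod, hn]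
  have hle : ∀ b : A, ‖χ b‖ ^ 2 ≤ (t : ℝ) ^ 2 := by
    intro b
    have h := Char.IsCharacter.norm_apply_le (Char.IsIrrCharacter.isCharacter S.irr) (b : G)
    have hdd : Char.degree χ = t := by
      rw [Char.degree, hD]; simp
    rw [hdd] at h
    exact pow_le_pow_left₀ (norm_nonneg _) h 2
  have hall : ∀ b : A, ‖χ b‖ ^ 2 = (t : ℝ) ^ 2 := by
    have hsumle : ∑ b : A, ‖χ b‖ ^ 2 = ∑ _b : A, (t : ℝ) ^ 2 := by
      refine le_antisymm (Finset.sum_le_sum fun b _ => hle b) ?_
      rw [hsplit, Finset.sum_add_distrib, hcardC] at hreal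
      simp only [Finset.sum_const, Finset.card_univ, nsmul_eq_mul, ← Nat.card_eq_fintype_card]
        at hreal ⊢
      have hge' : (t : ℝ) ≤ ((∑ φ, a φ * a φ : ℕ) : ℝ) := Nat.cast_le.2 hge
      have hA0 : (0 : ℝ) ≤ Nat.card A := Nat.cast_nonneg _
      push_cast at hreal hge' ⊢
      nlinarith [mul_le_mul_of_nonneg_left hge' (by positivity : (0 : ℝ) ≤ ((t : ℝ) + 1) * Nat.card A)]
    exact fun b => (Finset.sum_eq_sum_iff_of_le fun b _ => hle b).1 hsumle b (Finset.mem_univ b)
  intro c hc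
  obtain ⟨⟨x, b⟩, hxb⟩ := hbij.2 ⟨c, hc⟩
  have hxb' : (x : G) * b = c := congrArg Subtype.val hxb
  rw [← hxb']
  refine Subgroup.mul_mem_sup x.2 (mem_center_of_norm_eq S ?_)
  rw [hD, Complex.norm_natCast]
  exact (sq_eq_sq₀ (norm_nonneg _) (Nat.cast_nonneg _)).1 (hall b)

end CfsgLib.UnitPSingular
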