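import Cfsg.Agent.Lib.Char.UnitPSingular
import Mathlib.GroupTheory.Perm.Cycle.Type
import Mathlib.GroupTheory.Sylow
import Mathlib.GroupTheory.IndexNormal
import Mathlib.Tactic.NormNum.Prime

/-!
# The exceptional case: the symmetric group of degree four
-/

set_option autoImplicit false
set_option linter.unusedSectionVars false

open scoped ComplexConjugate

namespace CfsgLib.UnitPSingular

theorem three_facts : ∀ σ : Equiv.Perm (Fin 3), σ * σ * σ = 1 → σ ≠ 1 → ∀ i, σ i ≠ i := by decide +kernel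

theorem three_facts' : ∀ σ τ : Equiv.Perm (Fin 3), (σ * σ * σ = 1 ∧ σ ≠ 1 ∧ τ * τ = 1 ∧ τ ≠ 1) →
    τ * σ * τ * σ⁻¹ ≠ 1 := by decide +kernel

theorem three_facts'' : ∀ σ τ : Equiv.Perm (Fin 3), (σ * σ * σ = 1 ∧ τ * τ = 1) →
    (τ * σ * τ * σ⁻¹) * (τ * σ * τ * σ⁻¹) * (τ * σ * τ * σ⁻¹) = 1 := by decide +kernel

theorem exists_cycle : ∃ σ : Equiv.Perm (Fin 3), σ * σ * σ = 1 ∧ σ ≠ 1 := by decide +kernel

universe u

variable {G : Type u} [Group G] {p : ℕ} {χ : G → ℂ} [Fintype G] (S : Setup p χ) (P : Subgroup G)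
  [P.Normal] (hP : IsPGroup p P) (hne : P ≠ ⊥) [Fintype P]
include S hP hne

theorem irr_linear (η : P → ℂ) (hη : Cfsg.IsIrrCharacter P η) : η 1 = 1 := by
  obtain ⟨θ, -, h1, -, -, -, hall, -, -⟩ := restrict_core S P hP hne
  rcases hall η hη with rfl | ⟨g, rfl⟩
  · rfl
  · exact (congrArg θ (Subtype.ext (by simp))).trans h1

theorem elementary : Cfsg.IsElementaryAbelian p P := by
  classical
  obtain ⟨θ, hθ, hθ1, hθc, ht, hD, hall, hnp, hcomm⟩ := restrict_core S P hP hne
  refine ⟨hcomm, ?_⟩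
  have := Fact.mk S.prime
  let pw : P →* P :=
    { toFun := fun x => x ^ p
      map_one' := one_pow _
      map_mul' := fun a b => Commute.mul_pow (hcomm.is_comm.comm a b) p }
  have hne' : pw.range ≠ ⊤ := by
    intro h
    have hsurj : Function.Surjective pw := MonoidHom.range_eq_top.1 h
    have hinj : Function.Injective pw := Finite.injective_iff_surjective.2 hsurj
    have := (Subgroup.nontrivial_iff_ne_bot P).2 hne
    obtain ⟨k, hk⟩ := hP.exists_card_eq
    have hk0 : k ≠ 0 := by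
      rintro rfl
      exact (Finite.one_lt_card (α := P)).ne' (by simpa using hk)
    obtain ⟨x, hx⟩ := exists_prime_orderOf_dvd_card' (G := P) p (hk ▸ dvd_pow_self p hk0)
    have hx1 : x = 1 := hinj (show x ^ p = 1 ^ p by rw [one_pow, ← hx, pow_orderOf_eq_one])
    rw [hx1, orderOf_one] at hx
    exact S.prime.one_lt.ne hx
  have : pw.range.Normal := ⟨fun x hx g => by
    rwa [hcomm.is_comm.comm g x, mul_inv_cancel_right]⟩
  have := Fintype.ofFinite (P ⧸ pw.range)
  have hQ : Nontrivial (P ⧸ pw.range) :=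
    Finite.one_lt_card_iff_nontrivial.1 (Subgroup.one_lt_index_of_ne_top hne')
  -- a nonprincipal character trivial on the p-th powers
  obtain ⟨η, hη⟩ : ∃ η : Cfsg.IrrCharacter (P ⧸ pw.range),
      (η : (P ⧸ pw.range) → ℂ) ≠ fun _ => (1 : ℂ) := by
    obtain ⟨a, ha⟩ := exists_ne (1 : P ⧸ pw.range)
    by_contra h
    push Not at h
    refine ha ?_
    have := Char.isConj_of_forall_eq (g := a) (h := 1) (fun η hη => by
      rw [show η = fun _ => (1 : ℂ) from h ⟨η, hη⟩])
    exact isConj_one_right.1 this.symm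
  set η' : P → ℂ := (η : (P ⧸ pw.range) → ℂ) ∘ QuotientGroup.mk' pw.range with hη'
  have hη'irr : Cfsg.IsIrrCharacter P η' :=
    CharTwist.isIrrCharacter_comp η.2 _ (QuotientGroup.mk'_surjective _)
  have hη'1 : η' ≠ fun _ => (1 : ℂ) := by
    intro h
    refine hη (funext fun a => ?_)
    obtain ⟨x, rfl⟩ := QuotientGroup.mk'_surjective pw.range a
    exact congrFun h x
  rcases hall η' hη'irr with h | ⟨g0, hg0⟩
  · exact absurd h hη'1
  intro a ha
  have key : ∀ g, CharTwist.conjFun P θ g (⟨a, ha⟩ ^ p) = 1 := by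
    intro g
    have h1 : CharTwist.conjFun P θ g = CharTwist.conjFun P η' (g0⁻¹ * g) := by
      rw [← hg0, ← CharTwist.conjFun_mul, mul_inv_cancel_left]
    rw [h1, ← irr_linear S P hP hne η' hη'irr, hη']
    show η.1 (QuotientGroup.mk' _ _) = η.1 (QuotientGroup.mk' _ 1)
    refine congrArg _ ?_
    rw [map_one, QuotientGroup.mk'_apply, QuotientGroup.eq_one_iff]
    refine ⟨⟨g0⁻¹ * g * a * (g0⁻¹ * g)⁻¹, (inferInstance : P.Normal).conj_mem a ha _⟩,
      Subtype.ext ?_⟩
    show (g0⁻¹ * g * a * (g0⁻¹ * g)⁻¹) ^ p =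
      g0⁻¹ * g * (((⟨a, ha⟩ : P) ^ p : P) : G) * (g0⁻¹ * g)⁻¹
    rw [SubgroupClass.coe_pow, conj_pow]
  have h := S.faithful (((⟨a, ha⟩ : P) ^ p : P) : G) ?_
  · simpa using h
  · have hres := Clifford.res_eq P S.irr hθ (by rw [hθc]; exact one_ne_zero)
    rw [hθc, one_smul] at hres
    have h2 := congrFun hres ((⟨a, ha⟩ : P) ^ p)
    simp only [Finset.sum_apply] at h2
    rw [h2, Finset.sum_congr rfl (g := fun _ => (1 : ℂ)) (fun ψ hψ => by
      obtain ⟨g, rfl⟩ := (Clifford.mem_orbit P).1 hψ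
      exact key g), Finset.sum_const, Clifford.card_orbit, nsmul_eq_mul, mul_one, hD]

theorem fixed_count {θ : P → ℂ} (hθ : Cfsg.IsIrrCharacter P θ) (hθ1 : θ 1 = 1)
    (hθc : Cfsg.classInner (fun x : P => χ x) θ = 1)
    (hD : χ 1 = ((CharTwist.inertia P θ).index : ℂ))
    (y : G) (hy : ∀ x ∈ P, p ∣ orderOf (y * x)) :
    Nat.card {g : G // g⁻¹ * y * g ∈ CharTwist.inertia P θ} =
      Nat.card (CharTwist.inertia P θ) := by
  classical
  set T := CharTwist.inertia P θ with hT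
  have : Fintype T := Fintype.ofFinite T
  have hPT : P ≤ T := CharTwist.le_inertia P (Char.IsIrrCharacter.isClassFunction hθ)
  obtain ⟨ψ, hψ, hind, hψc⟩ := Clifford.exists_indFun_eq P T hPT hθ
    (fun g => CharTwist.mem_inertia) S.irr (by rw [hθc]; exact one_ne_zero)
  have hψ1 : ψ 1 = 1 := by
    have h := congrFun hind 1
    rw [Char.indFun_apply_one, hD] at h
    exact mul_eq_left₀ (Nat.cast_ne_zero.mpr Subgroup.index_ne_zero_of_finite) |>.1 h
  obtain ⟨f, hf⟩ := Char.IsCharacter.exists_linear (Char.IsIrrCharacter.isCharacter hψ) hψ1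
  have hψP : ∀ x : P, ψ ⟨x, hPT x.2⟩ = θ x := by
    intro x
    have h := congrFun (Clifford.res_eq_smul_of_fixed P T hPT hθ
      (fun t ht => CharTwist.mem_inertia.1 ht) hψ (by rw [hψc, hθc]; exact one_ne_zero)) x
    rw [hψc, hθc, one_smul] at h
    exact h
  let w : G → ℂ := fun g => Cfsg.extendByZero T ψ (g⁻¹ * y * g)
  let lam : G → P → ℂ := fun g => CharTwist.conjFun P θ g⁻¹
  have hterm : ∀ (g : G) (x : P),
      Cfsg.extendByZero T ψ (g⁻¹ * (y * x) * g) = w g * lam g x := by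
    intro g x
    have hx : g⁻¹ * (x : G) * g ∈ P := by
      simpa using (inferInstance : P.Normal).conj_mem _ x.2 g⁻¹
    have e : g⁻¹ * (y * x) * g = (g⁻¹ * y * g) * (g⁻¹ * (x : G) * g) := by group
    have hl : lam g x = θ ⟨_, hx⟩ := congrArg θ (Subtype.ext (by simp))
    rw [hl, e]
    by_cases h : g⁻¹ * y * g ∈ T
    · show _ = Cfsg.extendByZero T ψ (g⁻¹ * y * g) * _
      rw [Char.extendByZero_apply_mem T ψ (T.mul_mem h (hPT hx)),
        Char.extendByZero_apply_mem T ψ h, ← hψP, hf, hf, hf, ← Units.val_mul, ← map_mul]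
      rfl
    · show _ = Cfsg.extendByZero T ψ (g⁻¹ * y * g) * _
      rw [Char.extendByZero_of_notMem T ψ h, zero_mul, Char.extendByZero_of_notMem]
      exact fun h' => h ((T.mul_mem_cancel_right (hPT hx)).1 h')
  have hfun : (fun x : P => χ (y * x)) = (Nat.card T : ℂ)⁻¹ • ∑ g : G, w g • lam g := by
    funext x
    rw [← hind, Char.indFun_apply, Pi.smul_apply, Finset.sum_apply, smul_eq_mul]
    exact congrArg _ (Finset.sum_congr rfl fun g _ => hterm g x)
  have hnorm : Cfsg.classInner (fun x : P => χ (y * x)) (fun x : P => χ (y * x)) = 1 := by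
    unfold Cfsg.classInner
    rw [Finset.sum_congr rfl (g := fun _ => (1 : ℂ)) (fun x _ => by
        rw [Complex.mul_conj', S.unit _ (hy x x.2)]; simp),
      Finset.sum_const, Finset.card_univ, nsmul_eq_mul, mul_one, ← Nat.card_eq_fintype_card,
      inv_mul_cancel₀ (Nat.cast_ne_zero.mpr Nat.card_pos.ne')]
  have hlam : ∀ g, Cfsg.IsIrrCharacter P (lam g) := fun g =>
    CharTwist.isIrrCharacter_conjFun P hθ _
  have heqiff : ∀ g h, lam g = lam h ↔ g⁻¹ * h ∈ T := by
    intro g h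
    rw [hT, CharTwist.mem_inertia]
    constructor
    · intro e
      rw [CharTwist.conjFun_mul, show CharTwist.conjFun P θ g⁻¹ = CharTwist.conjFun P θ h⁻¹ from e,
        ← CharTwist.conjFun_mul, inv_mul_cancel, CharTwist.conjFun_one]
    · intro e
      show CharTwist.conjFun P θ g⁻¹ = CharTwist.conjFun P θ h⁻¹
      conv_rhs => rw [← e, ← CharTwist.conjFun_mul, mul_inv_cancel_right]
  have hw : ∀ g h, g⁻¹ * h ∈ T → w h = w g := by
    intro g h e
    show Cfsg.extendByZero T ψ (h⁻¹ * y * h) = Cfsg.extendByZero T ψ (g⁻¹ * y * g)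
    have e2 : h⁻¹ * y * h = (g⁻¹ * h)⁻¹ * (g⁻¹ * y * g) * ((g⁻¹ * h)⁻¹)⁻¹ := by group
    rw [e2]
    exact Char.extendByZero_conj T ψ (Char.IsIrrCharacter.isClassFunction hψ)
      (⟨_, T.inv_mem e⟩) _
  have hw1 : ∀ g, w g * conj (w g) = if g⁻¹ * y * g ∈ T then 1 else 0 := by
    intro g
    split_ifs with h
    · rw [show w g = (f ⟨_, h⟩ : ℂ) from (Char.extendByZero_apply_mem T ψ h).trans (hf _),
        Complex.mul_conj', Complex.norm_eq_one_of_pow_eq_one (n := Nat.card T) (by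
          rw [← Units.val_pow_eq_pow_val, ← map_pow, pow_card_eq_one', map_one, Units.val_one])
          Nat.card_pos.ne']
      simp
    · show Cfsg.extendByZero T ψ _ * _ = 0
      rw [Char.extendByZero_of_notMem T ψ h, zero_mul]
  have hinner : ∀ g, Cfsg.classInner (w g • lam g) (∑ h : G, w h • lam h) =
      (Nat.card T : ℂ) * (w g * conj (w g)) := by
    intro g
    rw [Char.classInner_smul_left, Char.classInner_sum_right,
      Finset.sum_congr rfl (g := fun h => if g⁻¹ * h ∈ T then conj (w g) else 0) (fun h _ => by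
        rw [Char.classInner_smul_right, Char.classInner_irr (hlam g) (hlam h)]
        split_ifs with e e' e'
        · rw [hw g h e', mul_one]
        · exact absurd ((heqiff g h).1 e) e'
        · exact absurd ((heqiff g h).2 e') e
        · rw [mul_zero]),
      ← Equiv.sum_comp (Equiv.mulLeft g), Finset.sum_congr rfl
        (g := fun h => if h ∈ T then conj (w g) else 0) (fun h _ => by simp),
      ← Finset.sum_filter, Finset.sum_const, nsmul_eq_mul]
    rw [show (Finset.univ.filter (fun h => h ∈ T)).card = Nat.card T by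
      rw [Nat.card_eq_fintype_card, Fintype.card_subtype]]
    ring
  rw [hfun, Char.classInner_smul_left, Char.classInner_smul_right, Char.classInner_sum_left,
    Finset.sum_congr rfl (fun g _ => hinner g), ← Finset.mul_sum,
    Finset.sum_congr rfl (fun g _ => hw1 g), Finset.sum_boole, map_inv₀, map_natCast] at hnorm
  have hT0 : (Nat.card T : ℂ) ≠ 0 := Nat.cast_ne_zero.mpr Nat.card_pos.ne'
  rw [inv_mul_cancel_left₀ hT0, inv_mul_eq_iff_eq_mul₀ hT0, mul_one] at hnorm
  rw [Nat.card_eq_fintype_card, Fintype.card_subtype]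
  exact_mod_cast hnorm

theorem exists_outside (hdvd : p ∣ P.index) :
    ∃ y : G, y ∉ P ∧ y ^ p ∈ P ∧ ∃ k : ℕ, orderOf y = p ^ k := by
  have := Fact.mk S.prime
  obtain ⟨c, hc⟩ := exists_prime_orderOf_dvd_card' (G := G ⧸ P) p hdvd
  obtain ⟨g, rfl⟩ := QuotientGroup.mk'_surjective P c
  have hgp : g ^ p ∈ P := by
    rw [← QuotientGroup.eq_one_iff, QuotientGroup.mk_pow, ← QuotientGroup.mk'_apply]
    exact hc ▸ pow_orderOf_eq_one _
  obtain ⟨a, m, hm, hord⟩ := Nat.exists_eq_pow_mul_and_not_dvd (orderOf_pos g).ne' p S.prime.ne_one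
  have hm0 : m ≠ 0 := by rintro rfl; exact hm (dvd_zero p)
  refine ⟨g ^ m, fun h => ?_, ?_, a, ?_⟩
  · have h1 : (QuotientGroup.mk' P g) ^ m = 1 := by
      rw [← map_pow, QuotientGroup.mk'_apply, QuotientGroup.eq_one_iff]; exact h
    exact hm (hc ▸ orderOf_dvd_of_pow_eq_one h1)
  · rw [← pow_mul, mul_comm, pow_mul]; exact P.pow_mem hgp m
  · rw [orderOf_pow_of_dvd hm0 ⟨p ^ a, by rw [hord, mul_comm]⟩, hord,
      Nat.mul_div_cancel _ (Nat.pos_of_ne_zero hm0)]

theorem singular_coset {y : G} (hy : y ∉ P) {k : ℕ} (hk : orderOf y = p ^ k) :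
    ∀ x ∈ P, p ∣ orderOf (y * x) := by
  intro x hx
  have := Fact.mk S.prime
  have hzy : IsPGroup p (Subgroup.zpowers y) :=
    IsPGroup.of_card (n := k) (by rw [Nat.card_zpowers, hk])
  have hsup : IsPGroup p (Subgroup.zpowers y ⊔ P : Subgroup G) :=
    hzy.to_sup_of_normal_right hP
  have hmem : y * x ∈ Subgroup.zpowers y ⊔ P :=
    mul_mem (Subgroup.mem_sup_left (Subgroup.mem_zpowers y)) (Subgroup.mem_sup_right hx)
  obtain ⟨j, hj⟩ := IsPGroup.iff_orderOf.1 hsup ⟨_, hmem⟩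
  rw [Subgroup.orderOf_mk] at hj
  rcases Nat.eq_zero_or_pos j with rfl | hpos
  · exfalso
    rw [pow_zero, orderOf_eq_one_iff, mul_eq_one_iff_eq_inv] at hj
    exact hy (hj ▸ P.inv_mem hx)
  · rw [hj]; exact dvd_pow_self p hpos.ne'

theorem four (hdvd : p ∣ P.index) : p = 2 ∧ Nat.card P = 4 := by
  classical
  obtain ⟨θ, hθ, hθ1, hθc, ht, hD, hall, hnp, hcomm⟩ := restrict_core S P hP hne
  obtain ⟨y, hyP, hyp, k, hk⟩ := exists_outside S P hP hne hdvd
  set T := CharTwist.inertia P θ with hT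
  have hcount := fixed_count S P hP hne hθ hθ1 hθc hD y (singular_coset S P hP hne hyP hk)
  -- the fixed set is one coset
  obtain ⟨⟨g0, hg0⟩⟩ : Nonempty {g : G // g⁻¹ * y * g ∈ T} :=
    (Nat.card_pos_iff.1 (hcount ▸ Nat.card_pos)).1
  have honly : ∀ g, g⁻¹ * y * g ∈ T → g0⁻¹ * g ∈ T := by
    let F : T → {g : G // g⁻¹ * y * g ∈ T} := fun u => ⟨g0 * u, by
      rw [show (g0 * u)⁻¹ * y * (g0 * u) = (u : G)⁻¹ * (g0⁻¹ * y * g0) * u by group]
      exact T.mul_mem (T.mul_mem (T.inv_mem u.2) hg0) u.2⟩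
    have hF : Function.Bijective F := (Nat.bijective_iff_injective_and_card F).2
      ⟨fun u v h => Subtype.ext (mul_left_cancel (congrArg Subtype.val h)), hcount.symm⟩
    intro g hg
    obtain ⟨u, hu⟩ := hF.2 ⟨g, hg⟩
    rw [show g = g0 * (u : G) from (congrArg Subtype.val hu).symm, inv_mul_cancel_left]
    exact u.2
  set l0 := CharTwist.conjFun P θ g0⁻¹ with hl0
  have hfixiff : ∀ g : G, CharTwist.conjFun P (CharTwist.conjFun P θ g⁻¹) y =
      CharTwist.conjFun P θ g⁻¹ ↔ g⁻¹ * y * g ∈ T := by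
    intro g
    rw [hT, CharTwist.mem_inertia, ← CharTwist.conjFun_mul]
    constructor
    · intro h; rw [CharTwist.conjFun_mul, h, ← CharTwist.conjFun_mul, inv_mul_cancel,
        CharTwist.conjFun_one]
    · intro h
      conv_rhs => rw [← h, ← CharTwist.conjFun_mul, mul_inv_cancel_right]
  have huniq : ∀ η : P → ℂ, Cfsg.IsIrrCharacter P η → CharTwist.conjFun P η y = η →
      η = (fun _ => (1 : ℂ)) ∨ η = l0 := by
    intro η hη hfix
    rcases hall η hη with h | ⟨g, hg⟩
    · exact Or.inl h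
    · right
      rw [← inv_inv g] at hg
      rw [← hg] at hfix ⊢
      have h1 := honly _ ((hfixiff g⁻¹).1 hfix)
      rw [hT, CharTwist.mem_inertia] at h1
      rw [hl0, inv_inv, show g0⁻¹ = g0⁻¹ * g⁻¹ * g by group, CharTwist.conjFun_mul, h1]
  have := Fact.mk S.prime
  let σ : P ≃* P := MulAut.conjNormal (H := P) y
  let c : (P →* ℂˣ) → P → ℂ := fun l x => (l x : ℂ)
  have hcinj : Function.Injective c := fun a b h => MonoidHom.ext fun x => Units.ext (congrFun h x)
  have hc1 : c 1 = fun _ => (1 : ℂ) := funext fun x => by simp [c]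
  have hcirr : ∀ l, Cfsg.IsIrrCharacter P (c l) := fun l => Char.isIrrCharacter_linear l
  have hcconj : ∀ l : P →* ℂˣ, CharTwist.conjFun P (c l) y = c (l.comp σ.toMonoidHom) := by
    intro l; rw [CharTwist.conjFun_eq_comp]; rfl
  have hl0irr : Cfsg.IsIrrCharacter P l0 := CharTwist.isIrrCharacter_conjFun P hθ _
  obtain ⟨L0, hL0⟩ := Char.IsCharacter.exists_linear (Char.IsIrrCharacter.isCharacter hl0irr)
    (irr_linear S P hP hne l0 hl0irr)
  have hcL0 : c L0 = l0 := funext fun x => (hL0 x).symm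
  have hL0ne : L0 ≠ 1 := fun h => hnp g0⁻¹ (by rw [← hl0, ← hcL0, h, hc1])
  have hL0fix : L0.comp σ.toMonoidHom = L0 :=
    hcinj (by rw [← hcconj, hcL0, hl0]; exact (hfixiff g0).2 hg0)
  have huniq' : ∀ l : P →* ℂˣ, l.comp σ.toMonoidHom = l → l = 1 ∨ l = L0 := by
    intro l hl
    rcases huniq (c l) (hcirr l) (by rw [hcconj, hl]) with h | h
    · exact Or.inl (hcinj (h.trans hc1.symm))
    · exact Or.inr (hcinj (h.trans hcL0.symm))
  have hL0sq : ∀ x, L0 x * L0 x = 1 := by
    have hfix : (L0 * L0).comp σ.toMonoidHom = L0 * L0 := by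
      rw [MonoidHom.mul_comp, hL0fix]
    rcases huniq' _ hfix with h | h
    · exact fun x => by rw [← MonoidHom.mul_apply, h, MonoidHom.one_apply]
    · refine absurd (MonoidHom.ext fun x => ?_) hL0ne
      have h' := DFunLike.congr_fun h x
      rw [MonoidHom.mul_apply, mul_eq_left] at h'
      rw [h', MonoidHom.one_apply]
  have hsq : ∀ (l : P →* ℂˣ) x, l x * l x = 1 := by
    intro l x
    rcases hall (c l) (hcirr l) with h | ⟨g, hg⟩
    · have : l = 1 := hcinj (h.trans hc1.symm)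
      rw [this, MonoidHom.one_apply, one_mul]
    · have e : CharTwist.conjFun P l0 (g0 * g) = c l := by
        rw [hl0, ← CharTwist.conjFun_mul, inv_mul_cancel_left, hg]
      have hx := congrFun e x
      rw [CharTwist.conjFun] at hx
      refine Units.ext ?_
      rw [Units.val_mul, Units.val_one, show (l x : ℂ) = c l x from rfl, ← hx, hL0, ← Units.val_mul,
        hL0sq, Units.val_one]
  obtain ⟨x0, hx0⟩ : ∃ x, L0 x ≠ 1 := by
    by_contra h; push Not at h; exact hL0ne (MonoidHom.ext h)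
  obtain ⟨e, he⟩ := hP.exists_card_eq
  have hp2 : p = 2 := by
    rcases S.prime.eq_two_or_odd' with h | h
    · exact h
    · exfalso
      apply hx0
      have h1 : L0 x0 ^ Nat.card P = 1 := by rw [← map_pow, pow_card_eq_one', map_one]
      rw [he] at h1
      obtain ⟨j, hj⟩ := h.pow (n := e)
      rwa [hj, pow_succ, pow_mul, sq, hL0sq, one_pow, one_mul] at h1
  refine ⟨hp2, ?_⟩
  have hσσ : ∀ l : P →* ℂˣ, (l.comp σ.toMonoidHom).comp σ.toMonoidHom = l := by
    intro l
    refine MonoidHom.ext fun x => congrArg l (Subtype.ext ?_)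
    show y * (y * x * y⁻¹) * y⁻¹ = x
    have hy2 : y * y ∈ P := by rw [hp2, sq] at hyp; exact hyp
    calc y * (y * x * y⁻¹) * y⁻¹ = (y * y) * x * (y * y)⁻¹ := by group
      _ = x := by
        have hc : y * y * (x : G) = (x : G) * (y * y) :=
          congrArg Subtype.val (hcomm.is_comm.comm (⟨_, hy2⟩ : P) x)
        rw [hc, mul_inv_cancel_right]
  let Φ : (P →* ℂˣ) →* (P →* ℂˣ) :=
    { toFun := fun l => l * l.comp σ.toMonoidHom
      map_one' := by rw [MonoidHom.one_comp, one_mul]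
      map_mul' := fun a b => MonoidHom.ext fun x => by
        simp only [MonoidHom.mul_apply, MonoidHom.comp_apply]; exact mul_mul_mul_comm _ _ _ _ }
  have hker : ((Φ.ker : Subgroup (P →* ℂˣ)) : Set (P →* ℂˣ)) ⊆ {1, L0} := by
    intro l hl
    have h : l * l.comp σ.toMonoidHom = 1 := hl
    have hll : l * l = 1 := MonoidHom.ext fun x => hsq l x
    exact huniq' l (mul_left_cancel (h.trans hll.symm))
  have hrange : ((Φ.range : Subgroup (P →* ℂˣ)) : Set (P →* ℂˣ)) ⊆ {1, L0} := by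
    rintro _ ⟨l, rfl⟩
    refine huniq' _ ?_
    show (l * l.comp σ.toMonoidHom).comp σ.toMonoidHom = l * l.comp σ.toMonoidHom
    rw [MonoidHom.mul_comp, hσσ, mul_comm]
  have hV : Nat.card (P →* ℂˣ) = Nat.card P := by
    rw [Nat.card_congr (Char.linearCharEquiv.trans (Equiv.subtypeUnivEquiv fun η =>
      irr_linear S P hP hne η η.2)), Char.card_irrCharacter]
    refine (Nat.card_eq_of_bijective (ConjClasses.mk (α := P)) ⟨fun a b h => ?_,
      ConjClasses.mk_surjective⟩).symm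
    obtain ⟨u, hu⟩ := isConj_iff.1 (ConjClasses.mk_eq_mk_iff_isConj.1 h)
    rwa [hcomm.is_comm.comm u a, mul_inv_cancel_right] at hu
  have h2 : ∀ A : Subgroup (P →* ℂˣ), ((A : Set (P →* ℂˣ)) ⊆ {1, L0}) → Nat.card A ≤ 2 := by
    intro A hA
    rw [← SetLike.coe_sort_coe, Nat.card_coe_set_eq]
    refine (Set.ncard_le_ncard hA (Set.toFinite _)).trans ((Set.ncard_insert_le _ _).trans ?_)
    simp
  have hle : Nat.card P ≤ 4 := by
    rw [← hV, Subgroup.card_eq_card_quotient_mul_card_subgroup Φ.ker,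
      Nat.card_congr (QuotientGroup.quotientKerEquivRange Φ).toEquiv]
    exact Nat.mul_le_mul (h2 _ hrange) (h2 _ hker)
  have ht1 : T.index ≠ 1 := fun h => S.nonlinear (by rw [hD, h, Nat.cast_one])
  have ht0 : T.index ≠ 0 := Subgroup.index_ne_zero_of_finite
  have hne3 : Nat.card P ≠ 3 := by
    intro h
    rw [he, hp2] at h
    rcases Nat.eq_zero_or_pos e with rfl | hpos
    · simp at h
    · have := dvd_pow_self 2 hpos.ne'
      rw [h] at this; omega
  omega

theorem symmetric (hmax : ∀ N : Subgroup G, N.Normal → IsPGroup p N → N ≤ P)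
    (hdvd : p ∣ P.index) :
    p = 2 ∧ Odd (Nat.card (Subgroup.center G)) ∧
      ∃ H : Subgroup G, Nonempty (H ≃* Equiv.Perm (Fin 4)) ∧
        H ⊓ Subgroup.center G = ⊥ ∧ H ⊔ Subgroup.center G = ⊤ := by
  classical
  obtain ⟨hp2, hcard⟩ := four S P hP hne hdvd
  obtain ⟨hPZ, hZp⟩ := center_coprime S P hP hne hmax
  have hCeq := centralizer_eq S P hP hne hmax
  have hZodd : Odd (Nat.card (Subgroup.center G)) := by
    rw [← Nat.not_even_iff_odd, even_iff_two_dvd]; exact hp2 ▸ hZp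
  refine ⟨hp2, hZodd, ?_⟩
  obtain ⟨θ, -, -, -, ht, -, -, -, hcomm⟩ := restrict_core S P hP hne
  set T := CharTwist.inertia P θ with hT
  have hT3 : T.index = 3 := by omega
  set C := Subgroup.centralizer (P : Set G) with hC
  have hCT : C ≤ T := by
    intro c hc
    rw [hT, CharTwist.mem_inertia]
    funext n
    refine congrArg θ (Subtype.ext ?_)
    show c * n * c⁻¹ = n
    rw [← (Subgroup.mem_centralizer_iff.1 hc n n.2), mul_inv_cancel_right]
  -- decomposition of the centraliser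
  have hdec : ∀ c ∈ C, ∃ x ∈ P, ∃ z ∈ Subgroup.center G, x * z = c := by
    intro c hc
    rw [hCeq] at hc
    exact Subgroup.mem_sup_of_normal_left.1 hc
  have hZpow : ∀ z ∈ Subgroup.center G, ∀ j : ℕ, z ^ 2 ^ j = 1 → z = 1 := by
    intro z hz j hj
    have h1 : orderOf z ∣ Nat.card (Subgroup.center G) := by
      rw [← Subgroup.orderOf_mk _ hz]; exact orderOf_dvd_natCard _
    have h2 : orderOf z ∣ 2 ^ j := orderOf_dvd_of_pow_eq_one hj
    exact orderOf_eq_one_iff.1 (Nat.eq_one_of_dvd_coprimes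
      ((Nat.coprime_two_left.2 hZodd).pow_left j) h2 h1)
  have hPpow : ∀ x ∈ P, x ^ 4 = 1 := fun x hx => by
    rw [← hcard]; exact congrArg Subtype.val (pow_card_eq_one' (x := (⟨x, hx⟩ : P)))
  have htwo : ∀ c ∈ C, ∀ j : ℕ, c ^ 2 ^ j = 1 → c ∈ P := by
    intro c hc j hj
    obtain ⟨x, hx, z, hz, rfl⟩ := hdec c hc
    have hxz : Commute x z := (Subgroup.mem_center_iff.1 hz x)
    have hz1 : z ^ 2 ^ (j + 2) = 1 := by
      have h := congrArg (fun w => w ^ 4) hj
      simp only [one_pow, ← pow_mul] at h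
      rw [hxz.mul_pow, show 2 ^ j * 4 = 4 * 2 ^ j from mul_comm _ _, pow_mul x, hPpow x hx, one_pow,
        one_mul] at h
      rw [pow_add, mul_comm]
      exact h
    rwa [hZpow z hz _ hz1, mul_one]
  have hthree : ∀ c ∈ C, ∀ j : ℕ, c ^ 3 ^ j = 1 → c ∈ Subgroup.center G := by
    intro c hc j hj
    obtain ⟨x, hx, z, hz, rfl⟩ := hdec c hc
    have hxz : Commute x z := (Subgroup.mem_center_iff.1 hz x)
    rw [hxz.mul_pow] at hj
    have hxm : x ^ 3 ^ j ∈ P ⊓ Subgroup.center G := ⟨P.pow_mem hx _, by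
      rw [eq_inv_of_mul_eq_one_left hj]
      exact (Subgroup.center G).inv_mem ((Subgroup.center G).pow_mem hz _)⟩
    rw [hPZ, Subgroup.mem_bot] at hxm
    have hx1 : x = 1 := orderOf_eq_one_iff.1 (Nat.eq_one_of_dvd_coprimes
      (show Nat.Coprime (3 ^ j) 4 from Nat.Coprime.pow_left j (by norm_num))
      (orderOf_dvd_of_pow_eq_one hxm) (orderOf_dvd_of_pow_eq_one (hPpow x hx)))
    rwa [hx1, one_mul]
  -- the action on the three involutions
  let Ω := {x : G // x ∈ P ∧ x ≠ 1}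
  let act : G →* Equiv.Perm Ω :=
    { toFun := fun g =>
        { toFun := fun x => ⟨g * x.1 * g⁻¹, (inferInstance : P.Normal).conj_mem _ x.2.1 g,
            fun h => x.2.2 (by simpa using h)⟩
          invFun := fun x => ⟨g⁻¹ * x.1 * g,
            by simpa using (inferInstance : P.Normal).conj_mem _ x.2.1 g⁻¹,
            fun h => x.2.2 (by
              calc x.1 = g * (g⁻¹ * x.1 * g) * g⁻¹ := by group
                _ = 1 := by rw [h]; group)⟩
          left_inv := fun x => Subtype.ext (by group)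
          right_inv := fun x => Subtype.ext (by group) }
      map_one' := Equiv.ext fun x => Subtype.ext (by simp)
      map_mul' := fun g h => Equiv.ext fun x => Subtype.ext (by simp [mul_assoc]) }
  have hΩ : Nat.card Ω = 3 := by
    have e : Ω ≃ {x : P // x ≠ 1} :=
      ⟨fun x => ⟨⟨x.1, x.2.1⟩, fun h => x.2.2 (congrArg Subtype.val h)⟩,
        fun x => ⟨x.1.1, x.1.2, fun h => x.2 (Subtype.ext h)⟩, fun _ => rfl, fun _ => rfl⟩
    rw [Nat.card_congr e, Nat.card_eq_fintype_card, Fintype.card_subtype_compl,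
      Fintype.card_subtype_eq, ← Nat.card_eq_fintype_card, hcard]
  let e3 : Ω ≃ Fin 3 := (Finite.equivFin Ω).trans (finCongr hΩ)
  let φ : G →* Equiv.Perm (Fin 3) := e3.permCongrHom.toMonoidHom.comp act
  have hφ0 : ∀ g, φ g = 1 ↔ g ∈ C := by
    intro g
    show e3.permCongrHom (act g) = 1 ↔ _
    rw [map_eq_one_iff _ e3.permCongrHom.injective, hC, Subgroup.mem_centralizer_iff]
    constructor
    · intro h x hx
      rcases eq_or_ne x 1 with rfl | hx1
      · rw [one_mul, mul_one]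
      · have h' : g * x * g⁻¹ = x := congrArg Subtype.val (Equiv.ext_iff.1 h ⟨x, hx, hx1⟩)
        rw [mul_inv_eq_iff_eq_mul] at h'
        exact h'.symm
    · intro h
      refine Equiv.ext fun x => Subtype.ext ?_
      show g * x.1 * g⁻¹ = x.1
      rw [← h x.1 x.2.1, mul_inv_cancel_right]
  have hker : φ.ker = C := Subgroup.ext fun g => hφ0 g
  have hP6 : Nat.card (Equiv.Perm (Fin 3)) = 6 := by
    rw [Nat.card_eq_fintype_card]; rfl
  have hidx : C.index = Nat.card φ.range := by rw [← hker, Subgroup.index_ker]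
  have hsurj : Function.Surjective φ := by
    rw [← MonoidHom.range_eq_top]
    refine Subgroup.eq_top_of_card_eq _ ?_
    have h6 : Nat.card φ.range ∣ 6 := hP6 ▸ Subgroup.card_subgroup_dvd_card _
    have h3 : 3 ∣ Nat.card φ.range := hidx ▸ hT3 ▸ Subgroup.index_dvd_of_le hCT
    obtain ⟨y, hyP, hy2, k, hk⟩ := exists_outside S P hP hne hdvd
    have h2 : 2 ∣ Nat.card φ.range := by
      have hyC : y ∉ C := fun h => hyP (htwo y h k (by rw [← hp2, ← hk, pow_orderOf_eq_one]))
      have hsq : (φ y) ^ 2 = 1 := by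
        rw [← map_pow, hφ0, hC, Subgroup.mem_centralizer_iff]
        intro x hx
        rw [hp2] at hy2
        exact congrArg Subtype.val (hcomm.is_comm.comm (⟨x, hx⟩ : P) ⟨_, hy2⟩)
      have ho : orderOf (⟨φ y, y, rfl⟩ : φ.range) = 2 := by
        rw [← Subgroup.orderOf_coe]
        exact orderOf_eq_prime hsq (fun h => hyC ((hφ0 y).1 h))
      exact ho ▸ orderOf_dvd_natCard _
    rw [hP6]
    exact Nat.dvd_antisymm h6 (Nat.Coprime.mul_dvd_of_dvd_of_dvd (by norm_num : Nat.Coprime 2 3) h2 h3)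
  -- an element of 3-power order outside C
  obtain ⟨σ0, hσ3, hσ1⟩ := exists_cycle
  obtain ⟨g1, hg1⟩ := hsurj σ0
  obtain ⟨a, m, hm, hord⟩ := Nat.exists_eq_pow_mul_and_not_dvd (orderOf_pos g1).ne' 3 (by norm_num)
  set q := g1 ^ m with hq
  have hq3 : q ^ 3 ^ a = 1 := by
    rw [hq, ← pow_mul, mul_comm, ← hord, pow_orderOf_eq_one]
  have hordσ : orderOf σ0 = 3 := orderOf_eq_prime (by rw [pow_three, ← mul_assoc]; exact hσ3) hσ1
  have hqσ : φ q * φ q * φ q = 1 ∧ φ q ≠ 1 := by
    rw [hq, map_pow, hg1]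
    refine ⟨?_, fun h => hm (hordσ ▸ orderOf_dvd_of_pow_eq_one h)⟩
    rw [← pow_three', ← pow_mul, mul_comm, pow_mul, pow_three', hσ3, one_pow]
  have hoq : orderOf (φ q) = 3 :=
    orderOf_eq_prime (by rw [pow_three, ← mul_assoc]; exact hqσ.1) hqσ.2
  set M := (Subgroup.zpowers (φ q)).comap φ with hM
  have hMidx : M.index = 2 := by
    rw [hM, Subgroup.index_comap_of_surjective _ hsurj]
    have h := Subgroup.card_mul_index (Subgroup.zpowers (φ q))
    rw [Nat.card_zpowers, hoq, hP6] at h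
    omega
  have hMn : M.Normal := Subgroup.normal_of_index_eq_two hMidx
  have hqM : q ∈ M := Subgroup.mem_zpowers _
  have : Fact (Nat.Prime 3) := ⟨by norm_num⟩
  obtain ⟨j, -, hj⟩ := (Nat.dvd_prime_pow (by norm_num : Nat.Prime 3)).1 (orderOf_dvd_of_pow_eq_one hq3)
  obtain ⟨T3, hT3q⟩ := (IsPGroup.of_card (G := Subgroup.zpowers (⟨q, hqM⟩ : M)) (p := 3) (n := j)
    (by rw [Nat.card_zpowers, Subgroup.orderOf_mk, hj])).exists_le_sylow
  set T3g := (T3 : Subgroup M).map M.subtype with hT3g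
  have hT3p : ∀ b ∈ T3g, ∃ i : ℕ, b ^ 3 ^ i = 1 := by
    rintro _ ⟨b, hb, rfl⟩
    obtain ⟨i, hi⟩ := T3.isPGroup' ⟨b, hb⟩
    exact ⟨i, by
      have h := congrArg (fun w : (T3 : Subgroup M) => ((w : M) : G)) hi
      simpa using h⟩
  have hqT : q ∈ T3g := ⟨⟨q, hqM⟩, hT3q (Subgroup.mem_zpowers _), rfl⟩
  have hTcomm : ∀ b ∈ T3g, b * q = q * b := by
    intro b hb
    have hbM : φ b ∈ Subgroup.zpowers (φ q) := by
      obtain ⟨b', -, rfl⟩ := hb; exact b'.2
    obtain ⟨i, hi⟩ := Subgroup.mem_zpowers_iff.1 hbM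
    have hcT : b * (q ^ i)⁻¹ ∈ T3g := T3g.mul_mem hb (T3g.inv_mem (T3g.zpow_mem hqT i))
    obtain ⟨j', hj'⟩ := hT3p _ hcT
    have hcC : b * (q ^ i)⁻¹ ∈ C := by
      rw [← hφ0, map_mul, map_inv, map_zpow, hi, mul_inv_cancel]
    have hz := Subgroup.mem_center_iff.1 (hthree _ hcC j' hj') q
    calc b * q = b * (q ^ i)⁻¹ * q * q ^ i := by group
      _ = q * (b * (q ^ i)⁻¹) * q ^ i := by rw [hz]
      _ = q * b := by group
  have hfrat : Subgroup.normalizer (T3g : Set G) ⊔ M = ⊤ := Sylow.normalizer_sup_eq_top T3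
  obtain ⟨g2, hg2N, hg2M⟩ : ∃ g2, g2 ∈ Subgroup.normalizer (T3g : Set G) ∧ g2 ∉ M := by
    by_contra h
    push Not at h
    have : M = ⊤ := by rw [← hfrat, sup_eq_right.2 h]
    rw [this, Subgroup.index_top] at hMidx
    omega
  obtain ⟨a2, m2, hm2, hord2⟩ :=
    Nat.exists_eq_pow_mul_and_not_dvd (orderOf_pos g2).ne' 2 (by norm_num)
  set u := g2 ^ m2 with hu
  have huM : u ∉ M := by
    intro h
    obtain ⟨l, hl⟩ : Odd m2 := by rw [← Nat.not_even_iff_odd, even_iff_two_dvd]; exact hm2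
    refine hg2M ?_
    rw [hu, hl, pow_succ, pow_mul] at h
    exact (M.mul_mem_cancel_left (M.pow_mem (Subgroup.sq_mem_of_index_two hMidx g2) l)).1 h
  have huN : u ∈ Subgroup.normalizer (T3g : Set G) := pow_mem hg2N m2
  have hu2 : u ^ 2 ^ a2 = 1 := by rw [hu, ← pow_mul, mul_comm, ← hord2, pow_orderOf_eq_one]
  have huu : u * u = 1 := by
    have hm : u * u ∈ M := by rw [← sq]; exact Subgroup.sq_mem_of_index_two hMidx u
    have hcube : φ (u * u) * φ (u * u) * φ (u * u) = 1 := by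
      have h1 : φ (u * u) ^ orderOf (φ q) = 1 := by
        obtain ⟨i, hi⟩ := Subgroup.mem_zpowers_iff.1 (show φ (u * u) ∈ Subgroup.zpowers (φ q) from hm)
        rw [← hi, ← zpow_natCast, ← zpow_mul, mul_comm, zpow_mul, zpow_natCast,
          pow_orderOf_eq_one, one_zpow]
      rw [hoq, pow_three, ← mul_assoc] at h1
      exact h1
    have hpw : φ (u * u) ^ 2 ^ a2 = 1 := by
      rw [← sq, map_pow, ← pow_mul, mul_comm, pow_mul, ← map_pow, hu2, map_one, one_pow]
    have h1 : φ (u * u) = 1 := orderOf_eq_one_iff.1 (Nat.eq_one_of_dvd_coprimes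
      (show Nat.Coprime (2 ^ a2) 3 from Nat.Coprime.pow_left _ (by norm_num))
      (orderOf_dvd_of_pow_eq_one hpw)
      (orderOf_dvd_of_pow_eq_one (by rw [pow_three, ← mul_assoc]; exact hcube)))
    have huP : u * u ∈ P := htwo _ ((hφ0 _).1 h1) a2 (by
      rw [← sq, ← pow_mul, mul_comm, pow_mul, hu2, one_pow])
    by_contra hne1
    have hconj : q * (u * u) * q⁻¹ = u * u := by
      have hN : u * u ∈ Subgroup.normalizer (T3g : Set G) := mul_mem huN huN
      have hcT : u * u * q * (u * u)⁻¹ * q⁻¹ ∈ T3g :=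
        T3g.mul_mem ((Subgroup.mem_normalizer_iff.1 hN q).1 hqT) (T3g.inv_mem hqT)
      have hcP : u * u * q * (u * u)⁻¹ * q⁻¹ ∈ P := by
        rw [show u * u * q * (u * u)⁻¹ * q⁻¹ = u * u * (q * (u * u)⁻¹ * q⁻¹) by group]
        exact P.mul_mem huP ((inferInstance : P.Normal).conj_mem _ (P.inv_mem huP) q)
      obtain ⟨i, hi⟩ := hT3p _ hcT
      have h1 : u * u * q * (u * u)⁻¹ * q⁻¹ = 1 :=
        orderOf_eq_one_iff.1 (Nat.eq_one_of_dvd_coprimes
          (show Nat.Coprime (3 ^ i) 4 from Nat.Coprime.pow_left i (by norm_num))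
          (orderOf_dvd_of_pow_eq_one hi) (orderOf_dvd_of_pow_eq_one (hPpow _ hcP)))
      have h2 : u * u * q = q * (u * u) := by
        calc u * u * q = (u * u * q * (u * u)⁻¹ * q⁻¹) * q * (u * u) := by group
          _ = q * (u * u) := by rw [h1, one_mul]
      rw [← h2, mul_inv_cancel_right]
    refine three_facts (φ q) hqσ.1 hqσ.2 (e3 ⟨u * u, huP, hne1⟩) ?_
    show e3 (act q (e3.symm (e3 ⟨u * u, huP, hne1⟩))) = e3 ⟨u * u, huP, hne1⟩
    rw [Equiv.symm_apply_apply]
    exact congrArg e3 (Subtype.ext hconj)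
  have huinv : u⁻¹ = u := inv_eq_of_mul_eq_one_right huu
  have huC : φ u ≠ 1 := fun h => huM (by
    rw [hM, Subgroup.mem_comap, h]; exact one_mem _)
  have huq : u * q * u ∈ T3g := by
    have h := (Subgroup.mem_normalizer_iff.1 huN q).1 hqT
    rwa [huinv] at h
  set r := u * q * u * q⁻¹ with hr
  have hrφ : φ r ≠ 1 := by
    rw [hr, map_mul, map_mul, map_mul, map_inv]
    exact three_facts' _ _ ⟨hqσ.1, hqσ.2, by rw [← map_mul, huu, map_one], huC⟩
  have hrinv : u * r * u = r⁻¹ := by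
    have hc := hTcomm _ huq
    have h1 : u * r * u = q * (u * q⁻¹ * u) := by
      rw [hr]
      calc u * (u * q * u * q⁻¹) * u = (u * u) * q * u * q⁻¹ * u := by group
        _ = q * (u * q⁻¹ * u) := by rw [huu, one_mul]; group
    have h2 : u * q⁻¹ * u = (u * q * u)⁻¹ := by
      rw [mul_inv_rev, mul_inv_rev, huinv, mul_assoc]
    rw [h1, h2, hr]
    group
  have hr3 : r ^ 3 = 1 := by
    have hrC : r ^ 3 ∈ C := by
      rw [← hφ0, map_pow, hr, map_mul, map_mul, map_mul, map_inv, pow_three, ← mul_assoc]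
      exact three_facts'' _ _ ⟨hqσ.1, by rw [← map_mul, huu, map_one]⟩
    obtain ⟨i, hi⟩ := hT3p r (T3g.mul_mem huq (T3g.inv_mem hqT))
    have hz := hthree _ hrC i (by rw [← pow_mul, mul_comm, pow_mul, hi, one_pow])
    have h1 : (r ^ 3)⁻¹ = r ^ 3 := by
      have e : (u * r * u) ^ 3 = u * r ^ 3 * u := by
        have := conj_pow (i := 3) (a := u) (b := r)
        rwa [huinv] at this
      rw [← inv_pow, ← hrinv, e, (Subgroup.mem_center_iff.1 hz u), mul_assoc, huu, mul_one]
    have h6 : (r ^ 3) ^ 2 = 1 := by rw [sq]; nth_rw 1 [← h1]; exact inv_mul_cancel _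
    exact orderOf_eq_one_iff.1 (Nat.eq_one_of_dvd_coprimes
      (show Nat.Coprime (3 ^ i) 2 from Nat.Coprime.pow_left i (by norm_num))
      (orderOf_dvd_of_pow_eq_one (by rw [← pow_mul, mul_comm, pow_mul, hi, one_pow]))
      (orderOf_dvd_of_pow_eq_one h6))
  set K := Subgroup.zpowers r ⊔ Subgroup.zpowers u with hK
  have hnorm : Subgroup.zpowers u ≤ Subgroup.normalizer (Subgroup.zpowers r : Set G) := by
    rw [Subgroup.zpowers_le, Subgroup.mem_normalizer_iff_map_conj_eq, MonoidHom.map_zpowers]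
    show Subgroup.zpowers (u * r * u⁻¹) = _
    rw [huinv, hrinv, Subgroup.zpowers_inv]
  have hinj : ∀ k ∈ K, k ∈ C → k = 1 := by
    intro k hk hkC
    rw [hK, ← SetLike.mem_coe, Subgroup.coe_mul_of_right_le_normalizer_left _ _ hnorm] at hk
    obtain ⟨x, hx, w, hw, rfl⟩ := hk
    obtain ⟨i, rfl⟩ := Subgroup.mem_zpowers_iff.1 hx
    obtain ⟨l, rfl⟩ := Subgroup.mem_zpowers_iff.1 hw
    rw [← hφ0, map_mul, map_zpow, map_zpow] at hkC
    have ho3 : orderOf (φ r) = 3 := orderOf_eq_prime (by rw [← map_pow, hr3, map_one]) hrφ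
    have ho2 : orderOf (φ u) = 2 := orderOf_eq_prime (by rw [sq, ← map_mul, huu, map_one]) huC
    have h1 : φ u ^ l = 1 := by
      have e1 : φ u ^ l = (φ r ^ i)⁻¹ := eq_inv_of_mul_eq_one_right hkC
      refine orderOf_eq_one_iff.1 (Nat.eq_one_of_dvd_coprimes
        (show Nat.Coprime 2 3 by norm_num) (ho2 ▸ orderOf_dvd_of_mem_zpowers ⟨l, rfl⟩) ?_)
      rw [e1, orderOf_inv]
      have h3 : orderOf (φ r ^ i) ∣ orderOf (φ r) :=
        orderOf_dvd_of_mem_zpowers (Subgroup.zpow_mem_zpowers _ i)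
      rwa [ho3] at h3
    have h2 : φ r ^ i = 1 := by rwa [h1, mul_one] at hkC
    have hl : u ^ l = 1 := by
      rw [← orderOf_dvd_iff_zpow_eq_one] at h1 ⊢
      rw [ho2] at h1
      rwa [orderOf_eq_prime (by rw [sq, huu]) (fun h => huC (by rw [h, map_one]))]
    have hi : r ^ i = 1 := by
      rw [← orderOf_dvd_iff_zpow_eq_one] at h2 ⊢
      rw [ho3] at h2
      rwa [orderOf_eq_prime hr3 (fun h => hrφ (by rw [h, map_one]))]
    show r ^ i * u ^ l = 1
    rw [hi, hl, one_mul]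
  have hKsurj : ∀ g : G, ∃ k ∈ K, φ k = φ g := by
    have hrK : r ∈ K := Subgroup.mem_sup_left (Subgroup.mem_zpowers r)
    have huK : u ∈ K := Subgroup.mem_sup_right (Subgroup.mem_zpowers u)
    have h6 : 6 ∣ Nat.card (K.map φ) := by
      have h2 : 2 ∣ Nat.card (K.map φ) := by
        have h := orderOf_dvd_natCard (⟨φ u, u, huK, rfl⟩ : K.map φ)
        rwa [← Subgroup.orderOf_coe,
          orderOf_eq_prime (p := 2) (by rw [sq, ← map_mul, huu, map_one]) huC] at h
      have h3 : 3 ∣ Nat.card (K.map φ) := by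
        have h := orderOf_dvd_natCard (⟨φ r, r, hrK, rfl⟩ : K.map φ)
        rwa [← Subgroup.orderOf_coe,
          orderOf_eq_prime (p := 3) (by rw [← map_pow, hr3, map_one]) hrφ] at h
      exact Nat.Coprime.mul_dvd_of_dvd_of_dvd (by norm_num : Nat.Coprime 2 3) h2 h3
    have htop : K.map φ = ⊤ := Subgroup.eq_top_of_card_eq _ (by
      rw [hP6]
      exact Nat.dvd_antisymm (hP6 ▸ Subgroup.card_subgroup_dvd_card _) h6)
    intro g
    exact Subgroup.mem_map.1 (htop ▸ Subgroup.mem_top (φ g) : φ g ∈ K.map φ)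
  set H := P ⊔ K with hH
  have hPK : ∀ h ∈ H, ∃ x ∈ P, ∃ k ∈ K, x * k = h :=
    fun h hh => Subgroup.mem_sup_of_normal_left.1 hh
  have hPC : P ≤ C := hCeq ▸ le_sup_left
  have hHZ : H ⊓ Subgroup.center G = ⊥ := by
    rw [eq_bot_iff]
    rintro h ⟨hh, hz⟩
    obtain ⟨x, hx, k, hk, rfl⟩ := hPK h hh
    have hkC : k ∈ C := by
      have h1 : x * k ∈ C := Subgroup.center_le_centralizer _ hz
      exact (C.mul_mem_cancel_left (hPC hx)).1 h1
    rw [hinj k hk hkC, mul_one] at hz ⊢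
    exact hPZ ▸ (⟨hx, hz⟩ : x ∈ P ⊓ Subgroup.center G)
  refine ⟨H, ?_, hHZ, ?_⟩
  swap
  · rw [eq_top_iff]
    intro g _
    obtain ⟨k, hk, hkg⟩ := hKsurj g
    have hc : g * k⁻¹ ∈ C := by rw [← hφ0, map_mul, map_inv, hkg, mul_inv_cancel]
    obtain ⟨x, hx, z, hz, hxz⟩ := hdec _ hc
    have : g = (x * k) * z := by
      rw [mul_assoc, Subgroup.mem_center_iff.1 hz k, ← mul_assoc, hxz, inv_mul_cancel_right]
    rw [this]
    exact Subgroup.mul_mem_sup (mul_mem (Subgroup.mem_sup_left hx) (Subgroup.mem_sup_right hk)) hz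
  · set K' := K.subgroupOf H with hK'
    have hcard4 : Nat.card (H ⧸ K') = 4 := by
      rw [← hcard]
      refine (Nat.card_eq_of_bijective
        (fun x : P => (QuotientGroup.mk (⟨x, Subgroup.mem_sup_left x.2⟩ : H) : H ⧸ K')) ⟨?_, ?_⟩).symm
      · intro x x' h
        simp only at h
        have h0 := QuotientGroup.eq.1 h
        have h1 : (x : G)⁻¹ * x' ∈ K := h0
        have h2 := hinj _ h1 (hPC (P.mul_mem (P.inv_mem x.2) x'.2))
        exact Subtype.ext (inv_mul_eq_one.1 h2)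
      · intro c
        induction c using QuotientGroup.induction_on with
        | H h =>
          obtain ⟨x, hx, k, hk, hxk⟩ := hPK h h.2
          refine ⟨⟨x, hx⟩, QuotientGroup.eq.2 ?_⟩
          show x⁻¹ * (h : G) ∈ K
          rw [← hxk, inv_mul_cancel_left]; exact hk
    let ψ : H →* Equiv.Perm (Fin 4) :=
      ((Finite.equivFin (H ⧸ K')).trans (finCongr hcard4)).permCongrHom.toMonoidHom.comp
        (MulAction.toPermHom H (H ⧸ K'))
    have hinjψ : Function.Injective ψ := by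
      rw [← MonoidHom.ker_eq_bot_iff, eq_bot_iff]
      intro h hh
      have hh' : ∀ g : H, g⁻¹ * h * g ∈ K' := by
        intro g
        have h0 : MulAction.toPermHom H (H ⧸ K') h = 1 :=
          (map_eq_one_iff _ ((Finite.equivFin (H ⧸ K')).trans (finCongr hcard4)).permCongrHom.injective).1 hh
        have h1 : h • (QuotientGroup.mk g : H ⧸ K') = QuotientGroup.mk g :=
          Equiv.ext_iff.1 h0 (QuotientGroup.mk g)
        rw [MulAction.Quotient.smul_mk, QuotientGroup.eq, smul_eq_mul] at h1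
        have h2 := K'.inv_mem h1
        simpa [mul_assoc] using h2
      have hhK : (h : G) ∈ K := Subgroup.mem_subgroupOf.1 (by simpa using hh' 1)
      refine Subgroup.mem_bot.2 (Subtype.ext (hinj _ hhK ?_))
      rw [hC, Subgroup.mem_centralizer_iff]
      intro x hx
      have h3 : x⁻¹ * (h : G) * x ∈ K := hh' ⟨x, Subgroup.mem_sup_left hx⟩
      have h4 : (h : G)⁻¹ * (x⁻¹ * h * x) = 1 := by
        refine hinj _ (K.mul_mem (K.inv_mem hhK) h3) (hPC ?_)
        rw [show (h : G)⁻¹ * (x⁻¹ * h * x) = ((h : G)⁻¹ * x⁻¹ * h) * x by group]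
        exact P.mul_mem (by simpa using (inferInstance : P.Normal).conj_mem _ (P.inv_mem hx) (h : G)⁻¹) hx
      calc x * (h : G) = x * ((h : G) * ((h : G)⁻¹ * (x⁻¹ * h * x))) := by rw [h4, mul_one]
        _ = h * x := by group
    refine ⟨MulEquiv.ofBijective ψ ((Nat.bijective_iff_injective_and_card ψ).2 ⟨hinjψ, ?_⟩)⟩
    have h6 : Nat.card K = 6 := by
      rw [← hP6]
      refine Nat.card_eq_of_bijective (fun k : K => φ k) ⟨?_, ?_⟩
      · intro k k' h
        simp only at h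
        have h1 : φ ((k : G)⁻¹ * k') = 1 := by rw [map_mul, map_inv, ← h, inv_mul_cancel]
        exact Subtype.ext (inv_mul_eq_one.1 (hinj _ (K.mul_mem (K.inv_mem k.2) k'.2) ((hφ0 _).1 h1)))
      · intro σ
        obtain ⟨g, rfl⟩ := hsurj σ
        obtain ⟨k, hk, hkg⟩ := hKsurj g
        exact ⟨⟨k, hk⟩, hkg⟩
    rw [Subgroup.card_eq_card_quotient_mul_card_subgroup K', hcard4,
      Nat.card_congr (Subgroup.subgroupOfEquivOfLe (le_sup_right : K ≤ H)).toEquiv, h6,
      Nat.card_eq_fintype_card, Fintype.card_perm, Fintype.card_fin]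
    rfl

end CfsgLib.UnitPSingular
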